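import Groth.Agent.LocCohLib.NonVanishing
import Groth.Agent.CommAlgDim.Depth

/-! Consequences of nonvanishing; depth under flat base change. -/

set_option autoImplicit false
set_option maxHeartbeats 800000
universe u

noncomputable section

open CategoryTheory Limits TensorProduct

namespace LocCohLib

variable {A : Type u} [CommRing A] [IsNoetherianRing A] {B : Type u} [CommRing B] [Algebra A B]
  [IsNoetherianRing B]

theorem idealDepth_baseChange_ge [Module.Flat A B] (I : Ideal A) (M : Type u) [AddCommGroup M] [Module A M]
    [Module.Finite A M] : LocCoh.idealDepth I M ≤ LocCoh.idealDepth (I.map (algebraMap A B)) (B ⊗[A] M) :=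
  ENat.forall_natCast_le_iff_le.1 fun n hn =>
    (le_idealDepth_iff_subsingleton_H (B ⊗[A] M) n).2 fun i hi =>
      haveI := (le_idealDepth_iff_subsingleton_H M n).1 hn i hi
      (tensLcEquiv I M i).symm.injective.subsingleton

theorem idealDepth_baseChange_eq [Module.FaithfullyFlat A B] (I : Ideal A) (M : Type u) [AddCommGroup M]
    [Module A M] [Module.Finite A M] :
    LocCoh.idealDepth (I.map (algebraMap A B)) (B ⊗[A] M) = LocCoh.idealDepth I M :=
  le_antisymm (ENat.forall_natCast_le_iff_le.1 fun n hn =>
    (le_idealDepth_iff_subsingleton_H M n).2 fun i hi =>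
      haveI := (le_idealDepth_iff_subsingleton_H (B ⊗[A] M) n).1 hn i hi
      haveI : Subsingleton (B ⊗[A] LocCoh.H I i M) := (tensLcEquiv I M i).injective.subsingleton
      Module.FaithfullyFlat.lTensor_reflects_triviality A B _) (idealDepth_baseChange_ge I M)

theorem supportDim_localization_lt [IsLocalRing A] (M : Type u) [AddCommGroup M] [Module A M]
    [Module.Finite A M] (p : Ideal A) [p.IsPrime] (hp : p ≠ IsLocalRing.maximalIdeal A) (n : ℕ)
    (hn : Module.supportDim A M = n) :
    Module.supportDim (Localization.AtPrime p) (LocalizedModule p.primeCompl M) < (n : WithBot ℕ∞) := by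
  rcases subsingleton_or_nontrivial (LocalizedModule p.primeCompl M) with h | h
  · rw [Module.supportDim_eq_bot_of_subsingleton]
    exact WithBot.bot_lt_coe _
  let g : Module.support (Localization.AtPrime p) (LocalizedModule p.primeCompl M) → Module.support A M := fun P =>
    ⟨⟨P.1.asIdeal.comap (algebraMap A (Localization.AtPrime p)), inferInstance⟩, by
      have hP := P.2
      rw [Module.mem_support_iff_of_finite] at hP ⊢
      intro a ha
      refine hP (Module.mem_annihilator.2 fun z => ?_)
      obtain ⟨⟨m, s⟩, rfl⟩ := IsLocalizedModule.mk'_surjective p.primeCompl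
        (LocalizedModule.mkLinearMap p.primeCompl M) z
      rw [Function.uncurry_apply_pair, algebraMap_smul, ← IsLocalizedModule.mk'_smul,
        Module.mem_annihilator.1 ha m, IsLocalizedModule.mk'_zero]⟩
  have hg : StrictMono g := fun P Q hPQ => by
    refine lt_of_le_of_ne (fun x hx => (PrimeSpectrum.asIdeal_le_asIdeal _ _).2 (le_of_lt hPQ) hx) fun heq => ?_
    refine (ne_of_lt hPQ) (Subtype.ext (PrimeSpectrum.ext ?_))
    have := congrArg (fun w : Module.support A M => Ideal.map (algebraMap A (Localization.AtPrime p)) w.1.asIdeal) heq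
    simpa only [g, IsLocalization.map_under, IsLocalization.map_comap p.primeCompl] using this
  have hm : IsLocalRing.closedPoint A ∈ Module.support A M := by
    haveI : Nontrivial M := (Module.supportDim_ne_bot_iff_nontrivial A M).1 (by rw [hn]; exact WithBot.coe_ne_bot)
    obtain ⟨P, hP⟩ := Module.nonempty_support_of_nontrivial (R := A) (M := M)
    rw [Module.mem_support_iff_of_finite] at hP ⊢
    exact hP.trans (IsLocalRing.le_maximalIdeal P.2.ne_top)
  have key : ∀ q : LTSeries (Module.support (Localization.AtPrime p) (LocalizedModule p.primeCompl M)),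
      ((q.length + 1 : ℕ) : WithBot ℕ∞) ≤ Module.supportDim A M := by
    intro q
    refine le_of_eq_of_le ?_ (Order.LTSeries.length_le_krullDim ((q.map g hg).snoc ⟨_, hm⟩ ?_))
    · rw [RelSeries.snoc_length]; simp
    · show (((q.map g hg).last) : Module.support A M) < _
      refine lt_of_le_of_ne ?_ fun heq => ?_
      · exact (PrimeSpectrum.asIdeal_le_asIdeal _ _).1 (IsLocalRing.le_maximalIdeal (g q.last).1.2.ne_top)
      · refine hp (le_antisymm (IsLocalRing.le_maximalIdeal (Ideal.IsPrime.ne_top ‹_›)) ?_)
        have h2 := congrArg (fun w : Module.support A M => w.1.asIdeal) heq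
        simp only [LTSeries.last_map] at h2
        intro x hx
        by_contra hxp
        have h3 : x ∈ (g q.last).1.asIdeal := h2.symm ▸ hx
        exact q.last.1.2.ne_top (Ideal.eq_top_of_isUnit_mem _ h3
          (IsLocalization.map_units (Localization.AtPrime p) (⟨x, hxp⟩ : p.primeCompl)))
  rw [hn] at key
  haveI : Nonempty (Module.support (Localization.AtPrime p) (LocalizedModule p.primeCompl M)) :=
    Module.nonempty_support_of_nontrivial.to_subtype
  rw [Module.supportDim, Order.krullDim_eq_iSup_length]
  refine WithBot.coe_lt_coe.2 ?_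
  obtain ⟨m, rfl⟩ : ∃ m, n = m + 1 := by
    refine ⟨n - 1, ?_⟩
    have := key (RelSeries.singleton _ (Classical.arbitrary _))
    have h' : 1 ≤ n := by simpa using this
    omega
  refine lt_of_le_of_lt (iSup_le fun q => ?_) (Nat.cast_lt.2 (Nat.lt_succ_self m))
  have h' : q.length + 1 ≤ m + 1 := by exact_mod_cast key q
  exact Nat.cast_le.2 (Nat.le_of_succ_le_succ h')

end LocCohLib
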