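import Groth.Agent.LocCohLib.Flasque
import Mathlib.Algebra.Category.ModuleCat.ChangeOfRings
import Mathlib.RingTheory.Localization.BaseChange

/-! Change of rings for local cohomology. -/

set_option autoImplicit false
set_option maxHeartbeats 800000
universe u

noncomputable section

open CategoryTheory Limits TensorProduct

namespace LocCohLib

section Compose

variable {B C D E : Type*} [Category B] [Abelian B] [Category C] [Abelian C] [Category D] [Abelian D]
  [Category E] [Abelian E]

/-- Precomposition with an exact functor. -/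
def DeltaFun.precomp (T : DeltaFun C D) (G : B ⥤ C) [G.PreservesZeroMorphisms]
    (hG : ∀ {S : ShortComplex B}, S.ShortExact → (S.map G).ShortExact) : DeltaFun B D where
  F i := G ⋙ T.F i
  preservesZero i := haveI := T.preservesZero i; inferInstance
  δ hS i := T.δ (hG hS) i
  δ_natural hS hS' φ i := T.δ_natural (hG hS) (hG hS') (G.mapShortComplex.map φ) i
  map_comp_δ hS i := T.map_comp_δ (hG hS) i
  δ_comp_map hS i := T.δ_comp_map (hG hS) i
  exact₁ hS i := T.exact₁ (hG hS) i
  exact₂ hS i := T.exact₂ (hG hS) i
  exact₃ hS i := T.exact₃ (hG hS) i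
  mono₀ hS := T.mono₀ (hG hS)

/-- Postcomposition with an exact functor. -/
def DeltaFun.postcomp (T : DeltaFun C D) (G : D ⥤ E) [G.PreservesZeroMorphisms]
    [PreservesFiniteLimits G] [PreservesFiniteColimits G] : DeltaFun C E where
  F i := T.F i ⋙ G
  preservesZero i := haveI := T.preservesZero i; inferInstance
  δ hS i := G.map (T.δ hS i)
  δ_natural hS hS' φ i := by
    show G.map _ ≫ G.map _ = G.map _ ≫ G.map _
    rw [← G.map_comp, ← G.map_comp, T.δ_natural]
  map_comp_δ hS i := by
    show G.map _ ≫ G.map _ = 0
    rw [← G.map_comp, T.map_comp_δ, G.map_zero]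
  δ_comp_map hS i := by
    show G.map _ ≫ G.map _ = 0
    rw [← G.map_comp, T.δ_comp_map, G.map_zero]
  exact₁ hS i := (T.exact₁ hS i).map G
  exact₂ hS i := by
    haveI := T.preservesZero i
    exact (T.exact₂ hS i).map G
  exact₃ hS i := (T.exact₃ hS i).map G
  mono₀ {S} hS := by
    have := T.mono₀ hS
    show Mono (G.map ((T.F 0).map S.f))
    infer_instance

theorem DeltaFun.Effaceable.postcomp {T : DeltaFun C D} (h : T.Effaceable) (G : D ⥤ E)
    [G.PreservesZeroMorphisms] [PreservesFiniteLimits G] [PreservesFiniteColimits G] :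
    (T.postcomp G).Effaceable := fun X hX i => G.map_isZero (h X hX i)

end Compose

variable (R : Type u) [CommRing R] (R' : Type u) [CommRing R'] [Algebra R R']

/-- `M ↦ R' ⊗ M`. -/
def tensF : ModuleCat.{u} R ⥤ ModuleCat.{u} R' where
  obj M := ModuleCat.of R' (R' ⊗[R] M)
  map g := ModuleCat.ofHom (g.hom.baseChange R')
  map_id M := by
    apply ModuleCat.hom_ext
    exact LinearMap.baseChange_id
  map_comp f g := by
    apply ModuleCat.hom_ext
    exact LinearMap.baseChange_comp _ _

instance : (tensF R R').Additive where
  map_add {M N f g} := by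
    apply ModuleCat.hom_ext
    exact LinearMap.baseChange_add f.hom g.hom

theorem map_exact_tensF [Module.Flat R R'] (S : ShortComplex (ModuleCat.{u} R)) (hS : S.Exact) :
    (S.map (tensF R R')).Exact :=
  (ShortComplex.ShortExact.moduleCat_exact_iff_function_exact _).2
    (Module.Flat.lTensor_exact R' ((ShortComplex.ShortExact.moduleCat_exact_iff_function_exact _).1 hS))

instance [Module.Flat R R'] : PreservesFiniteLimits (tensF R R') := by
  have h := ((Functor.exact_tfae (tensF R R')).out 1 3).mp (map_exact_tensF R R')
  exact h.1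

instance [Module.Flat R R'] : PreservesFiniteColimits (tensF R R') := by
  have h := ((Functor.exact_tfae (tensF R R')).out 1 3).mp (map_exact_tensF R R')
  exact h.2

/-- Restriction of scalars. -/
abbrev resF : ModuleCat.{u} R' ⥤ ModuleCat.{u} R := ModuleCat.restrictScalars (algebraMap R R')

variable {R R'}

/-- The tower on a module over the bigger ring. -/
theorem tower_compHom (M : Type u) [AddCommGroup M] [Module R' M] :
    letI : Module R M := Module.compHom M (algebraMap R R')
    IsScalarTower R R' M :=
  letI : Module R M := Module.compHom M (algebraMap R R')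
  ⟨fun r s m => by
    rw [Algebra.smul_def]
    exact mul_smul _ _ _⟩

theorem mem_gamma_resF (M : ModuleCat.{u} R') (I : Ideal R) (m : M) :
    m ∈ DRing.torsionSub (I.map (algebraMap R R')) M ↔
      (show (resF R R').obj M from m) ∈ DRing.torsionSub I ((resF R R').obj M) :=
  letI : Module R M := Module.compHom M (algebraMap R R')
  haveI := tower_compHom (R := R) (R' := R') M
  mem_torsionSub_map (M := M) I m

/-- A module viewed over the smaller ring. -/
def resEquiv (M' : Type u) [AddCommGroup M'] [Module R' M'] [Module R M'] [IsScalarTower R R' M'] :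
    (resF R R').obj (ModuleCat.of R' M') ≃ₗ[R] M' where
  toFun x := x
  invFun x := x
  map_add' _ _ := rfl
  map_smul' r x := algebraMap_smul R' r (show M' from x)
  left_inv _ := rfl
  right_inv _ := rfl

variable [IsNoetherianRing R] [IsNoetherianRing R'] (I : Ideal R)

/-- Local cohomology over `R` of `R'`-modules. -/
def resLcDelta : DeltaFun (ModuleCat.{u} R') (ModuleCat.{u} R) :=
  (lcDelta I).precomp (resF R R') fun hS => hS.map_of_exact _

theorem resLcDelta_effaceable : (resLcDelta (R' := R') I).Effaceable := by
  intro E hE i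
  have hinj : Module.Injective R' E := Module.injective_module_of_injective_object R' E
  letI : Module R E := Module.compHom E (algebraMap R R')
  haveI := tower_compHom (R := R) (R' := R') E
  exact ModuleCat.isZero_iff_subsingleton.2
    (subsingleton_H_restrict I (E : Type u) (Module.Baer.of_injective hinj : Module.Baer R' E)
      (i + 1) (Nat.succ_pos i))

/-- Local cohomology over `R'`, viewed over `R`. -/
def lcResDelta : DeltaFun (ModuleCat.{u} R') (ModuleCat.{u} R) :=
  (lcDelta (I.map (algebraMap R R'))).postcomp (resF R R')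

omit [IsNoetherianRing R] [IsNoetherianRing R'] in
/-- Torsion does not depend on the ring. -/
def gammaResIso : DRing.gammaI (I.map (algebraMap R R')) ⋙ resF R R' ≅ resF R R' ⋙ DRing.gammaI I :=
  NatIso.ofComponents
    (fun M => (show (resF R R').obj ((DRing.gammaI (I.map (algebraMap R R'))).obj M) ≃ₗ[R]
        DRing.torsionSub I ((resF R R').obj M) from
      { toFun := fun x => ⟨x.1, (mem_gamma_resF M I _).1 x.2⟩
        invFun := fun x => ⟨x.1, (mem_gamma_resF M I _).2 x.2⟩
        map_add' := fun _ _ => rfl
        map_smul' := fun _ _ => rfl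
        left_inv := fun _ => rfl
        right_inv := fun _ => rfl }).toModuleIso)
    (fun g => by ext x; exact Subtype.ext rfl)

/-- Independence of the base ring. -/
def resLcIso (i : ℕ) :
    localCohomology (I.map (algebraMap R R')) i ⋙ resF R R' ≅ resF R R' ⋙ localCohomology I i :=
  DeltaFun.isoOfZero (T := lcResDelta I) (T' := resLcDelta I)
    ((lcDelta_effaceable _).postcomp _) (resLcDelta_effaceable I)
    (Functor.isoWhiskerRight (lcZeroIso _) _ ≪≫ gammaResIso I ≪≫
      (Functor.isoWhiskerLeft (resF R R') (lcZeroIso I)).symm) i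

/-- `H^i_{IR'}(M') ≅ H^i_I(M')`. -/
def resLcEquiv (M' : Type u) [AddCommGroup M'] [Module R' M'] [Module R M'] [IsScalarTower R R' M']
    (i : ℕ) : (resF R R').obj (ModuleCat.of R' (LocCoh.H (I.map (algebraMap R R')) i M')) ≃ₗ[R]
      LocCoh.H I i M' :=
  ((resLcIso I i).app (ModuleCat.of R' M') ≪≫
    (localCohomology I i).mapIso (resEquiv M').toModuleIso).toLinearEquiv

theorem exists_addEquiv_restrict (M' : Type u) [AddCommGroup M'] [Module R' M'] [Module R M']
    [IsScalarTower R R' M'] (i : ℕ) :
    ∃ φ : LocCoh.H (I.map (algebraMap R R')) i M' ≃+ LocCoh.H I i M',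
      ∀ (r : R) (x : LocCoh.H (I.map (algebraMap R R')) i M'), φ (algebraMap R R' r • x) = r • φ x :=
  ⟨(resLcEquiv I M' i).toAddEquiv, fun r x => (resLcEquiv I M' i).map_smul r x⟩

variable [Module.Flat R R']

omit [IsNoetherianRing R'] in
theorem torsion_tensor (M : Type u) [AddCommGroup M] [Module R M] :
    LinearMap.range ((DRing.torsionSub I M).subtype.baseChange R') =
      DRing.torsionSub (I.map (algebraMap R R')) (R' ⊗[R] M) := by
  ext x
  rw [mem_torsionSub_map, ← range_lTensor_torsion M I (IsNoetherian.noetherian I)]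
  rfl

/-- `R' ⊗ Γ_I M = Γ_{IR'}(R' ⊗ M)`. -/
def gammaTensEquiv (M : Type u) [AddCommGroup M] [Module R M] :
    R' ⊗[R] DRing.torsionSub I M ≃ₗ[R'] DRing.torsionSub (I.map (algebraMap R R')) (R' ⊗[R] M) :=
  (LinearEquiv.ofInjective ((DRing.torsionSub I M).subtype.baseChange R')
    (Module.Flat.lTensor_preserves_injective_linearMap _ Subtype.val_injective)).trans
    (LinearEquiv.ofEq _ _ (torsion_tensor I M))

omit [IsNoetherianRing R'] in
theorem gammaTensEquiv_coe (M : Type u) [AddCommGroup M] [Module R M] (x : R' ⊗[R] DRing.torsionSub I M) :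
    (gammaTensEquiv I M x : R' ⊗[R] M) = (DRing.torsionSub I M).subtype.baseChange R' x := rfl

/-- Torsion commutes with flat base change, naturally. -/
def gammaTensIso : DRing.gammaI I ⋙ tensF R R' ≅ tensF R R' ⋙ DRing.gammaI (I.map (algebraMap R R')) :=
  NatIso.ofComponents (fun M => (gammaTensEquiv I M).toModuleIso)
    (fun {M N} g => by
      ext x
      apply Subtype.ext
      let h : DRing.torsionSub I M →ₗ[R] DRing.torsionSub I N := ((DRing.gammaI I).map g).hom
      have key : ∀ y : R' ⊗[R] DRing.torsionSub I M,
          (DRing.torsionSub I N).subtype.baseChange R' (h.baseChange R' y) =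
          g.hom.baseChange R' ((DRing.torsionSub I M).subtype.baseChange R' y) := by
        intro y
        induction y using TensorProduct.induction_on with
        | zero => simp
        | tmul r m => rfl
        | add a b ha hb => simp only [map_add, ha, hb]
      exact key x)

/-- Local cohomology of a base change. -/
def tensLcDelta : DeltaFun (ModuleCat.{u} R) (ModuleCat.{u} R') :=
  (lcDelta (I.map (algebraMap R R'))).precomp (tensF R R') fun hS => hS.map_of_exact _

theorem tensLcDelta_effaceable : (tensLcDelta (R' := R') I).Effaceable := by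
  intro E hE i
  have : Module.Injective R E := Module.injective_module_of_injective_object R E
  exact ModuleCat.isZero_iff_subsingleton.2
    (subsingleton_H_tensor I E (Module.Baer.of_injective this) (i + 1) (Nat.succ_pos i))

/-- Flat base change. -/
def tensLcIso (i : ℕ) :
    localCohomology I i ⋙ tensF R R' ≅ tensF R R' ⋙ localCohomology (I.map (algebraMap R R')) i :=
  DeltaFun.isoOfZero (T := (lcDelta I).postcomp (tensF R R')) (T' := tensLcDelta I)
    ((lcDelta_effaceable I).postcomp _) (tensLcDelta_effaceable I)
    (Functor.isoWhiskerRight (lcZeroIso I) _ ≪≫ gammaTensIso I ≪≫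
      (Functor.isoWhiskerLeft (tensF R R') (lcZeroIso _)).symm) i

/-- `R' ⊗ H^i_I M ≅ H^i_{IR'}(R' ⊗ M)`. -/
def tensLcEquiv (M : Type u) [AddCommGroup M] [Module R M] (i : ℕ) :
    R' ⊗[R] LocCoh.H I i M ≃ₗ[R'] LocCoh.H (I.map (algebraMap R R')) i (R' ⊗[R] M) :=
  ((tensLcIso I i).app (ModuleCat.of R M)).toLinearEquiv

end LocCohLib
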