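import Groth.Agent.LocCohLib.Compare
import Groth.Agent.CommAlgDim.Depth

/-! First consequences: torsion, vanishing, depth. -/

set_option autoImplicit false
set_option maxHeartbeats 400000
universe u

noncomputable section

open CategoryTheory Limits Pointwise

namespace LocCohLib

section Elem

variable {R : Type u} [CommRing R]

theorem moduleCat_zero_of_isZero {X : ModuleCat.{u} R} (h : IsZero X) : Subsingleton X :=
  ModuleCat.isZero_iff_subsingleton.1 h

theorem DeltaFun.Effaceable.map_smul {T : DeltaFun (ModuleCat.{u} R) (ModuleCat.{u} R)}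
    (h : T.Effaceable) (x : R) (h0 : ∀ M, (T.F 0).map (x • 𝟙 M) = x • 𝟙 _) :
    ∀ (i : ℕ) (M : ModuleCat.{u} R), (T.F i).map (x • 𝟙 M) = x • 𝟙 _
  | 0, M => h0 M
  | i + 1, M => by
    let S := DeltaFun.under (ModuleCat.{u} R) M
    have hS : S.ShortExact := DeltaFun.under_shortExact M
    let φ : S ⟶ S :=
      { τ₁ := x • 𝟙 _
        τ₂ := x • 𝟙 _
        τ₃ := x • 𝟙 _
        comm₁₂ := by simp
        comm₂₃ := by simp }
    have : Epi (T.δ hS i) := T.epi_δ hS i (h _ (inferInstanceAs (Injective (Injective.under M))) i)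
    show (T.F (i + 1)).map (x • 𝟙 S.X₁) = x • 𝟙 ((T.F (i + 1)).obj S.X₁)
    rw [← cancel_epi (T.δ hS i)]
    refine (T.δ_natural hS hS φ i).trans ?_
    show (T.F i).map (x • 𝟙 S.X₃) ≫ T.δ hS i = _
    rw [DeltaFun.Effaceable.map_smul h x h0 i S.X₃]
    simp

variable (I : Ideal R)

theorem isPowerTorsion_gamma (M : ModuleCat.{u} R) :
    ∀ y : (DRing.gammaI I).obj M, ∃ n : ℕ, ∀ a ∈ I ^ n, a • y = 0 := fun y => by
  obtain ⟨n, hn⟩ := y.2
  exact ⟨n, fun a ha => Subtype.ext (hn a ha)⟩

theorem torsion_of_linearEquiv {M N : Type u} [AddCommGroup M] [Module R M] [AddCommGroup N] [Module R N]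
    (e : M ≃ₗ[R] N) (h : LocCoh.IsPowerTorsion I M) : LocCoh.IsPowerTorsion I N := fun y => by
  obtain ⟨n, hn⟩ := h (e.symm y)
  exact ⟨n, fun a ha => e.symm.injective (by rw [map_smul, hn a ha, map_zero])⟩

end Elem

variable {R : Type u} [CommRing R] [IsNoetherianRing R] (I : Ideal R)

omit [IsNoetherianRing R] in
/-- `H^0_I M ≅ Γ_I M`. -/
def H0Equiv (M : Type u) [AddCommGroup M] [Module R M] : LocCoh.H I 0 M ≃ₗ[R] DRing.torsionSub I M :=
  ((lcZeroIso I).app (ModuleCat.of R M)).toLinearEquiv

omit [IsNoetherianRing R] in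
theorem map_smul_id (x : R) (i : ℕ) (M : ModuleCat.{u} R) :
    (localCohomology I i).map (x • 𝟙 M) = x • 𝟙 _ := by
  refine (lcDelta_effaceable I).map_smul x (fun N => ?_) i M
  show (localCohomology I 0).map (x • 𝟙 N) = x • 𝟙 _
  rw [← cancel_mono ((lcZeroIso I).hom.app N), (lcZeroIso I).hom.naturality]
  have : (DRing.gammaI I).map (x • 𝟙 N) = x • 𝟙 _ := by
    ext y
    exact Subtype.ext rfl
  rw [this]
  ext y
  exact (map_smul ((lcZeroIso I).hom.app N).hom x y).symm

omit [IsNoetherianRing R] in
theorem isPowerTorsion_H (i : ℕ) (M : Type u) [AddCommGroup M] [Module R M] :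
    LocCoh.IsPowerTorsion I (LocCoh.H I i M) := by
  have key : ∀ (i : ℕ) (M : ModuleCat.{u} R), ∀ y : (localCohomology I i).obj M,
      ∃ n : ℕ, ∀ a ∈ I ^ n, a • y = 0 := by
    intro i
    induction i with
    | zero =>
      intro M
      exact torsion_of_linearEquiv I ((lcZeroIso I).app M).toLinearEquiv.symm (isPowerTorsion_gamma I M)
    | succ i ih =>
      intro M y
      have hS := DeltaFun.under_shortExact M
      have : Epi ((lcDelta I).δ hS i) := (lcDelta I).epi_δ hS i
        (lcDelta_effaceable I _ (inferInstanceAs (Injective (Injective.under M))) i)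
      obtain ⟨z, hz⟩ := (ModuleCat.epi_iff_surjective _).1 this y
      obtain ⟨n, hn⟩ := ih _ z
      subst hz
      exact ⟨n, fun a ha => (map_smul ((lcDelta I).δ hS i).hom a z).symm.trans
        ((congrArg ((lcDelta I).δ hS i).hom (hn a ha)).trans (map_zero _))⟩
  exact key i _

theorem subsingleton_H_of_length_lt (fs : List R) (h : Ideal.span {x | x ∈ fs} = I) (i : ℕ)
    (hi : fs.length < i) (M : Type u) [AddCommGroup M] [Module R M] : Subsingleton (LocCoh.H I i M) := by
  have key : ∀ (fs : List R) (i : ℤ), (fs.length : ℤ) < i →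
      IsZero ((DerCA.extCech (ModuleCat.of R M) fs).homology i) := by
    intro fs
    induction fs with
    | nil =>
      exact fun i hi => (HomologicalComplex.exactAt_iff_isZero_homology _ _).1
        (HomologicalComplex.exactAt_single_obj _ _ _ _ (by simp at hi; omega))
    | cons f fs ih =>
      intro i hi
      simp only [List.length_cons, Nat.cast_add, Nat.cast_one] at hi
      have := isZero_cocone' (DerCA.locCxUnit (Submonoid.powers f) (DerCA.extCech (ModuleCat.of R M) fs))
        (i - 1) (by rw [sub_add_cancel]; exact ih i (by omega))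
        (isZero_homology_locCx _ _ _ (ih (i - 1) (by omega)))
      rw [sub_add_cancel] at this
      exact this
  exact (cechEquiv fs I h i M).toEquiv.subsingleton_congr.2
    (moduleCat_zero_of_isZero (key fs i (by exact_mod_cast hi)))

omit [IsNoetherianRing R] in
theorem subsingleton_loc_of_torsion (f : R) (M : Type u) [AddCommGroup M] [Module R M]
    (h : ∀ m : M, ∃ k : ℕ, f ^ k • m = 0) : Subsingleton (LocalizedModule (Submonoid.powers f) M) := by
  rw [LocalizedModule.subsingleton_iff]
  exact fun m => (h m).elim fun k hk => ⟨f ^ k, ⟨k, rfl⟩, hk⟩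

/-- A torsion module has no higher local cohomology. -/
theorem subsingleton_H_of_torsion (M : Type u) [AddCommGroup M] [Module R M]
    (hM : LocCoh.IsPowerTorsion I M) (i : ℕ) (hi : 0 < i) : Subsingleton (LocCoh.H I i M) := by
  obtain ⟨fs, hfs⟩ := exists_list_span I
  have key : ∀ (l : List R), (∀ x ∈ l, x ∈ I) → ∀ n : ℕ,
      IsZero ((DerCA.extCech (ModuleCat.of R M) l).homology ((n : ℤ) + 1)) := by
    intro l
    induction l with
    | nil =>
      exact fun _ n => (HomologicalComplex.exactAt_iff_isZero_homology _ _).1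
        (HomologicalComplex.exactAt_single_obj _ _ _ _ (by omega))
    | cons f l ih =>
      intro hl n
      have hl' : ∀ x ∈ l, x ∈ I := fun x hx => hl x (List.mem_cons_of_mem _ hx)
      refine isZero_cocone' (DerCA.locCxUnit (Submonoid.powers f) (DerCA.extCech (ModuleCat.of R M) l))
        (n : ℤ) (ih hl' n) ?_
      rcases n with _ | n
      · refine IsZero.of_iso ?_ (((DerCA.extCech (ModuleCat.of R M) l).sc ((0 : ℕ) : ℤ)).mapHomologyIso
          (DerCA.locFunctor (Submonoid.powers f)))
        refine ModuleCat.isZero_iff_subsingleton.2 (subsingleton_loc_of_torsion f _ fun y => ?_)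
        obtain ⟨k, hk⟩ := hM ((toM l (ModuleCat.of R M)).hom y)
        refine ⟨k, (toM_spec (ModuleCat.of R M) l).1 ?_⟩
        exact ((toM l (ModuleCat.of R M)).hom.map_smul (f ^ k) y).trans
          ((hk _ (Ideal.pow_mem_pow (hl f (List.mem_cons_self ..)) k)).trans (map_zero _).symm)
      · refine isZero_homology_locCx _ _ _ ?_
        exact_mod_cast ih hl' n
  obtain ⟨n, rfl⟩ := Nat.exists_eq_add_of_lt hi
  refine (cechEquiv fs I hfs (0 + n + 1) M).toEquiv.subsingleton_congr.2 (moduleCat_zero_of_isZero ?_)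
  have := key fs (fun x hx => hfs ▸ Ideal.subset_span hx) n
  rw [show ((0 + n + 1 : ℕ) : ℤ) = (n : ℤ) + 1 by push_cast; ring]
  exact this

omit [IsNoetherianRing R] in
theorem H0Equiv_of_torsion (M : Type u) [AddCommGroup M] [Module R M]
    (hM : LocCoh.IsPowerTorsion I M) : Nonempty (LocCoh.H I 0 M ≃ₗ[R] M) :=
  ⟨(H0Equiv I M).trans ((LinearEquiv.ofEq _ ⊤ (eq_top_iff.2 fun m _ => hM m)).trans Submodule.topEquiv)⟩

theorem subsingleton_H0_iff (M : Type u) [AddCommGroup M] [Module R M] :
    Subsingleton (LocCoh.H I 0 M) ↔ ∀ p ∈ associatedPrimes R M, ¬ I ≤ p := by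
  rw [(H0Equiv I M).toEquiv.subsingleton_congr, Submodule.subsingleton_iff_eq_bot, eq_bot_iff]
  refine ⟨fun h p hp hle => ?_, fun h m ⟨n, hn⟩ => ?_⟩
  · obtain ⟨hpp, v, hv⟩ := (isAssociatedPrime_iff (R := R) (I := p) (M := M)).1 hp
    have hv0 : v = 0 := (Submodule.mem_bot R).1 (h (⟨1, fun a ha => by
      rw [pow_one] at ha
      have := hle ha
      rw [hv, Submodule.mem_colon_singleton, Submodule.mem_bot] at this
      exact this⟩))
    exact hpp.ne_top ((Ideal.eq_top_iff_one _).2 (by
      rw [hv, Submodule.mem_colon_singleton, hv0, smul_zero]; exact zero_mem _))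
  · rw [Submodule.mem_bot]
    by_contra hne
    obtain ⟨P, hP, hmP⟩ := exists_le_isAssociatedPrime_of_isNoetherianRing R m hne
    exact h P hP fun x hx => hP.isPrime.mem_of_pow_mem n (hmP (by
      rw [Submodule.mem_colon_singleton, Submodule.mem_bot]; exact hn _ (Ideal.pow_mem_pow hx n)))

variable {I}

omit [IsNoetherianRing R] in
theorem smulSeq {M : Type u} [AddCommGroup M] [Module R M] {x : R} (hx : IsSMulRegular M x) :
    (ModuleCat.smulShortComplex (ModuleCat.of R M) x).ShortExact :=
  IsSMulRegular.smulShortComplex_shortExact (M := ModuleCat.of R M) hx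

omit [IsNoetherianRing R] in
theorem map_smulShortComplex_f {M : Type u} [AddCommGroup M] [Module R M] (x : R) (i : ℕ)
    (y : LocCoh.H I i M) :
    ((localCohomology I i).map (ModuleCat.smulShortComplex (ModuleCat.of R M) x).f).hom y = x • y := by
  rw [ModuleCat.smulShortComplex_f_eq_smul_id]
  exact ConcreteCategory.congr_hom (map_smul_id I x i (ModuleCat.of R M)) y

omit [IsNoetherianRing R] in
/-- Multiplication by a regular element kills nothing when the previous group of the quotient vanishes. -/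
theorem smul_injective_of_quot {M : Type u} [AddCommGroup M] [Module R M] {x : R}
    (hx : IsSMulRegular M x) (i : ℕ)
    (hq : ∀ j, j + 1 = i → Subsingleton (LocCoh.H I j (QuotSMulTop x M))) (y : LocCoh.H I i M)
    (hy : x • y = 0) : y = 0 := by
  have hS := smulSeq hx
  have hy' : ((localCohomology I i).map (ModuleCat.smulShortComplex (ModuleCat.of R M) x).f).hom y = 0 := by
    rw [map_smulShortComplex_f]
    exact hy
  rcases i with _ | j
  · have hm : Mono ((localCohomology I 0).map (ModuleCat.smulShortComplex (ModuleCat.of R M) x).f) :=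
      (lcDelta I).mono₀ hS
    exact (ModuleCat.mono_iff_injective _).1 hm (hy'.trans (map_zero _).symm)
  · have := hq j rfl
    obtain ⟨z, hz⟩ := (ShortComplex.moduleCat_exact_iff _).1 ((lcDelta I).exact₁ hS j) y hy'
    have hz0 : z = 0 := Subsingleton.elim (α := LocCoh.H I j (QuotSMulTop x M)) z 0
    rw [← hz, hz0]
    exact map_zero _

omit [IsNoetherianRing R] in
theorem subsingleton_H_quot {M : Type u} [AddCommGroup M] [Module R M] {x : R}
    (hx : IsSMulRegular M x) (i : ℕ) (h : Subsingleton (LocCoh.H I i M))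
    (h' : Subsingleton (LocCoh.H I (i + 1) M)) : Subsingleton (LocCoh.H I i (QuotSMulTop x M)) := by
  have hS := smulSeq hx
  refine ⟨fun a b => sub_eq_zero.1 ?_⟩
  obtain ⟨z, hz⟩ := (ShortComplex.moduleCat_exact_iff _).1 ((lcDelta I).exact₃ hS i) (a - b)
    (Subsingleton.elim (α := LocCoh.H I (i + 1) M) _ _)
  have hz0 : z = 0 := Subsingleton.elim (α := LocCoh.H I i M) z 0
  rw [← hz, hz0]
  exact map_zero _

/-- The depth criterion. -/
theorem hasSeqIn_iff_subsingleton_H : ∀ (n : ℕ) (M : Type u) [AddCommGroup M] [Module R M]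
    [Module.Finite R M], CommAlgDim.HasSeqIn I M n ↔ ∀ i < n, Subsingleton (LocCoh.H I i M)
  | 0, M, _, _, _ => ⟨fun _ i hi => absurd hi (Nat.not_lt_zero i), fun _ => CommAlgDim.hasSeqIn_zero I⟩
  | n + 1, M, _, _, _ => by
    refine ⟨fun h i hi => ?_, fun h => ?_⟩
    · obtain ⟨x, hxI, hx⟩ := CommAlgDim.exists_isSMulRegular_mem
        ((CommAlgDim.hasSeqIn_one_iff I).1 (h.mono (Nat.le_add_left 1 n)))
      have hq := (hasSeqIn_iff_subsingleton_H n _).1 (h.quotSMulTop hxI hx)
      refine ⟨fun a b => sub_eq_zero.1 ?_⟩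
      obtain ⟨k, hk⟩ := isPowerTorsion_H I i M (a - b)
      have hk' : x ^ k • (a - b) = 0 := hk _ (Ideal.pow_mem_pow hxI k)
      induction k with
      | zero => rwa [pow_zero, one_smul] at hk'
      | succ k ih =>
        have h1 : x ^ k • (a - b) = 0 := by
          rw [pow_succ', mul_smul] at hk'
          exact smul_injective_of_quot hx i (fun j hj => hq j (by omega)) _ hk'
        clear hk ih hk'
        induction k with
        | zero => rwa [pow_zero, one_smul] at h1
        | succ k ih =>
          rw [pow_succ', mul_smul] at h1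
          exact ih (smul_injective_of_quot hx i (fun j hj => hq j (by omega)) _ h1)
    · obtain ⟨x, hxI, hx⟩ := CommAlgDim.exists_isSMulRegular_mem
        ((subsingleton_H0_iff I M).1 (h 0 (Nat.succ_pos n)))
      exact CommAlgDim.hasSeqIn_succ_of_cons hxI hx ((hasSeqIn_iff_subsingleton_H n _).2
        fun i hi => subsingleton_H_quot hx i (h i (by omega)) (h (i + 1) (by omega)))

theorem le_idealDepth_iff_subsingleton_H (M : Type u) [AddCommGroup M] [Module R M] [Module.Finite R M]
    (n : ℕ) : (n : ℕ∞) ≤ LocCoh.idealDepth I M ↔ ∀ i < n, Subsingleton (LocCoh.H I i M) :=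
  (CommAlgDim.le_idealDepth_iff I n).trans (hasSeqIn_iff_subsingleton_H n M)

end LocCohLib
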