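import Groth.Agent.LocCohLib.Facts
import Mathlib.CategoryTheory.Limits.Preserves.Filtered
import Mathlib.Algebra.Category.ModuleCat.FilteredColimits
import Mathlib.Algebra.Category.ModuleCat.AB

/-! Local cohomology commutes with directed colimits. -/

set_option autoImplicit false
set_option maxHeartbeats 800000
universe u

noncomputable section

open CategoryTheory Limits

namespace LocCohLib

variable {R : Type u} [CommRing R] [IsNoetherianRing R] {Λ : Type u} [PartialOrder Λ]

/-- The product of injective hulls above an index. -/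
def coE (F : Λ ⥤ ModuleCat.{u} R) : Λ ⥤ ModuleCat.{u} R where
  obj l := ∏ᶜ fun μ : {μ : Λ // l ≤ μ} => Injective.under (F.obj μ.1)
  map {l m} f := Pi.lift fun μ : {μ : Λ // m ≤ μ} =>
    Pi.π (fun ν : {ν : Λ // l ≤ ν} => Injective.under (F.obj ν.1)) ⟨μ.1, (leOfHom f).trans μ.2⟩
  map_id l := by
    apply Pi.hom_ext
    intro μ
    simp
  map_comp f g := by
    apply Pi.hom_ext
    intro μ
    simp

/-- The embedding. -/
def coι (F : Λ ⥤ ModuleCat.{u} R) : F ⟶ coE F where
  app l := Pi.lift fun μ : {μ : Λ // l ≤ μ} => F.map (homOfLE μ.2) ≫ Injective.ι (F.obj μ.1)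
  naturality l m f := by
    apply Pi.hom_ext
    intro μ
    simp only [coE, Category.assoc, Pi.lift_π]
    rw [← Category.assoc, ← F.map_comp]
    rfl

omit [IsNoetherianRing R] in
theorem mono_coι (F : Λ ⥤ ModuleCat.{u} R) (l : Λ) : Mono ((coι F).app l) := by
  have h : (coι F).app l ≫ Pi.π (fun μ : {μ : Λ // l ≤ μ} => Injective.under (F.obj μ.1)) ⟨l, le_rfl⟩ =
      Injective.ι (F.obj l) := by
    refine (Pi.lift_π _ _).trans ?_
    show F.map (𝟙 l) ≫ Injective.ι (F.obj l) = _
    rw [F.map_id, Category.id_comp]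
  haveI : Mono ((coι F).app l ≫
      Pi.π (fun μ : {μ : Λ // l ≤ μ} => Injective.under (F.obj μ.1)) ⟨l, le_rfl⟩) :=
    h ▸ (inferInstance : Mono (Injective.ι (F.obj l)))
  exact mono_of_mono _ (Pi.π (fun μ : {μ : Λ // l ≤ μ} => Injective.under (F.obj μ.1)) ⟨l, le_rfl⟩)

/-- The short exact sequence of systems. -/
abbrev coSeq (F : Λ ⥤ ModuleCat.{u} R) : ShortComplex (Λ ⥤ ModuleCat.{u} R) :=
  ShortComplex.mk (coι F) (cokernel.π (coι F)) (cokernel.condition _)

omit [IsNoetherianRing R] in
theorem coSeq_shortExact (F : Λ ⥤ ModuleCat.{u} R) : (coSeq F).ShortExact := by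
  have : ∀ l, Mono ((coι F).app l) := mono_coι F
  have : Mono (coι F) := NatTrans.mono_of_mono_app _
  exact { exact := ShortComplex.exact_of_g_is_cokernel _ (cokernelIsCokernel _)
          mono_f := this
          epi_g := (inferInstance : Epi (cokernel.π (coι F))) }

variable [IsDirected Λ (· ≤ ·)] [Nonempty Λ]

instance instExactColimDir : HasExactColimitsOfShape Λ (ModuleCat.{u} R) :=
  AB5OfSize.ofShape _

theorem baer_colimit (E : Λ ⥤ ModuleCat.{u} R) (hE : ∀ l, Module.Baer R (E.obj l)) :
    Module.Baer R ↑(colimit E) := by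
  intro J g
  obtain ⟨n, a, ha⟩ := Submodule.fg_iff_exists_fin_generating_family.1 (IsNoetherian.noetherian J)
  let v : Fin n → J := fun i => ⟨a i, ha ▸ Submodule.subset_span ⟨i, rfl⟩⟩
  classical
  choose li yi hyi using fun i => Concrete.colimit_exists_rep E (g (v i))
  obtain ⟨l₀, hl₀⟩ := (Finset.univ.image li).exists_le
  let y : Fin n → E.obj l₀ := fun i => E.map (homOfLE (hl₀ _ (Finset.mem_image_of_mem _ (Finset.mem_univ i)))) (yi i)
  have hy : ∀ i, colimit.ι E l₀ (y i) = g (v i) := fun i => by
    rw [← hyi i]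
    exact ConcreteCategory.congr_hom (colimit.w E _) (yi i)
  let p : (Fin n → R) →ₗ[R] J := Fintype.linearCombination R v
  let q : (Fin n → R) →ₗ[R] E.obj l₀ := Fintype.linearCombination R y
  have hpq : ∀ c, colimit.ι E l₀ (q c) = g (p c) := fun c => by
    simp [p, q, Fintype.linearCombination_apply, hy]
  obtain ⟨s, hs⟩ := (IsNoetherian.noetherian (LinearMap.ker p) : Submodule.FG _)
  have hz : ∀ c : s, ∃ (m : Λ) (h : l₀ ≤ m), E.map (homOfLE h) (q c.1) = 0 := fun c => by
    have h0 : colimit.ι E l₀ (q c.1) = colimit.ι E l₀ 0 := by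
      have hc : c.1 ∈ LinearMap.ker p := by rw [← hs]; exact Submodule.subset_span c.2
      rw [hpq, LinearMap.mem_ker.1 hc, map_zero, map_zero]
    obtain ⟨m, f, f', hf⟩ := (Concrete.colimit_rep_eq_iff_exists E (q c.1) 0).1 h0
    refine ⟨m, leOfHom f, ?_⟩
    rw [Subsingleton.elim (homOfLE (leOfHom f)) f, hf, map_zero]
  choose mc hmc hmc0 using hz
  obtain ⟨m, hm⟩ := (insert l₀ (Finset.univ.image mc)).exists_le
  have hl : l₀ ≤ m := hm _ (Finset.mem_insert_self _ _)
  have hker : LinearMap.ker p ≤ LinearMap.ker ((E.map (homOfLE hl)).hom ∘ₗ q) := by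
    rw [← hs, Submodule.span_le]
    intro c hc
    have hle : mc ⟨c, hc⟩ ≤ m := hm _ (Finset.mem_insert_of_mem (Finset.mem_image_of_mem _ (Finset.mem_univ _)))
    rw [SetLike.mem_coe, LinearMap.mem_ker, LinearMap.comp_apply,
      show homOfLE hl = homOfLE (hmc ⟨c, hc⟩) ≫ homOfLE hle from Subsingleton.elim _ _, E.map_comp]
    show (E.map (homOfLE hle)) ((E.map (homOfLE (hmc ⟨c, hc⟩))) (q c)) = 0
    rw [hmc0 ⟨c, hc⟩, map_zero]
  have hp : Function.Surjective p := by
    rw [← LinearMap.range_eq_top, Fintype.range_linearCombination]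
    apply Submodule.map_injective_of_injective J.subtype_injective
    rw [Submodule.map_span, Submodule.map_subtype_top]
    refine Eq.trans ?_ ha
    congr 1
    ext x
    simp [v]
  let g₀ : J →ₗ[R] E.obj m :=
    ((LinearMap.ker p).liftQ _ hker) ∘ₗ (p.quotKerEquivOfSurjective hp).symm.toLinearMap
  have hg₀ : ∀ c, g₀ (p c) = E.map (homOfLE hl) (q c) := fun c => by
    show (LinearMap.ker p).liftQ _ hker ((p.quotKerEquivOfSurjective hp).symm (p c)) = _
    rw [show (p.quotKerEquivOfSurjective hp).symm (p c) = Submodule.Quotient.mk c from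
      (LinearEquiv.symm_apply_eq _).2 rfl]
    rfl
  obtain ⟨G, hG⟩ := hE m J g₀
  refine ⟨(colimit.ι E m).hom ∘ₗ G, fun x hx => ?_⟩
  obtain ⟨c, hc⟩ := hp ⟨x, hx⟩
  show colimit.ι E m (G x) = g ⟨x, hx⟩
  rw [hG x hx, ← hc, hg₀, ← hpq]
  exact ConcreteCategory.congr_hom (colimit.w E (homOfLE hl)) (q c)

variable (I : Ideal R)

theorem post_apply (F : Λ ⥤ ModuleCat.{u} R) (i : ℕ) (l : Λ) (y : (localCohomology I i).obj (F.obj l)) :
    colimit.post F (localCohomology I i) (colimit.ι (F ⋙ localCohomology I i) l y) =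
      (localCohomology I i).map (colimit.ι F l) y :=
  ConcreteCategory.congr_hom (colimit.ι_post F (localCohomology I i) l) y

theorem bijective_post_zero (F : Λ ⥤ ModuleCat.{u} R) :
    Function.Bijective (colimit.post F (localCohomology I 0)) := by
  have hnat : ∀ {M N : ModuleCat.{u} R} (g : M ⟶ N) (y : (localCohomology I 0).obj M),
      ((lcZeroIso I).hom.app N ((localCohomology I 0).map g y)).1 = g ((lcZeroIso I).hom.app M y).1 :=
    fun g y => congrArg Subtype.val (ConcreteCategory.congr_hom ((lcZeroIso I).hom.naturality g) y)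
  have hinj : ∀ N : ModuleCat.{u} R, Function.Injective ((lcZeroIso I).hom.app N) := fun N =>
    (ConcreteCategory.bijective_of_isIso _).1
  constructor
  · rw [injective_iff_map_eq_zero]
    intro x hx
    obtain ⟨l, y, rfl⟩ := Concrete.colimit_exists_rep (F ⋙ localCohomology I 0) x
    rw [post_apply] at hx
    have h0 : colimit.ι F l ((lcZeroIso I).hom.app (F.obj l) y).1 = colimit.ι F l 0 := by
      rw [← hnat, hx, map_zero, map_zero]
      rfl
    obtain ⟨m, f, f', hf⟩ := (Concrete.colimit_rep_eq_iff_exists F _ 0).1 h0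
    rw [map_zero, ← hnat] at hf
    have : (localCohomology I 0).map (F.map f) y = 0 := hinj _ (by
      rw [map_zero]; exact Subtype.ext hf)
    rw [← colimit.w (F ⋙ localCohomology I 0) f]
    show colimit.ι (F ⋙ localCohomology I 0) m ((localCohomology I 0).map (F.map f) y) = 0
    rw [this, map_zero]
  · intro z
    obtain ⟨n, hn⟩ := ((lcZeroIso I).hom.app (colimit F) z).2
    obtain ⟨l, w, hw⟩ := Concrete.colimit_exists_rep F ((lcZeroIso I).hom.app (colimit F) z).1
    obtain ⟨S, hS⟩ := (IsNoetherian.noetherian (I ^ n) : Submodule.FG _)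
    have hz : ∀ a : S, ∃ (m : Λ) (h : l ≤ m), a.1 • F.map (homOfLE h) w = 0 := fun a => by
      have h0 : colimit.ι F l (a.1 • w) = colimit.ι F l 0 := by
        rw [map_smul, map_zero, hw]
        exact hn a.1 (hS ▸ Submodule.subset_span a.2)
      obtain ⟨m, f, f', hf⟩ := (Concrete.colimit_rep_eq_iff_exists F _ 0).1 h0
      refine ⟨m, leOfHom f, ?_⟩
      rw [← map_smul, Subsingleton.elim (homOfLE (leOfHom f)) f, hf, map_zero]
    choose ma hma hma0 using hz
    classical
    obtain ⟨m, hm⟩ := (insert l (Finset.univ.image ma)).exists_le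
    have hl : l ≤ m := hm _ (Finset.mem_insert_self _ _)
    have hmem : F.map (homOfLE hl) w ∈ DRing.torsionSub I (F.obj m) := by
      refine ⟨n, fun a ha => ?_⟩
      rw [← hS] at ha
      induction ha using Submodule.span_induction with
      | mem b hb =>
        have hle : ma ⟨b, hb⟩ ≤ m := hm _ (Finset.mem_insert_of_mem (Finset.mem_image_of_mem _ (Finset.mem_univ _)))
        rw [show homOfLE hl = homOfLE (hma ⟨b, hb⟩) ≫ homOfLE hle from Subsingleton.elim _ _, F.map_comp]
        show b • (F.map (homOfLE hle)) ((F.map (homOfLE (hma ⟨b, hb⟩))) w) = 0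
        rw [← map_smul, hma0 ⟨b, hb⟩, map_zero]
      | zero => exact zero_smul _ _
      | add u v _ _ hu hv => rw [add_smul, hu, hv, add_zero]
      | smul r u _ hu => rw [smul_eq_mul, mul_smul, hu, smul_zero]
    obtain ⟨y, hy⟩ := (ConcreteCategory.bijective_of_isIso ((lcZeroIso I).hom.app (F.obj m))).2 ⟨_, hmem⟩
    refine ⟨colimit.ι (F ⋙ localCohomology I 0) m y, hinj _ (Subtype.ext ?_)⟩
    rw [post_apply, hnat, hy]
    show colimit.ι F m (F.map (homOfLE hl) w) = _
    rw [← hw]
    exact ConcreteCategory.congr_hom (colimit.w F (homOfLE hl)) w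

theorem bijective_post : ∀ (i : ℕ) (F : Λ ⥤ ModuleCat.{u} R),
    Function.Bijective (colimit.post F (localCohomology I i))
  | 0, F => bijective_post_zero I F
  | i + 1, F => by
    have hS := coSeq_shortExact F
    have hSl : ∀ l, ((coSeq F).map ((evaluation Λ (ModuleCat.{u} R)).obj l)).ShortExact := fun l =>
      hS.map_of_exact _
    have hc : ((coSeq F).map colim).ShortExact := hS.map_of_exact _
    let φ : ∀ l, (coSeq F).map ((evaluation Λ (ModuleCat.{u} R)).obj l) ⟶ (coSeq F).map colim := fun l =>
      { τ₁ := colimit.ι F l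
        τ₂ := colimit.ι (coE F) l
        τ₃ := colimit.ι (coSeq F).X₃ l
        comm₁₂ := (ι_colimMap (coι F) l).trans rfl |>.symm ▸ rfl
        comm₂₃ := (ι_colimMap (cokernel.π (coι F)) l).trans rfl |>.symm ▸ rfl }
    have hinj : ∀ l, Injective ((coE F).obj l) := fun l =>
      inferInstanceAs (Injective (∏ᶜ fun μ : {μ : Λ // l ≤ μ} => Injective.under (F.obj μ.1)))
    have hd : ∀ l, Function.Surjective ((lcDelta I).δ (hSl l) i) := fun l =>
      (ModuleCat.epi_iff_surjective _).1 ((lcDelta I).epi_δ (hSl l) i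
        (lcDelta_effaceable I _ (hinj l) i))
    have hcinj : Injective ((coSeq F).map colim).X₂ := by
      have hb : ∀ l, Module.Baer R ((coE F).obj l) := fun l => by
        have : Module.Injective R ((coE F).obj l) :=
          haveI := hinj l; Module.injective_module_of_injective_object R ((coE F).obj l)
        exact Module.Baer.of_injective this
      have hi : Module.Injective R ↑(colimit (coE F)) := (baer_colimit (coE F) hb).injective
      exact Module.injective_object_of_injective_module R ↑(colimit (coE F))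
    have hdc : Function.Surjective ((lcDelta I).δ hc i) :=
      (ModuleCat.epi_iff_surjective _).1 ((lcDelta I).epi_δ hc i (lcDelta_effaceable I _ hcinj i))
    have hsq : ∀ l (q : (localCohomology I i).obj ((coSeq F).X₃.obj l)),
        (localCohomology I (i + 1)).map (colimit.ι F l) ((lcDelta I).δ (hSl l) i q) =
          (lcDelta I).δ hc i ((localCohomology I i).map (colimit.ι (coSeq F).X₃ l) q) := fun l q =>
      ConcreteCategory.congr_hom ((lcDelta I).δ_natural (hSl l) hc (φ l) i) q
    constructor
    · rw [injective_iff_map_eq_zero]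
      intro x hx
      obtain ⟨l, y, rfl⟩ := Concrete.colimit_exists_rep (F ⋙ localCohomology I (i + 1)) x
      obtain ⟨q, rfl⟩ := hd l y
      have h1 := (post_apply I F (i + 1) l _).symm.trans hx
      obtain ⟨e, he⟩ := (ShortComplex.moduleCat_exact_iff _).1 ((lcDelta I).exact₃ hc i) _
        ((hsq l q).symm.trans h1)
      obtain ⟨e', rfl⟩ := (bijective_post i (coE F)).2 e
      obtain ⟨l', e'', rfl⟩ := Concrete.colimit_exists_rep (coE F ⋙ localCohomology I i) e'
      have he2 : colimit.post (coSeq F).X₃ (localCohomology I i)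
          (colimit.ι ((coSeq F).X₃ ⋙ localCohomology I i) l'
            ((localCohomology I i).map ((cokernel.π (coι F)).app l') e'')) =
          colimit.post (coSeq F).X₃ (localCohomology I i)
            (colimit.ι ((coSeq F).X₃ ⋙ localCohomology I i) l q) := by
        rw [post_apply, post_apply]
        refine Eq.trans ?_ he
        rw [post_apply]
        show _ = (localCohomology I i).map (colim.map (cokernel.π (coι F)))
          ((localCohomology I i).map (colimit.ι (coE F) l') e'')
        rw [← ConcreteCategory.comp_apply, ← ConcreteCategory.comp_apply, ← Functor.map_comp,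
          ← Functor.map_comp]
        congr 3
        exact (ι_colimMap _ _).symm
      obtain ⟨m, f, f', hf⟩ := (Concrete.colimit_rep_eq_iff_exists _ _ _).1 ((bijective_post i _).1 he2)
      refine ((ConcreteCategory.congr_hom (colimit.w (F ⋙ localCohomology I (i + 1)) f') _).symm).trans ?_
      show colimit.ι (F ⋙ localCohomology I (i + 1)) m
        ((localCohomology I (i + 1)).map (F.map f') ((lcDelta I).δ (hSl l) i q)) = 0
      have h2 : ∀ {a b : Λ} (f : a ⟶ b) (v : (localCohomology I i).obj ((coSeq F).X₃.obj a)),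
          (localCohomology I (i + 1)).map (F.map f) ((lcDelta I).δ (hSl a) i v) =
            (lcDelta I).δ (hSl b) i ((localCohomology I i).map ((coSeq F).X₃.map f) v) := fun f v =>
        ConcreteCategory.congr_hom ((lcDelta I).δ_natural (hSl _) (hSl _)
          ((coSeq F).mapNatTrans ((evaluation Λ (ModuleCat.{u} R)).map f)) i) v
      have hf' : (localCohomology I i).map ((coSeq F).X₃.map f)
          ((localCohomology I i).map ((cokernel.π (coι F)).app l') e'') =
          (localCohomology I i).map ((coSeq F).X₃.map f') q := hf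
      rw [h2, ← hf', ← h2]
      have h3 : (lcDelta I).δ (hSl l') i ((localCohomology I i).map ((cokernel.π (coι F)).app l') e'') = 0 :=
        ConcreteCategory.congr_hom ((lcDelta I).map_comp_δ (hSl l') i) e''
      rw [h3]
      exact (congrArg _ (map_zero _)).trans (map_zero _)
    · intro z
      obtain ⟨w, rfl⟩ := hdc z
      obtain ⟨v, rfl⟩ := (bijective_post i (coSeq F).X₃).2 w
      obtain ⟨l, q, rfl⟩ := Concrete.colimit_exists_rep ((coSeq F).X₃ ⋙ localCohomology I i) v
      refine ⟨colimit.ι (F ⋙ localCohomology I (i + 1)) l ((lcDelta I).δ (hSl l) i q), ?_⟩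
      refine (post_apply I F (i + 1) l _).trans ((hsq l q).trans ?_)
      exact congrArg _ (post_apply I (coSeq F).X₃ i l q).symm

theorem preservesColimitsOfShape_localCohomology (i : ℕ) :
    PreservesColimitsOfShape Λ (localCohomology I i) :=
  ⟨fun {F} => by
    have : IsIso (colimit.post F (localCohomology I i)) :=
      (ConcreteCategory.isIso_iff_bijective _).2 (bijective_post I i F)
    exact preservesColimit_of_isIso_post (localCohomology I i) F⟩

end LocCohLib
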