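import Groth.Agent.LocCohLib.BaseChange
import Groth.Agent.LocCohLib.Colimit
import Mathlib.RingTheory.KrullDimension.Regular
import Mathlib.RingTheory.Flat.FaithfullyFlat.Basic
import Mathlib.RingTheory.LocalProperties.Submodule

/-! Cohomological dimension. -/

set_option autoImplicit false
set_option maxHeartbeats 800000
universe u

noncomputable section

open CategoryTheory Limits TensorProduct Pointwise

namespace LocCohLib

variable {R : Type u} [CommRing R] {I : Ideal R}

theorem subsingleton_H_congr {M N : Type u} [AddCommGroup M] [Module R M] [AddCommGroup N] [Module R N]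
    (e : M ≃ₗ[R] N) (i : ℕ) : Subsingleton (LocCoh.H I i M) ↔ Subsingleton (LocCoh.H I i N) :=
  (((localCohomology I i).mapIso e.toModuleIso).toLinearEquiv).toEquiv.subsingleton_congr

theorem subsingleton_H_of_subsingleton (M : Type u) [AddCommGroup M] [Module R M] [Subsingleton M] (i : ℕ) :
    Subsingleton (LocCoh.H I i M) := by
  haveI := (lcDelta I).preservesZero i
  exact ModuleCat.isZero_iff_subsingleton.1
    (((lcDelta I).F i).map_isZero (ModuleCat.isZero_of_subsingleton (ModuleCat.of R M)))

/-- The middle of a short exact sequence. -/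
theorem subsingleton_H_mid {M₁ M₂ M₃ : Type u} [AddCommGroup M₁] [Module R M₁] [AddCommGroup M₂]
    [Module R M₂] [AddCommGroup M₃] [Module R M₃] (f : M₁ →ₗ[R] M₂) (g : M₂ →ₗ[R] M₃)
    (hf : Function.Injective f) (hfg : Function.Exact f g) (hg : Function.Surjective g) (i : ℕ)
    (h₁ : Subsingleton (LocCoh.H I i M₁)) (h₃ : Subsingleton (LocCoh.H I i M₃)) :
    Subsingleton (LocCoh.H I i M₂) := by
  have hS : (ShortComplex.moduleCatMk f g hfg.linearMap_comp_eq_zero).ShortExact :=
    { exact := (ShortComplex.ShortExact.moduleCat_exact_iff_function_exact _).2 hfg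
      mono_f := (ModuleCat.mono_iff_injective _).2 hf
      epi_g := (ModuleCat.epi_iff_surjective _).2 hg }
  refine ⟨fun a b => sub_eq_zero.1 ?_⟩
  haveI := (lcDelta I).preservesZero i
  obtain ⟨z, hz⟩ := (ShortComplex.moduleCat_exact_iff _).1 ((lcDelta I).exact₂ hS i) (a - b)
    (Subsingleton.elim (α := LocCoh.H I i M₃) _ _)
  rw [← hz, show z = 0 from Subsingleton.elim (α := LocCoh.H I i M₁) z 0]
  exact map_zero _

/-- The first of a short exact sequence, one degree up. -/
theorem subsingleton_H_left {M₁ M₂ M₃ : Type u} [AddCommGroup M₁] [Module R M₁] [AddCommGroup M₂]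
    [Module R M₂] [AddCommGroup M₃] [Module R M₃] (f : M₁ →ₗ[R] M₂) (g : M₂ →ₗ[R] M₃)
    (hf : Function.Injective f) (hfg : Function.Exact f g) (hg : Function.Surjective g) (i : ℕ)
    (h₂ : Subsingleton (LocCoh.H I (i + 1) M₂)) (h₃ : Subsingleton (LocCoh.H I i M₃)) :
    Subsingleton (LocCoh.H I (i + 1) M₁) := by
  have hS : (ShortComplex.moduleCatMk f g hfg.linearMap_comp_eq_zero).ShortExact :=
    { exact := (ShortComplex.ShortExact.moduleCat_exact_iff_function_exact _).2 hfg
      mono_f := (ModuleCat.mono_iff_injective _).2 hf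
      epi_g := (ModuleCat.epi_iff_surjective _).2 hg }
  refine ⟨fun a b => sub_eq_zero.1 ?_⟩
  obtain ⟨z, hz⟩ := (ShortComplex.moduleCat_exact_iff _).1 ((lcDelta I).exact₁ hS i) (a - b)
    (Subsingleton.elim (α := LocCoh.H I (i + 1) M₂) _ _)
  rw [← hz, show z = 0 from Subsingleton.elim (α := LocCoh.H I i M₃) z 0]
  exact map_zero _

/-- The last of a short exact sequence, one degree down. -/
theorem subsingleton_H_right {M₁ M₂ M₃ : Type u} [AddCommGroup M₁] [Module R M₁] [AddCommGroup M₂]
    [Module R M₂] [AddCommGroup M₃] [Module R M₃] (f : M₁ →ₗ[R] M₂) (g : M₂ →ₗ[R] M₃)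
    (hf : Function.Injective f) (hfg : Function.Exact f g) (hg : Function.Surjective g) (i : ℕ)
    (h₂ : Subsingleton (LocCoh.H I i M₂)) (h₁ : Subsingleton (LocCoh.H I (i + 1) M₁)) :
    Subsingleton (LocCoh.H I i M₃) := by
  have hS : (ShortComplex.moduleCatMk f g hfg.linearMap_comp_eq_zero).ShortExact :=
    { exact := (ShortComplex.ShortExact.moduleCat_exact_iff_function_exact _).2 hfg
      mono_f := (ModuleCat.mono_iff_injective _).2 hf
      epi_g := (ModuleCat.epi_iff_surjective _).2 hg }
  refine ⟨fun a b => sub_eq_zero.1 ?_⟩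
  obtain ⟨z, hz⟩ := (ShortComplex.moduleCat_exact_iff _).1 ((lcDelta I).exact₃ hS i) (a - b)
    (Subsingleton.elim (α := LocCoh.H I (i + 1) M₁) _ _)
  rw [← hz, show z = 0 from Subsingleton.elim (α := LocCoh.H I i M₂) z 0]
  exact map_zero _

variable [IsNoetherianRing R]

theorem subsingleton_H0_quot_torsion (I : Ideal R) (M : Type u) [AddCommGroup M] [Module R M] :
    Subsingleton (LocCoh.H I 0 (M ⧸ DRing.torsionSub I M)) := by
  haveI : Subsingleton (DRing.torsionSub I (M ⧸ DRing.torsionSub I M)) := by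
    rw [Submodule.subsingleton_iff_eq_bot, eq_bot_iff]
    rintro x ⟨n, hn⟩
    obtain ⟨m, rfl⟩ := Submodule.mkQ_surjective _ x
    obtain ⟨S, hS⟩ := (IsNoetherian.noetherian (I ^ n) : Submodule.FG _)
    have hz : ∀ a : S, ∃ k : ℕ, ∀ b ∈ I ^ k, b • a.1 • m = 0 := fun a =>
      (Submodule.Quotient.mk_eq_zero _).1 (hn a.1 (hS ▸ Submodule.subset_span a.2))
    choose k hk using hz
    rw [Submodule.mem_bot]
    refine (Submodule.Quotient.mk_eq_zero _).2 ⟨Finset.univ.sup k + n, fun a ha => ?_⟩
    rw [pow_add] at ha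
    refine Submodule.mul_induction_on ha (fun b hb c hc => ?_) fun x y hx hy => by rw [add_smul, hx, hy, add_zero]
    rw [← hS] at hc
    induction hc using Submodule.span_induction with
    | mem z hz =>
      rw [mul_smul]
      exact hk ⟨z, hz⟩ b (Ideal.pow_le_pow_right (Finset.le_sup (Finset.mem_univ (⟨z, hz⟩ : S))) hb)
    | zero => rw [mul_zero, zero_smul]
    | add u v _ _ hu hv => rw [mul_add, add_smul, hu, hv, add_zero]
    | smul r u _ hu => rw [smul_eq_mul, mul_left_comm, mul_smul, hu, smul_zero]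
  exact (H0Equiv I (M ⧸ DRing.torsionSub I M)).injective.subsingleton

/-- Vanishing passes to directed unions. -/
theorem subsingleton_H_of_directed {M : Type u} [AddCommGroup M] [Module R M] {Λ : Type u} [PartialOrder Λ]
    [IsDirected Λ (· ≤ ·)] [Nonempty Λ] (N : Λ → Submodule R M) (hmono : Monotone N)
    (hsup : ∀ m : M, ∃ l, m ∈ N l) (i : ℕ) (h : ∀ l, Subsingleton (LocCoh.H I i (N l))) :
    Subsingleton (LocCoh.H I i M) := by
  let F : Λ ⥤ ModuleCat.{u} R :=
    { obj := fun l => ModuleCat.of R (N l)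
      map := fun {a b} f => ModuleCat.ofHom (Submodule.inclusion (hmono (leOfHom f)))
      map_id := fun l => rfl
      map_comp := fun f g => rfl }
  let c : Cocone F := Cocone.mk (ModuleCat.of R M)
    { app := fun l => ModuleCat.ofHom (N l).subtype
      naturality := fun a b f => rfl }
  have hd : ∀ l (x : N l), colimit.desc F c (colimit.ι F l x) = (x : M) := fun l x =>
    ConcreteCategory.congr_hom (colimit.ι_desc c l) x
  haveI : IsIso (colimit.desc F c) := by
    rw [ConcreteCategory.isIso_iff_bijective]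
    refine ⟨(injective_iff_map_eq_zero _).2 fun z hz => ?_, fun m => ?_⟩
    · obtain ⟨l, x, rfl⟩ := Concrete.colimit_exists_rep F z
      rw [show x = 0 from Subtype.ext ((hd l x).symm.trans hz), map_zero]
    · obtain ⟨l, hl⟩ := hsup m
      exact ⟨colimit.ι F l (⟨m, hl⟩ : N l), hd l ⟨m, hl⟩⟩
  refine ((localCohomology I i).mapIso (asIso (colimit.desc F c))).toLinearEquiv.toEquiv.subsingleton_congr.1
    ⟨fun a b => ?_⟩
  have h0 : ∀ z : (localCohomology I i).obj (colimit F), z = 0 := fun z => by
    obtain ⟨w, rfl⟩ := (bijective_post I i F).2 z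
    obtain ⟨l, y, rfl⟩ := Concrete.colimit_exists_rep (F ⋙ localCohomology I i) w
    rw [show y = 0 from Subsingleton.elim (α := LocCoh.H I i (N l)) y 0, map_zero, map_zero]
  rw [h0 a, h0 b]

/-- Vanishing on finite submodules suffices. -/
theorem subsingleton_H_of_finite (M : Type u) [AddCommGroup M] [Module R M] (i : ℕ)
    (h : ∀ N : Submodule R M, N.FG → Subsingleton (LocCoh.H I i N)) : Subsingleton (LocCoh.H I i M) := by
  let Λ := {N : Submodule R M // N.FG}
  haveI : IsDirected Λ (· ≤ ·) :=
    ⟨fun a b => ⟨⟨a.1 ⊔ b.1, a.2.sup b.2⟩, le_sup_left, le_sup_right⟩⟩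
  haveI : Nonempty Λ := ⟨⟨⊥, Submodule.fg_bot⟩⟩
  exact subsingleton_H_of_directed (Λ := Λ) (fun N => N.1) (fun a b hab => hab)
    (fun m => ⟨⟨_, Submodule.fg_span_singleton m⟩, Submodule.mem_span_singleton_self m⟩) i (fun N => h N.1 N.2)

theorem subsingleton_H_pi_fin (i : ℕ) (h : Subsingleton (LocCoh.H I i R)) :
    ∀ n : ℕ, Subsingleton (LocCoh.H I i (Fin n → R))
  | 0 => subsingleton_H_of_subsingleton _ i
  | n + 1 => (subsingleton_H_congr (Fin.consLinearEquiv R fun _ : Fin (n + 1) => R) i).1
      (subsingleton_H_mid (LinearMap.inl R R (Fin n → R)) (LinearMap.snd R R (Fin n → R))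
        LinearMap.inl_injective .inl_snd LinearMap.snd_surjective i h (subsingleton_H_pi_fin i h n))

theorem subsingleton_H_free (i : ℕ) (h : Subsingleton (LocCoh.H I i R)) (X : Type u) :
    Subsingleton (LocCoh.H I i (X →₀ R)) := by
  classical
  refine subsingleton_H_of_directed (Λ := Finset X) (fun s => Finsupp.supported R R (s : Set X))
    (fun a b hab => Finsupp.supported_mono (Finset.coe_subset.2 hab))
    (fun m => ⟨m.support, (Finsupp.mem_supported R _).2 subset_rfl⟩) i fun s => ?_
  refine (subsingleton_H_congr ?_ i).1 (subsingleton_H_pi_fin i h (Fintype.card (s : Set X)))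
  exact ((LinearEquiv.funCongrLeft R R (Fintype.equivFin (s : Set X))).trans
    (Finsupp.linearEquivFunOnFinite R R (s : Set X)).symm).trans (Finsupp.supportedEquivFinsupp _).symm

theorem cdLE_of_ring (d : ℕ) (h : ∀ i : ℕ, d < i → Subsingleton (LocCoh.H I i R)) :
    LocCoh.CdLE R I d := by
  obtain ⟨fs, hfs⟩ := exists_list_span I
  have key : ∀ (k : ℕ) (M : Type u) [AddCommGroup M] [Module R M] (i : ℕ), d < i →
      fs.length + 1 ≤ i + k → Subsingleton (LocCoh.H I i M) := by
    intro k
    induction k with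
    | zero => exact fun M _ _ i _ hk => subsingleton_H_of_length_lt I fs hfs i (by omega) M
    | succ k ih =>
      intro M _ _ i hi hk
      let p := Finsupp.linearCombination R (id : M → M)
      exact subsingleton_H_right (M₁ := LinearMap.ker p) (LinearMap.ker p).subtype p Subtype.val_injective
        (LinearMap.exact_subtype_ker_map p) (Finsupp.linearCombination_id_surjective R M) i
        (subsingleton_H_free i (h i hi) M) (ih _ (i + 1) (by omega) (by omega))
  exact fun M _ _ i hi => key (fs.length + 1) M i hi (by omega)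

section Change

variable {R' : Type u} [CommRing R'] [IsNoetherianRing R'] [Algebra R R']

theorem cdLE_map {d : ℕ} (h : LocCoh.CdLE R I d) : LocCoh.CdLE R' (I.map (algebraMap R R')) d := by
  intro M' _ _ i hi
  letI : Module R M' := Module.compHom M' (algebraMap R R')
  haveI := tower_compHom (R := R) (R' := R') M'
  obtain ⟨φ, -⟩ := exists_addEquiv_restrict (R := R) (R' := R') I M' i
  haveI := h M' i hi
  exact φ.injective.subsingleton

theorem cdLE_of_map [Module.FaithfullyFlat R R'] {d : ℕ} (h : LocCoh.CdLE R' (I.map (algebraMap R R')) d) :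
    LocCoh.CdLE R I d := fun M _ _ i hi =>
  haveI := h (R' ⊗[R] M) i hi
  haveI : Subsingleton (R' ⊗[R] LocCoh.H I i M) := (tensLcEquiv I M i).injective.subsingleton
  Module.FaithfullyFlat.lTensor_reflects_triviality R R' _

end Change

/-- `(H^i_I M)_S ≅ H^i_{I_S}(M_S)`. -/
def locLcEquiv (S : Submonoid R) (M : Type u) [AddCommGroup M] [Module R M] (i : ℕ) :
    LocalizedModule S (LocCoh.H I i M) ≃ₗ[Localization S]
      LocCoh.H (I.map (algebraMap R (Localization S))) i (LocalizedModule S M) :=
  haveI : IsNoetherianRing (Localization S) := IsLocalization.isNoetherianRing S _ inferInstance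
  haveI : Module.Flat R (Localization S) := IsLocalization.flat (Localization S) S
  (LocalizedModule.equivTensorProduct S (LocCoh.H I i M)).trans
    ((tensLcEquiv I M i).trans
      ((localCohomology (Ideal.map (algebraMap R (Localization S)) I) i).mapIso
        (LocalizedModule.equivTensorProduct S M).symm.toModuleIso).toLinearEquiv)

theorem cdLE_of_localizations {d : ℕ} (h : ∀ (p : Ideal R) [p.IsPrime],
    LocCoh.CdLE (Localization.AtPrime p) (I.map (algebraMap R (Localization.AtPrime p))) d) :
    LocCoh.CdLE R I d := by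
  intro M _ _ i hi
  rw [← Module.support_eq_empty_iff (R := R)]
  refine Set.eq_empty_iff_forall_notMem.2 fun p hp => ?_
  haveI := h p.asIdeal (LocalizedModule p.asIdeal.primeCompl M) i hi
  haveI : Subsingleton (LocalizedModule p.asIdeal.primeCompl (LocCoh.H I i M)) :=
    (locLcEquiv p.asIdeal.primeCompl M i).injective.subsingleton
  exact not_subsingleton_iff_nontrivial.2 (Module.mem_support_iff.1 hp) ‹_›

theorem subsingleton_H_loc_of_torsion (g : R) (M : Type u) [AddCommGroup M] [Module R M]
    (hM : ∀ m : M, ∃ k : ℕ, g ^ k • m = 0) (i : ℕ) (y : LocCoh.H I i M) : ∃ k : ℕ, g ^ k • y = 0 := by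
  haveI := subsingleton_loc_of_torsion g M hM
  haveI := subsingleton_H_of_subsingleton (I := I.map (algebraMap R (Localization (Submonoid.powers g))))
    (LocalizedModule (Submonoid.powers g) M) i
  haveI : Subsingleton (LocalizedModule (Submonoid.powers g) (LocCoh.H I i M)) :=
    (locLcEquiv (Submonoid.powers g) M i).injective.subsingleton
  obtain ⟨_, ⟨k, rfl⟩, hk⟩ := LocalizedModule.subsingleton_iff.1 ‹_› y
  exact ⟨k, hk⟩

theorem isZero_cech_append_of_torsion (fs : List R) (M : ModuleCat.{u} R) (a : ℕ)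
    (hI : Ideal.span {x | x ∈ fs} = I) (hv : ∀ n : ℕ, a < n → Subsingleton (LocCoh.H I n M)) :
    ∀ gs : List R, (∀ g ∈ gs, ∀ m : M, ∃ k : ℕ, g ^ k • m = 0) → ∀ n : ℕ, a ≤ n →
      IsZero ((DerCA.extCech M (gs ++ fs)).homology ((n : ℤ) + 1))
  | [], _, n, hn => ModuleCat.isZero_iff_subsingleton.2
      (((cechEquiv fs I hI (n + 1) M).toEquiv.subsingleton_congr.1 (hv (n + 1) (by omega))))
  | g :: gs, hg, n, hn => by
    have ih := isZero_cech_append_of_torsion fs M a hI hv gs fun x hx => hg x (List.mem_cons_of_mem _ hx)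
    refine isZero_cocone' (DerCA.locCxUnit (Submonoid.powers g) (DerCA.extCech M (gs ++ fs))) (n : ℤ)
      (ih n hn) (IsZero.of_iso ?_ (((DerCA.extCech M (gs ++ fs)).sc (n : ℤ)).mapHomologyIso
        (DerCA.locFunctor (Submonoid.powers g))))
    refine ModuleCat.isZero_iff_subsingleton.2 (subsingleton_loc_of_torsion g _ fun y => ?_)
    obtain ⟨k, hk⟩ := subsingleton_H_loc_of_torsion (I := Ideal.span {x | x ∈ gs ++ fs}) g M
      (hg g (List.mem_cons_self ..)) n ((cechEquiv (gs ++ fs) _ rfl n M).symm y)
    exact ⟨k, (LinearEquiv.map_eq_zero_iff _).1 (((cechEquiv (gs ++ fs) _ rfl n M).symm.map_smul (g ^ k) y).trans hk)⟩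

theorem isZero_cech_append_of_acyclic (gs : List R) (M : ModuleCat.{u} R)
    (hv : ∀ n : ℤ, IsZero ((DerCA.extCech M gs).homology n)) :
    ∀ (fs : List R) (n : ℤ), IsZero ((DerCA.extCech M (fs ++ gs)).homology n)
  | [], n => hv n
  | f :: fs, n => by
    have h := isZero_cocone' (DerCA.locCxUnit (Submonoid.powers f) (DerCA.extCech M (fs ++ gs))) (n - 1)
      (isZero_cech_append_of_acyclic gs M hv fs _)
      (isZero_homology_locCx _ _ _ (isZero_cech_append_of_acyclic gs M hv fs _))
    rw [sub_add_cancel] at h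
    exact h

theorem cdLE_sup {J : Ideal R} {a b : ℕ} (hI : LocCoh.CdLE R I a) (hJ : LocCoh.CdLE R J b) :
    LocCoh.CdLE R (I ⊔ J) (a + b) := by
  obtain ⟨fs, hfs⟩ := exists_list_span I
  obtain ⟨gs, hgs⟩ := exists_list_span J
  have hspan : ∀ l l' : List R, Ideal.span {x | x ∈ l ++ l'} = Ideal.span {x | x ∈ l} ⊔ Ideal.span {x | x ∈ l'} :=
    fun l l' => by
      rw [← Ideal.span_union]
      congr 1
      ext x
      simp
  have key : ∀ (c : ℕ) (M : Type u) [AddCommGroup M] [Module R M],
      (∀ j, c < j → Subsingleton (LocCoh.H J j M)) → ∀ i, a + c < i →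
        Subsingleton (LocCoh.H (I ⊔ J) i M) := by
    intro c
    induction c with
    | zero =>
      intro M _ _ hM i hi
      obtain ⟨n, rfl⟩ := Nat.exists_eq_add_of_lt hi
      let T := DRing.torsionSub J M
      refine subsingleton_H_mid T.subtype T.mkQ Subtype.val_injective
        (LinearMap.exact_subtype_mkQ T) T.mkQ_surjective _ ?_ ?_
      · have htor : LocCoh.IsPowerTorsion J T := isPowerTorsion_gamma J (ModuleCat.of R M)
        have hz := isZero_cech_append_of_torsion fs (ModuleCat.of R T) a hfs (fun j hj => hI T j hj) gs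
          (fun g hg m => (htor m).imp fun k hk => hk _ (Ideal.pow_mem_pow (hgs ▸ Ideal.subset_span hg) k))
          (a + n) (Nat.le_add_right a n)
        refine (cechEquiv (gs ++ fs) (I ⊔ J) (by rw [hspan, hfs, hgs, sup_comm]) (a + 0 + n + 1) T
          ).toEquiv.subsingleton_congr.2 (moduleCat_zero_of_isZero ?_)
        rw [show ((a + 0 + n + 1 : ℕ) : ℤ) = ((a + n : ℕ) : ℤ) + 1 by push_cast; ring]
        exact hz
      · have hall : ∀ j : ℤ, IsZero ((DerCA.extCech (ModuleCat.of R (M ⧸ T)) gs).homology j) := by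
          intro j
          rcases lt_or_ge j 0 with hj | hj
          · exact isZero_cech_neg _ gs j hj
          obtain ⟨j, rfl⟩ := Int.eq_ofNat_of_zero_le hj
          refine ModuleCat.isZero_iff_subsingleton.2 ((cechEquiv gs J hgs j (M ⧸ T)).toEquiv.subsingleton_congr.1 ?_)
          rcases j with _ | j
          · exact subsingleton_H0_quot_torsion J M
          · refine subsingleton_H_right T.subtype T.mkQ Subtype.val_injective
              (LinearMap.exact_subtype_mkQ T) T.mkQ_surjective _ (hM (j + 1) (Nat.succ_pos j))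
              (subsingleton_H_of_torsion J T (isPowerTorsion_gamma J (ModuleCat.of R M)) _ (Nat.succ_pos _))
        exact (cechEquiv (fs ++ gs) (I ⊔ J) (by rw [hspan, hfs, hgs]) _ _).toEquiv.subsingleton_congr.2
          (moduleCat_zero_of_isZero (isZero_cech_append_of_acyclic gs _ hall fs _))
    | succ c ih =>
      intro M _ _ hM i hi
      obtain ⟨n, rfl⟩ := Nat.exists_eq_add_of_lt hi
      have hS := DeltaFun.under_shortExact (ModuleCat.of R M)
      have hE := fun (K : Ideal R) => lcDelta_effaceable K (Injective.under (ModuleCat.of R M)) inferInstance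
      have hQ : ∀ j, c < j → Subsingleton (LocCoh.H J j (DeltaFun.under _ (ModuleCat.of R M)).X₃) := by
        intro j hj
        obtain ⟨j, rfl⟩ := Nat.exists_eq_add_of_lt hj
        haveI := (lcDelta J).isIso_δ hS (c + j + 1) (hE J (c + j)) (hE J (c + j + 1))
        haveI := hM (c + j + 1 + 1) (by omega)
        exact ⟨fun u v => (ModuleCat.mono_iff_injective _).1 (inferInstance : Mono ((lcDelta J).δ hS (c + j + 1)))
          (Subsingleton.elim (α := LocCoh.H J (c + j + 1 + 1) M) _ _)⟩
      haveI := ih (DeltaFun.under _ (ModuleCat.of R M)).X₃ hQ (a + (c + 1) + n) (by omega)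
      have hsurj := (ModuleCat.epi_iff_surjective _).1
        ((lcDelta (I ⊔ J)).epi_δ hS _ (hE (I ⊔ J) (a + (c + 1) + n)))
      refine ⟨fun u v => ?_⟩
      obtain ⟨u, rfl⟩ := hsurj u
      obtain ⟨v, rfl⟩ := hsurj v
      exact congrArg _ (Subsingleton.elim
        (α := LocCoh.H (I ⊔ J) (a + (c + 1) + n) (DeltaFun.under _ (ModuleCat.of R M)).X₃) u v)
  exact fun M _ _ i hi => key b M (fun j hj => hJ M j hj) i hi

/-- Vanishing above the dimension of the support. -/
theorem subsingleton_H_of_supportDim_lt : ∀ (i : ℕ) (M : Type u) [AddCommGroup M] [Module R M],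
    Module.supportDim R M < (i : WithBot ℕ∞) → Subsingleton (LocCoh.H I i M) := by
  intro i
  induction i with
  | zero =>
    intro M _ _ h
    haveI : Subsingleton M := by
      by_contra hne
      rw [not_subsingleton_iff_nontrivial] at hne
      obtain ⟨e, he⟩ := WithBot.ne_bot_iff_exists.1 (Module.supportDim_ne_bot_of_nontrivial R M)
      rw [← he] at h
      exact not_lt_bot (α := ℕ∞) (a := e) (WithBot.coe_lt_coe.1 h)
    exact subsingleton_H_of_subsingleton M 0
  | succ i ih =>
    intro M _ _ h
    refine subsingleton_H_of_finite M (i + 1) fun N hN => ?_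
    haveI : Module.Finite R N := Module.Finite.iff_fg.2 hN
    let T := DRing.torsionSub I N
    refine subsingleton_H_mid T.subtype T.mkQ Subtype.val_injective (LinearMap.exact_subtype_mkQ T)
      T.mkQ_surjective _ (subsingleton_H_of_torsion I T (isPowerTorsion_gamma I (ModuleCat.of R N)) _
        (Nat.succ_pos i)) ?_
    obtain ⟨x, hxI, hx⟩ := CommAlgDim.exists_isSMulRegular_mem
      ((subsingleton_H0_iff I (N ⧸ T)).1 (subsingleton_H0_quot_torsion I N))
    have hdim : Module.supportDim R (QuotSMulTop x (N ⧸ T)) < (i : WithBot ℕ∞) := by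
      have h1 : Module.supportDim R (N ⧸ T) < ((i + 1 : ℕ) : WithBot ℕ∞) :=
        lt_of_le_of_lt ((Module.supportDim_le_of_surjective T.mkQ T.mkQ_surjective).trans
          (Module.supportDim_le_of_injective N.subtype Subtype.val_injective)) h
      have h2 := Module.supportDim_quotSMulTop_succ_le_of_notMem_minimalPrimes (M := N ⧸ T) (x := x) fun p hp hxp => by
        obtain ⟨hpp, v, hv⟩ := (isAssociatedPrime_iff (R := R) (I := p) (M := N ⧸ T)).1
          (Module.associatedPrimes.minimalPrimes_annihilator_subset_associatedPrimes R (N ⧸ T) hp)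
        rw [hv, Submodule.mem_colon_singleton, Submodule.mem_bot] at hxp
        have hv0 : v = 0 := hx (hxp.trans (smul_zero x).symm)
        exact hpp.ne_top ((Ideal.eq_top_iff_one _).2 (by
          rw [hv, Submodule.mem_colon_singleton, hv0, smul_zero]; exact zero_mem _))
      rcases eq_or_ne (Module.supportDim R (QuotSMulTop x (N ⧸ T))) ⊥ with hb | hb
      · rw [hb]; exact WithBot.bot_lt_coe _
      obtain ⟨e, he⟩ := WithBot.ne_bot_iff_exists.1 hb
      rw [← he] at h2 ⊢
      have h3 := lt_of_le_of_lt h2 h1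
      have h4 : (e + 1 : ℕ∞) < ((i + 1 : ℕ) : ℕ∞) := WithBot.coe_lt_coe.1 h3
      rw [Nat.cast_add, Nat.cast_one, ENat.add_lt_add_iff_right ENat.one_ne_top] at h4
      exact WithBot.coe_lt_coe.2 h4
    haveI := ih (QuotSMulTop x (N ⧸ T)) hdim
    refine ⟨fun u v => sub_eq_zero.1 ?_⟩
    obtain ⟨k, hk⟩ := isPowerTorsion_H I (i + 1) (N ⧸ T) (u - v)
    have hk' : x ^ k • (u - v) = 0 := hk _ (Ideal.pow_mem_pow hxI k)
    clear hk
    induction k with
    | zero => rwa [pow_zero, one_smul] at hk'
    | succ k ih' =>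
      rw [pow_succ', mul_smul] at hk'
      exact ih' (smul_injective_of_quot hx (i + 1) (fun j hj => by
        obtain rfl : j = i := by omega
        infer_instance) _ hk')

end LocCohLib
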