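import Groth.Agent.LocCohLib.Punctured
import Groth.Agent.CommAlgDim.HilbertSamuel
import Mathlib.RingTheory.Artinian.Module
import Mathlib.RingTheory.KrullDimension.Regular

/-! Artinianness and nonvanishing of local cohomology at the maximal ideal. -/

set_option autoImplicit false
set_option maxHeartbeats 1000000
universe u

noncomputable section

open CategoryTheory Limits Opposite Pointwise

namespace LocCohLib

section General

variable {R : Type u} [CommRing R] {N : Type u} [AddCommGroup N] [Module R N]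

/-- A torsion module with Artinian socle is Artinian. -/
theorem isArtinian_of_torsion (y : R) (htor : ∀ m : N, ∃ k : ℕ, y ^ k • m = 0)
    (h : IsArtinian R (LinearMap.ker (y • (LinearMap.id : N →ₗ[R] N)))) : IsArtinian R N := by
  rw [← monotone_stabilizes_iff_artinian]
  intro f
  let K := LinearMap.ker (y • (LinearMap.id : N →ₗ[R] N))
  let C : ℕ → Submodule R N := fun j => OrderDual.ofDual (f j)
  have hC : ∀ {j j' : ℕ}, j ≤ j' → C j' ≤ C j := fun hjj => f.monotone hjj
  let P : ℕ → ℕ → Submodule R K := fun j k =>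
    ((C j ⊓ LinearMap.ker (y ^ (k + 1) • (LinearMap.id : N →ₗ[R] N))).map
      (y ^ k • (LinearMap.id : N →ₗ[R] N))).comap K.subtype
  have hP : ∀ j k (w : K), w ∈ P j k ↔ ∃ x ∈ C j, y ^ (k + 1) • x = 0 ∧ y ^ k • x = (w : N) := by
    intro j k w
    simp only [P, Submodule.mem_comap, Submodule.mem_map, Submodule.mem_inf, LinearMap.mem_ker,
      LinearMap.smul_apply, LinearMap.id_coe, id_eq, Submodule.subtype_apply, and_assoc]
  have hP1 : ∀ {j j' : ℕ} (k : ℕ), j ≤ j' → P j' k ≤ P j k := fun k hjj w hw => by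
    obtain ⟨x, hx, h1, h2⟩ := (hP _ _ _).1 hw
    exact (hP _ _ _).2 ⟨x, hC hjj hx, h1, h2⟩
  have hP2 : ∀ j {k k' : ℕ}, k ≤ k' → P j k' ≤ P j k := fun j k k' hkk w hw => by
    obtain ⟨x, hx, h1, h2⟩ := (hP _ _ _).1 hw
    obtain ⟨d, rfl⟩ := Nat.exists_eq_add_of_le hkk
    refine (hP _ _ _).2 ⟨y ^ d • x, Submodule.smul_mem _ _ hx, ?_, ?_⟩
    · rwa [smul_smul, ← pow_add, show k + 1 + d = k + d + 1 by ring]
    · rwa [smul_smul, ← pow_add]
  obtain ⟨G, ⟨⟨j₀, k₀⟩, rfl⟩, hmin⟩ := IsArtinian.set_has_minimal (Set.range fun q : ℕ × ℕ => P q.1 q.2)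
    (Set.range_nonempty _)
  have hmin' : ∀ {j k : ℕ}, j₀ ≤ j → k₀ ≤ k → P j k = P j₀ k₀ := fun {j k} hj hk =>
    eq_of_le_of_not_lt ((hP2 j hk).trans (hP1 k₀ hj)) (hmin _ ⟨(j, k), rfl⟩)
  have hfix : ∀ k, ∃ n, ∀ j, n ≤ j → P j k = P n k := fun k => by
    obtain ⟨_, ⟨n, rfl⟩, hn⟩ := IsArtinian.set_has_minimal (Set.range fun j => P j k) (Set.range_nonempty _)
    exact ⟨n, fun j hj => eq_of_le_of_not_lt (hP1 k hj) (hn _ ⟨j, rfl⟩)⟩
  choose n hn using hfix
  let J := max j₀ ((Finset.range k₀).sup n)
  have hall : ∀ k j, J ≤ j → P j k = P J k := by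
    intro k j hj
    rcases lt_or_ge k k₀ with hk | hk
    · have hnk : n k ≤ J := le_max_of_le_right (Finset.le_sup (Finset.mem_range.2 hk))
      rw [hn k j (hnk.trans hj), hn k J hnk]
    · rw [hmin' ((le_max_left _ _).trans hj) hk, hmin' (le_max_left _ _) hk]
  refine ⟨J, fun j hj => ?_⟩
  show C J = C j
  refine le_antisymm (fun x hx => ?_) (hC hj)
  obtain ⟨k, hk⟩ := htor x
  induction k generalizing x with
  | zero => rw [pow_zero, one_smul] at hk; rw [hk]; exact zero_mem _
  | succ k ih =>
    have hw : (⟨y ^ k • x, by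
        show y • (y ^ k • x) = 0
        rwa [smul_smul, ← pow_succ']⟩ : K) ∈ P J k := (hP _ _ _).2 ⟨x, hx, hk, rfl⟩
    rw [← hall k j hj] at hw
    obtain ⟨x', hx', h1, h2⟩ := (hP _ _ _).1 hw
    rw [show x = (x - x') + x' by abel]
    refine add_mem (ih (x - x') (sub_mem hx (hC hj hx')) ?_) hx'
    rw [smul_sub, h2, sub_self]

end General

variable {R : Type u} [CommRing R] [IsLocalRing R]

local notation "𝔪" => IsLocalRing.maximalIdeal R

/-- An Artinian module with `L = 𝔪 L` is moved onto itself by elements avoiding finitely many primes. -/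
theorem exists_primes_of_smul_eq {N : Type u} [AddCommGroup N] [Module R N] [IsArtinian R N]
    (hfg : (𝔪).FG) : ∀ (L : Submodule R N), 𝔪 • L = L →
    ∃ Q : Finset (Ideal R), (∀ q ∈ Q, q.IsPrime ∧ q ≠ 𝔪) ∧ ∀ x : R, (∀ q ∈ Q, x ∉ q) → x • L = L := by
  classical
  intro L
  induction L using WellFoundedLT.induction with
  | ind L ih =>
    intro hL
    by_cases hbot : L = ⊥
    · exact ⟨∅, by simp, fun x _ => by simp [hbot]⟩
    by_cases hsplit : ∃ A B : Submodule R N, A < L ∧ B < L ∧ A ⊔ B = L
    · obtain ⟨A, B, hA, hB, hAB⟩ := hsplit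
      have stable : ∀ A : Submodule R N, ∃ k, 𝔪 • (𝔪 ^ k • A) = 𝔪 ^ k • A := fun A => by
        obtain ⟨_, ⟨k, rfl⟩, hk⟩ := IsArtinian.set_has_minimal (Set.range fun k => 𝔪 ^ k • A) (Set.range_nonempty _)
        have hle : 𝔪 ^ (k + 1) • A ≤ 𝔪 ^ k • A := Submodule.smul_mono_left (Ideal.pow_le_pow_right (Nat.le_succ k))
        exact ⟨k, by rw [← Submodule.smul_assoc, smul_eq_mul, ← pow_succ']; exact eq_of_le_of_not_lt hle (hk _ ⟨k + 1, rfl⟩)⟩
      obtain ⟨k, hk⟩ := stable A
      obtain ⟨l, hl⟩ := stable B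
      have hLk : ∀ m : ℕ, 𝔪 ^ m • L = L := fun m => by
        induction m with
        | zero => rw [pow_zero, Ideal.one_eq_top, Submodule.top_smul]
        | succ m ihm => rw [pow_succ, ← smul_eq_mul, Submodule.smul_assoc, hL, ihm]
      obtain ⟨QA, hQA, hA'⟩ := ih _ (lt_of_le_of_lt Submodule.smul_le_right hA) hk
      obtain ⟨QB, hQB, hB'⟩ := ih _ (lt_of_le_of_lt Submodule.smul_le_right hB) hl
      refine ⟨QA ∪ QB, fun q hq => (Finset.mem_union.1 hq).elim (hQA q) (hQB q), fun x hx => ?_⟩
      have hsum : 𝔪 ^ k • A ⊔ 𝔪 ^ l • B = L := by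
        refine le_antisymm (sup_le (Submodule.smul_le_right.trans hA.le) (Submodule.smul_le_right.trans hB.le)) ?_
        rw [← hLk (k + l), ← hAB, Submodule.smul_sup]
        exact sup_le_sup (Submodule.smul_mono_left (Ideal.pow_le_pow_right (Nat.le_add_right k l)))
          (Submodule.smul_mono_left (Ideal.pow_le_pow_right (Nat.le_add_left l k)))
      rw [← hsum, Submodule.smul_sup', hA' x fun q hq => hx q (Finset.mem_union_left _ hq),
        hB' x fun q hq => hx q (Finset.mem_union_right _ hq)]
    · push_neg at hsplit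
      have hle : ∀ r : R, r • L ≤ L := fun r => by
        intro z hz
        obtain ⟨w, hw, rfl⟩ := (Submodule.mem_smul_pointwise_iff_exists _ _ _).1 hz
        exact Submodule.smul_mem _ _ hw
      have hne : ∀ A B : Submodule R N, A ≤ L → B ≤ L → A ≠ L → B ≠ L → A ⊔ B ≠ L := fun A B hA hB hA' hB' =>
        hsplit A B (lt_of_le_of_ne hA hA') (lt_of_le_of_ne hB hB')
      let q : Ideal R :=
        { carrier := {r | r • L ≠ L}
          zero_mem' := by
            show (0 : R) • L ≠ L
            intro h0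
            apply hbot
            rw [← h0, eq_bot_iff]
            intro z hz
            obtain ⟨w, -, rfl⟩ := (Submodule.mem_smul_pointwise_iff_exists _ _ _).1 hz
            simp
          add_mem' := fun {r s} hr hs hrs => hne _ _ (hle r) (hle s) hr hs
            (le_antisymm (sup_le (hle r) (hle s)) (by
              conv_lhs => rw [← hrs]
              intro z hz
              obtain ⟨w, hw, rfl⟩ := (Submodule.mem_smul_pointwise_iff_exists _ _ _).1 hz
              rw [add_smul]
              exact Submodule.add_mem_sup (Submodule.smul_mem_pointwise_smul _ _ _ hw)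
                (Submodule.smul_mem_pointwise_smul _ _ _ hw)))
          smul_mem' := fun t r hr htr => hr (le_antisymm (hle r) (by
            conv_lhs => rw [← htr]
            intro z hz
            obtain ⟨w, hw, rfl⟩ := (Submodule.mem_smul_pointwise_iff_exists _ _ _).1 hz
            rw [smul_eq_mul, mul_comm, mul_smul]
            exact Submodule.smul_mem_pointwise_smul _ _ _ (Submodule.smul_mem _ _ hw))) }
      have hmemq : ∀ r, r ∈ q ↔ r • L ≠ L := fun r => Iff.rfl
      refine ⟨{q}, fun p hp => ?_, fun x hx => not_not.1 (fun h => hx q (Finset.mem_singleton_self q) h)⟩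
      obtain rfl := Finset.mem_singleton.1 hp
      refine ⟨⟨fun htop => (hmemq 1).1 (htop ▸ Submodule.mem_top) (one_smul R L), fun {r s} hrs => ?_⟩, ?_⟩
      · rw [hmemq, hmemq]
        by_contra hcon
        push_neg at hcon
        exact (hmemq _).1 hrs (by rw [mul_smul, hcon.2, hcon.1])
      · intro hqm
        obtain ⟨S, hS⟩ := hfg
        have key : ∀ T : Finset R, (∀ t ∈ T, t • L ≠ L) → (Ideal.span (T : Set R)) • L ≠ L := by
          intro T
          induction T using Finset.induction with
          | empty =>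
            intro _
            rw [Finset.coe_empty, Ideal.span_empty, Submodule.bot_smul]
            exact fun h0 => hbot h0.symm
          | insert t T _ ihT =>
            intro hT
            rw [Finset.coe_insert, Ideal.span_insert, Submodule.sup_smul, Submodule.ideal_span_singleton_smul]
            exact hne _ _ (hle t) Submodule.smul_le_right (hT t (Finset.mem_insert_self t T))
              (ihT fun u hu => hT u (Finset.mem_insert_of_mem hu))
        refine key S (fun t ht => (hmemq t).1 ?_) (by rw [show Ideal.span (S : Set R) = 𝔪 from hS]; exact hL)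
        rw [hqm, ← hS]
        exact Submodule.subset_span ht

variable [IsNoetherianRing R]

theorem isArtinian_gamma (M : Type u) [AddCommGroup M] [Module R M] [Module.Finite R M] :
    IsArtinian R (DRing.torsionSub 𝔪 M) := by
  refine (isFiniteLength_iff_isNoetherian_isArtinian.1 (Module.length_ne_top_iff.1
    (CommAlgDim.length_ne_top_of_support fun p hp => ?_))).2
  rw [Module.mem_support_iff_of_finite] at hp
  obtain ⟨gs, hgs⟩ := exists_list_span (𝔪 : Ideal R)
  suffices 𝔪 ≤ p.asIdeal from (IsLocalRing.maximalIdeal.isMaximal R).eq_of_le p.2.ne_top this ▸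
    IsLocalRing.maximalIdeal.isMaximal R
  intro x hx
  obtain ⟨S, hS⟩ := (IsNoetherian.noetherian (⊤ : Submodule R (DRing.torsionSub 𝔪 M)) : Submodule.FG _)
  have hex : ∀ t : DRing.torsionSub 𝔪 M, ∃ n, x ^ n • t = 0 := fun t =>
    t.2.imp fun n hn => Subtype.ext (hn _ (Ideal.pow_mem_pow hx n))
  choose n hn using hex
  refine p.2.mem_of_pow_mem (S.sup n) (hp (Module.mem_annihilator.2 fun t => ?_))
  have ht : t ∈ Submodule.span R (S : Set (DRing.torsionSub 𝔪 M)) := hS ▸ Submodule.mem_top
  induction ht using Submodule.span_induction with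
  | mem z hz =>
    obtain ⟨d, hd⟩ := Nat.exists_eq_add_of_le (Finset.le_sup (f := n) hz)
    rw [hd, add_comm, pow_add, mul_smul, hn, smul_zero]
  | zero => exact smul_zero _
  | add u v _ _ hu hv => rw [smul_add, hu, hv, add_zero]
  | smul r u _ hu => rw [smul_comm, hu, smul_zero]

theorem shortExact_mk {M₁ M₂ M₃ : Type u} [AddCommGroup M₁] [Module R M₁] [AddCommGroup M₂] [Module R M₂]
    [AddCommGroup M₃] [Module R M₃] {f : M₁ →ₗ[R] M₂} {g : M₂ →ₗ[R] M₃}
    (hf : Function.Injective f) (hfg : Function.Exact f g) (hg : Function.Surjective g) :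
    (ShortComplex.moduleCatMk f g hfg.linearMap_comp_eq_zero).ShortExact :=
  { exact := (ShortComplex.ShortExact.moduleCat_exact_iff_function_exact _).2 hfg
    mono_f := (ModuleCat.mono_iff_injective _).2 hf
    epi_g := (ModuleCat.epi_iff_surjective _).2 hg }

theorem exists_regular_mem (M : Type u) [AddCommGroup M] [Module R M] [Module.Finite R M] :
    ∃ x ∈ (𝔪 : Ideal R), IsSMulRegular (M ⧸ DRing.torsionSub 𝔪 M) x :=
  CommAlgDim.exists_isSMulRegular_mem ((subsingleton_H0_iff 𝔪 _).1 (subsingleton_H0_quot_torsion 𝔪 M))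

theorem isArtinian_H (i : ℕ) : ∀ (M : Type u) [AddCommGroup M] [Module R M] [Module.Finite R M],
    IsArtinian R (LocCoh.H 𝔪 i M) := by
  induction i with
  | zero =>
    intro M _ _ _
    exact (H0Equiv 𝔪 M).isArtinian_iff.2 (isArtinian_gamma M)
  | succ i ih =>
    intro M _ _ _
    obtain ⟨x, hxm, hx⟩ := exists_regular_mem (R := R) M
    let T := DRing.torsionSub 𝔪 M
    suffices h : IsArtinian R (LocCoh.H 𝔪 (i + 1) (M ⧸ T)) by
      have hS := shortExact_mk (T.injective_subtype) (LinearMap.exact_subtype_mkQ T) T.mkQ_surjective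
      have hinj : Function.Injective ((localCohomology 𝔪 (i + 1)).map (ModuleCat.ofHom T.mkQ)).hom := by
        haveI := (lcDelta 𝔪).preservesZero (i + 1)
        have hz : IsZero ((localCohomology 𝔪 (i + 1)).obj (ModuleCat.of R T)) :=
          ModuleCat.isZero_iff_subsingleton.2 (subsingleton_H_of_torsion 𝔪 T
            (isPowerTorsion_gamma 𝔪 (ModuleCat.of R M)) _ (Nat.succ_pos i))
        exact (ModuleCat.mono_iff_injective _).1 (((lcDelta 𝔪).exact₂ hS (i + 1)).mono_g (hz.eq_of_src _ _))
      exact isArtinian_of_injective _ hinj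
    refine isArtinian_of_torsion x (fun m => (isPowerTorsion_H 𝔪 (i + 1) (M ⧸ T) m).imp fun n hn =>
      hn _ (Ideal.pow_mem_pow hxm n)) ?_
    have hS := smulSeq hx
    haveI := ih (QuotSMulTop x (M ⧸ T))
    let δ : LocCoh.H 𝔪 i (QuotSMulTop x (M ⧸ T)) →ₗ[R] LocCoh.H 𝔪 (i + 1) (M ⧸ T) :=
      ((lcDelta 𝔪).δ hS i).hom
    have hker : LinearMap.ker (x • (LinearMap.id : LocCoh.H 𝔪 (i + 1) (M ⧸ T) →ₗ[R] _)) = LinearMap.range δ := by
      ext y
      constructor
      · intro hy
        exact (ShortComplex.moduleCat_exact_iff _).1 ((lcDelta 𝔪).exact₁ hS i) y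
          ((map_smulShortComplex_f x (i + 1) y).trans hy)
      · rintro ⟨z, rfl⟩
        exact (map_smulShortComplex_f x (i + 1) _).symm.trans
          (ConcreteCategory.congr_hom ((lcDelta 𝔪).δ_comp_map hS i) z)
    rw [hker]
    infer_instance

theorem support_quot_torsion {M : Type u} [AddCommGroup M] [Module R M] [Module.Finite R M]
    (h : 0 < Module.supportDim R M) :
    Module.supportDim R (M ⧸ DRing.torsionSub 𝔪 M) = Module.supportDim R M := by
  let T := DRing.torsionSub 𝔪 M
  have hsupp : Module.support R M = Module.support R T ∪ Module.support R (M ⧸ T) :=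
    Module.support_of_exact (LinearMap.exact_subtype_mkQ T) T.injective_subtype T.mkQ_surjective
  have hT : Module.support R T ⊆ {IsLocalRing.closedPoint R} := by
    intro p hp
    rw [Module.mem_support_iff_exists_annihilator] at hp
    obtain ⟨t, ht⟩ := hp
    obtain ⟨n, hn⟩ := t.2
    refine PrimeSpectrum.ext ((IsLocalRing.maximalIdeal.isMaximal R).eq_of_le p.2.ne_top ?_).symm
    intro r hr
    exact p.2.mem_of_pow_mem n (ht ((Submodule.mem_annihilator_span_singleton _ _).2
      (Subtype.ext (hn _ (Ideal.pow_mem_pow hr n)))))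
  rcases subsingleton_or_nontrivial (M ⧸ T) with hq | hq
  · exfalso
    rw [Module.support_eq_empty_iff.2 hq, Set.union_empty] at hsupp
    have hsub : Subsingleton (Module.support R M) :=
      ⟨fun a b => Subtype.ext ((Set.mem_singleton_iff.1 (hT (hsupp ▸ a.2))).trans
        (Set.mem_singleton_iff.1 (hT (hsupp ▸ b.2))).symm)⟩
    exact absurd h (not_lt.2 Order.krullDim_nonpos_of_subsingleton)
  · have hmem : IsLocalRing.closedPoint R ∈ Module.support R (M ⧸ T) := by
      rw [Module.mem_support_iff_of_finite]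
      refine IsLocalRing.le_maximalIdeal fun htop => ?_
      exact not_subsingleton (M ⧸ T) ⟨fun a b => by
        have h1 : ∀ c : M ⧸ T, c = 0 := fun c => by
          simpa using Module.mem_annihilator.1 ((Ideal.eq_top_iff_one _).1 htop) c
        rw [h1 a, h1 b]⟩
    have heq : Module.support R M = Module.support R (M ⧸ T) := by
      rw [hsupp]
      exact Set.union_eq_right.2 (hT.trans (Set.singleton_subset_iff.2 hmem))
    simp only [Module.supportDim]
    rw [← heq]

/-- Grothendieck's nonvanishing theorem. -/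
theorem nonvanishing : ∀ (d : ℕ) (M : Type u) [AddCommGroup M] [Module R M] [Module.Finite R M],
    Module.supportDim R M = d →
    Nontrivial (LocCoh.H 𝔪 d M) ∧ (0 < d → ∀ k : ℕ, ∃ a ∈ (𝔪 : Ideal R) ^ k, ∃ y : LocCoh.H 𝔪 d M, a • y ≠ 0) := by
  intro d
  induction d with
  | zero =>
    intro M _ _ _ hd
    refine ⟨?_, fun h => absurd h (lt_irrefl 0)⟩
    haveI : Nontrivial M := (Module.supportDim_ne_bot_iff_nontrivial R M).1 (by rw [hd]; simp)
    rw [← not_subsingleton_iff_nontrivial, subsingleton_H0_iff]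
    intro hall
    obtain ⟨p, hp⟩ := associatedPrimes.nonempty R M
    have hsupp := support_of_supportDim_eq_zero (R := R) (N := M) (by exact_mod_cast hd)
    have hmem : (⟨p, hp.isPrime⟩ : PrimeSpectrum R) ∈ Module.support R M := by
      rw [Module.mem_support_iff_of_finite]
      exact le_of_eq_of_le Submodule.annihilator_top.symm (IsAssociatedPrime.annihilator_le hp)
    rw [hsupp, PrimeSpectrum.mem_zeroLocus] at hmem
    exact hall p hp hmem
  | succ d ih =>
    intro M _ _ _ hd
    suffices key : ∀ k : ℕ, ∃ a ∈ (𝔪 : Ideal R) ^ k, ∃ y : LocCoh.H 𝔪 (d + 1) M, a • y ≠ 0 by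
      refine ⟨?_, fun _ => key⟩
      obtain ⟨a, -, y, hy⟩ := key 0
      exact ⟨⟨a • y, 0, hy⟩⟩
    let T := DRing.torsionSub 𝔪 M
    let N := M ⧸ T
    have hdN : Module.supportDim R N = ((d + 1 : ℕ) : WithBot ℕ∞) := by
      rw [support_quot_torsion (by rw [hd]; exact_mod_cast Nat.succ_pos d), hd]
    intro k
    by_contra hcon
    push_neg at hcon
    have hkN : ∀ a ∈ (𝔪 : Ideal R) ^ k, ∀ y : LocCoh.H 𝔪 (d + 1) N, a • y = 0 := by
      intro a ha y
      have hS := shortExact_mk (T.injective_subtype) (LinearMap.exact_subtype_mkQ T) T.mkQ_surjective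
      obtain ⟨z, hz⟩ := (ShortComplex.moduleCat_exact_iff _).1 ((lcDelta 𝔪).exact₃ hS (d + 1)) y
        ((subsingleton_H_of_torsion 𝔪 T (isPowerTorsion_gamma 𝔪 (ModuleCat.of R M)) (d + 1 + 1)
          (Nat.succ_pos _)).elim _ _)
      rw [← hz]
      exact (map_smul ((localCohomology 𝔪 (d + 1)).map (ModuleCat.ofHom T.mkQ)).hom a z).symm.trans
        ((congrArg _ (hcon a ha z)).trans (map_zero _))
    haveI : IsArtinian R (LocCoh.H 𝔪 d N) := isArtinian_H d N
    obtain ⟨_, ⟨l, rfl⟩, hmin⟩ := IsArtinian.set_has_minimal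
      (Set.range fun l => (𝔪 : Ideal R) ^ l • (⊤ : Submodule R (LocCoh.H 𝔪 d N))) (Set.range_nonempty _)
    let L := (𝔪 : Ideal R) ^ l • (⊤ : Submodule R (LocCoh.H 𝔪 d N))
    have hL : (𝔪 : Ideal R) • L = L := by
      show 𝔪 • (𝔪 ^ l • ⊤) = _
      rw [← Submodule.smul_assoc, smul_eq_mul, ← pow_succ']
      exact eq_of_le_of_not_lt (Submodule.smul_mono_left (Ideal.pow_le_pow_right (Nat.le_succ l)))
        (hmin _ ⟨l + 1, rfl⟩)
    obtain ⟨Q, hQ, hQL⟩ := exists_primes_of_smul_eq (IsNoetherian.noetherian _) L hL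
    have hassN : ∀ p ∈ associatedPrimes R N, ¬ (𝔪 : Ideal R) ≤ p :=
      (subsingleton_H0_iff 𝔪 N).1 (subsingleton_H0_quot_torsion 𝔪 M)
    classical
    let U := (associatedPrimes.finite R N).toFinset ∪ Q
    have hU : ∀ q ∈ U, q.IsPrime ∧ ¬ (𝔪 : Ideal R) ≤ q := fun q hq => by
      rcases Finset.mem_union.1 hq with h | h
      · rw [Set.Finite.mem_toFinset] at h
        exact ⟨h.isPrime, hassN q h⟩
      · exact ⟨(hQ q h).1, fun hle => (hQ q h).2
          ((IsLocalRing.maximalIdeal.isMaximal R).eq_of_le (hQ q h).1.ne_top hle).symm⟩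
    obtain ⟨x, hxm, hxU⟩ : ∃ x ∈ (𝔪 : Ideal R), ∀ q ∈ U, x ∉ q := by
      by_contra hno
      push_neg at hno
      obtain ⟨q, hq, hle⟩ := (Ideal.subset_union_prime (s := U) (f := id) ⊥ ⊥ fun q hq _ _ => (hU q hq).1).1
        (fun x hx => by
          obtain ⟨q, hq, hxq⟩ := hno x hx
          exact Set.mem_iUnion₂.2 ⟨q, Finset.mem_coe.2 hq, hxq⟩)
      exact (hU q hq).2 hle
    have hxreg : IsSMulRegular N x := by
      by_contra hx
      have h1 : x ∈ {r : R | IsSMulRegular N r}ᶜ := hx
      rw [← biUnion_associatedPrimes_eq_compl_regular R N] at h1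
      obtain ⟨q, hq, hxq⟩ := Set.mem_iUnion₂.1 h1
      exact hxU q (Finset.mem_union_left _ ((associatedPrimes.finite R N).mem_toFinset.2 hq)) hxq
    have hxL : x • L = L := hQL x fun q hq => hxU q (Finset.mem_union_right _ hq)
    rcases Nat.eq_zero_or_pos d with rfl | hd0
    · -- dimension one
      have hkill : ∀ n : ℕ, k ≤ n → ∀ z : QuotSMulTop (x ^ n) N, x ^ k • z = 0 := by
        intro n hn z
        have hreg := hxreg.pow n
        have hS := smulSeq hreg
        have hdim : Module.supportDim R (QuotSMulTop (x ^ n) N) ≤ 0 := by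
          rcases Nat.eq_zero_or_pos n with rfl | hn0
          · haveI : Subsingleton (QuotSMulTop (x ^ 0) N) := by
              rw [pow_zero, Submodule.Quotient.subsingleton_iff]
              exact one_smul R (⊤ : Submodule R N)
            rw [Module.supportDim_eq_bot_of_subsingleton]
            exact bot_le
          have h1 := Module.supportDim_quotSMulTop_succ_eq_supportDim hreg (Ideal.pow_mem_of_mem _ hxm n hn0)
          rw [hdN] at h1
          rcases eq_or_ne (Module.supportDim R (QuotSMulTop (x ^ n) N)) ⊥ with hb | hb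
          · rw [hb]; exact bot_le
          obtain ⟨e, he⟩ := WithBot.ne_bot_iff_exists.1 hb
          rw [← he] at h1 ⊢
          have h2 : e + 1 = ((0 + 1 : ℕ) : ℕ∞) := WithBot.coe_injective h1
          have h3 : e = 0 := by
            rw [Nat.cast_add, Nat.cast_one, Nat.cast_zero] at h2
            exact WithTop.add_right_cancel ENat.one_ne_top h2
          rw [h3]; rfl
        have htor : LocCoh.IsPowerTorsion (𝔪 : Ideal R) (QuotSMulTop (x ^ n) N) := by
          intro w
          obtain ⟨j, hj⟩ := Ideal.exists_pow_le_of_le_radical_of_fg (I := 𝔪)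
            (J := Module.annihilator R (QuotSMulTop (x ^ n) N)) (by
              rw [Ideal.radical_eq_sInf]
              refine le_sInf fun P ⟨hP, hPp⟩ => ?_
              have hmem : (⟨P, hPp⟩ : PrimeSpectrum R) ∈ Module.support R (QuotSMulTop (x ^ n) N) :=
                Module.mem_support_iff_of_finite.2 hP
              haveI : Nontrivial (QuotSMulTop (x ^ n) N) := by
                rw [← not_subsingleton_iff_nontrivial]
                intro hs
                rw [Module.support_eq_empty_iff.2 hs] at hmem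
                exact hmem
              have h0 : Module.supportDim R (QuotSMulTop (x ^ n) N) = 0 := by
                refine le_antisymm hdim ?_
                obtain ⟨e, he⟩ := WithBot.ne_bot_iff_exists.1 (Module.supportDim_ne_bot_of_nontrivial R
                  (QuotSMulTop (x ^ n) N))
                rw [← he]
                exact WithBot.coe_le_coe.2 (bot_le (α := ℕ∞) (a := e))
              rw [support_of_supportDim_eq_zero (R := R) (N := QuotSMulTop (x ^ n) N) h0] at hmem
              exact hmem) (IsNoetherian.noetherian _)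
          exact ⟨j, fun r hr => Module.mem_annihilator.1 (hj hr) w⟩
        obtain ⟨e⟩ := H0Equiv_of_torsion 𝔪 (QuotSMulTop (x ^ n) N) htor
        have hinj : Function.Injective ((lcDelta 𝔪).δ hS 0) := by
          refine (ModuleCat.mono_iff_injective _).1 (((lcDelta 𝔪).exact₃ hS 0).mono_g ?_)
          exact (ModuleCat.isZero_iff_subsingleton.2 (subsingleton_H0_quot_torsion 𝔪 M) :
            IsZero ((localCohomology 𝔪 0).obj (ModuleCat.of R N))).eq_of_src _ _
        apply e.symm.injective
        rw [map_smul, map_zero]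
        apply hinj
        refine ((map_smul ((lcDelta 𝔪).δ hS 0).hom (x ^ k) (e.symm z)).trans ?_).trans (map_zero _).symm
        exact hkN _ (Ideal.pow_mem_pow hxm k) _
      have htop : x ^ k • (⊤ : Submodule R N) ≤ Ideal.span {x} • (x ^ k • ⊤) := by
        intro w hw
        obtain ⟨v, -, rfl⟩ := (Submodule.mem_smul_pointwise_iff_exists _ _ _).1 hw
        have hz := hkill (k + 1) (Nat.le_succ k) (Submodule.Quotient.mk v)
        rw [← Submodule.Quotient.mk_smul] at hz
        obtain ⟨u, -, hu⟩ := (Submodule.mem_smul_pointwise_iff_exists _ _ _).1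
          ((Submodule.Quotient.mk_eq_zero _).1 hz)
        rw [← hu, pow_succ', mul_smul]
        exact Submodule.smul_mem_smul (Ideal.mem_span_singleton_self x)
          (Submodule.smul_mem_pointwise_smul _ _ _ trivial)
      have hbot : x ^ k • (⊤ : Submodule R N) = ⊥ :=
        Submodule.eq_bot_of_le_smul_of_le_jacobson_bot (Ideal.span {x}) _ (IsNoetherian.noetherian _) htop
          (by rw [Ideal.span_singleton_le_iff_mem, IsLocalRing.jacobson_eq_maximalIdeal ⊥ bot_ne_top]; exact hxm)
      haveI : Subsingleton N := ⟨fun u v => by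
        refine hxreg.pow k ?_
        have h0 : ∀ w : N, x ^ k • w = 0 := fun w => (Submodule.mem_bot R).1
          (hbot ▸ Submodule.smul_mem_pointwise_smul w (x ^ k) ⊤ trivial)
        exact (h0 u).trans (h0 v).symm⟩
      rw [Module.supportDim_eq_bot_of_subsingleton] at hdN
      exact absurd hdN WithBot.bot_ne_coe
    · -- higher dimension
      have hdim : Module.supportDim R (QuotSMulTop x N) = (d : WithBot ℕ∞) := by
        have h1 := Module.supportDim_quotSMulTop_succ_eq_supportDim hxreg hxm
        rw [hdN] at h1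
        rcases eq_or_ne (Module.supportDim R (QuotSMulTop x N)) ⊥ with hb | hb
        · rw [hb, WithBot.bot_add] at h1; exact absurd h1 WithBot.bot_ne_coe
        obtain ⟨e, he⟩ := WithBot.ne_bot_iff_exists.1 hb
        rw [← he] at h1 ⊢
        have h2 : e + 1 = ((d + 1 : ℕ) : ℕ∞) := WithBot.coe_injective h1
        rw [Nat.cast_add, Nat.cast_one] at h2
        rw [WithTop.add_right_cancel ENat.one_ne_top h2]
        rfl
      obtain ⟨a, ha, y, hy⟩ := (ih (QuotSMulTop x N) hdim).2 hd0 (l + k)
      apply hy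
      have hS := smulSeq hxreg
      rw [pow_add] at ha
      refine Submodule.mul_induction_on ha (fun b hb c hc => ?_) fun u v hu hv => by rw [add_smul, hu, hv, add_zero]
      rw [mul_smul]
      obtain ⟨z, hz⟩ : ∃ z : LocCoh.H 𝔪 d N,
          ((localCohomology 𝔪 d).map (ModuleCat.smulShortComplex (ModuleCat.of R N) x).g).hom z = c • y :=
        (ShortComplex.moduleCat_exact_iff _).1 ((lcDelta 𝔪).exact₃ hS d) (c • y)
          ((map_smul ((lcDelta 𝔪).δ hS d).hom c y).trans (hkN c hc _))
      have hbz : b • z ∈ x • L := hxL.symm ▸ Submodule.smul_mem_smul hb trivial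
      obtain ⟨v, -, hv⟩ := (Submodule.mem_smul_pointwise_iff_exists _ _ _).1 hbz
      refine (congrArg (b • ·) hz).symm.trans ?_
      refine (map_smul ((localCohomology 𝔪 d).map (ModuleCat.smulShortComplex (ModuleCat.of R N) x).g).hom b z).symm.trans ?_
      rw [← hv]
      refine (congrArg _ (map_smulShortComplex_f x d v).symm).trans ?_
      haveI := (lcDelta 𝔪).preservesZero d
      exact ConcreteCategory.congr_hom (((ModuleCat.smulShortComplex (ModuleCat.of R N) x).map ((lcDelta 𝔪).F d)).zero) v

end LocCohLib
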