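import Groth.Prelude.Def_DRing3
import Mathlib.Algebra.Module.Injective
import Mathlib.RingTheory.Filtration
import Mathlib.Algebra.Module.LocalizedModule.Basic
import Mathlib.Algebra.Category.ModuleCat.Injective

/-! Injective modules over Noetherian rings. -/

set_option autoImplicit false
universe u

open Pointwise

namespace LocCohLib

variable {R : Type u} [CommRing R] [IsNoetherianRing R]

/-- `E → E_f` is onto for injective `E`. -/
theorem surjective_loc_of_baer {E : Type u} [AddCommGroup E] [Module R E] (hE : Module.Baer R E)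
    (f : R) : Function.Surjective (LocalizedModule.mkLinearMap (Submonoid.powers f) E) := by
  intro z
  obtain ⟨⟨e, ⟨_, k, rfl⟩⟩, rfl⟩ := IsLocalizedModule.mk'_surjective (Submonoid.powers f)
    (LocalizedModule.mkLinearMap (Submonoid.powers f) E) z
  let K : ℕ →o Ideal R :=
    { toFun := fun n => LinearMap.ker (LinearMap.toSpanSingleton R R (f ^ n))
      monotone' := fun m n hmn r hr => by
        rw [LinearMap.mem_ker, LinearMap.toSpanSingleton_apply, smul_eq_mul] at hr ⊢
        obtain ⟨d, rfl⟩ := Nat.exists_eq_add_of_le hmn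
        rw [pow_add, ← mul_assoc, hr, zero_mul] }
  obtain ⟨N, hN⟩ := monotone_stabilizes_iff_noetherian.2 (inferInstanceAs (IsNoetherian R R)) K
  let p : R →ₗ[R] R := LinearMap.toSpanSingleton R R (f ^ (N + k))
  let g : R →ₗ[R] E := LinearMap.toSpanSingleton R E (f ^ N • e)
  have hker : LinearMap.ker p ≤ LinearMap.ker g := by
    intro r hr
    have h1 : r ∈ K N := (hN (N + k) (Nat.le_add_right N k)).symm ▸ hr
    change r ∈ LinearMap.ker (LinearMap.toSpanSingleton R R (f ^ N)) at h1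
    rw [LinearMap.mem_ker, LinearMap.toSpanSingleton_apply, smul_eq_mul] at h1
    rw [LinearMap.mem_ker, LinearMap.toSpanSingleton_apply, smul_smul, h1, zero_smul]
  obtain ⟨g', hg'⟩ := hE (LinearMap.range p)
    ((LinearMap.ker p).liftQ g hker ∘ₗ p.quotKerEquivRange.symm.toLinearMap)
  have he : f ^ (N + k) • g' 1 = f ^ N • e := by
    have h2 := hg' (f ^ (N + k)) ⟨1, by simp [p]⟩
    have h3 : (p.quotKerEquivRange.symm ⟨f ^ (N + k), ⟨1, by simp [p]⟩⟩) = Submodule.Quotient.mk 1 := by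
      rw [LinearEquiv.symm_apply_eq]
      exact Subtype.ext (by show f ^ (N + k) = p 1; simp [p])
    rw [← map_smul, smul_eq_mul, mul_one, h2]
    show (LinearMap.ker p).liftQ g hker _ = _
    rw [LinearEquiv.coe_coe, h3]
    show g 1 = f ^ N • e
    simp [g]
  refine ⟨g' 1, ?_⟩
  show _ = IsLocalizedModule.mk' _ e (⟨f ^ k, k, rfl⟩ : Submonoid.powers f)
  rw [eq_comm, IsLocalizedModule.mk'_eq_iff, Submonoid.smul_def, ← map_smul]
  rw [IsLocalizedModule.eq_iff_exists (Submonoid.powers f)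
    (LocalizedModule.mkLinearMap (Submonoid.powers f) E)]
  refine ⟨⟨f ^ N, N, rfl⟩, ?_⟩
  show f ^ N • e = f ^ N • f ^ k • g' 1
  rw [smul_smul, ← pow_add, he]

/-- `Γ_I E` is injective for injective `E`. -/
theorem baer_torsionSub {E : Type u} [AddCommGroup E] [Module R E] (hE : Module.Baer R E)
    (I : Ideal R) : Module.Baer R (DRing.torsionSub I E) := by
  intro J g
  obtain ⟨S, hS⟩ := (IsNoetherian.noetherian J : Submodule.FG J)
  classical
  have hex : ∀ x : J, ∃ n : ℕ, ∀ a ∈ I ^ n, a • g x = 0 := fun x => by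
    obtain ⟨n, hn⟩ := (g x).2
    exact ⟨n, fun a ha => Subtype.ext (hn a ha)⟩
  have hn : ∃ n : ℕ, ∀ x : J, ∀ a ∈ I ^ n, a • g x = 0 := by
    choose e he using hex
    refine ⟨S.attach.sup (fun s => e ⟨s.1, hS ▸ Submodule.subset_span s.2⟩), fun x a ha => ?_⟩
    obtain ⟨x, hx⟩ := x
    rw [← hS] at hx
    induction hx using Submodule.span_induction with
    | mem y hy =>
      exact he ⟨y, hS ▸ Submodule.subset_span hy⟩ a
        (Ideal.pow_le_pow_right (Finset.le_sup (f := fun s : {s // s ∈ S} => e ⟨s.1, hS ▸ Submodule.subset_span s.2⟩)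
          (Finset.mem_attach S ⟨y, hy⟩)) ha)
    | zero => exact (congrArg (a • ·) (map_zero g)).trans (smul_zero a)
    | add y z hy hz ihy ihz =>
      show a • g (⟨y, hS ▸ hy⟩ + ⟨z, hS ▸ hz⟩) = 0
      rw [map_add, smul_add, ihy, ihz, add_zero]
    | smul r y hy ih =>
      show a • g (r • ⟨y, hS ▸ hy⟩) = 0
      rw [map_smul, smul_comm, ih, smul_zero]
  obtain ⟨n, hn⟩ := hn
  obtain ⟨k, hk⟩ := Ideal.exists_pow_inf_eq_pow_smul (M := R) I J
  let L : Ideal R := I ^ (n + k)
  have hLJ : ∀ x (hx : x ∈ J), x ∈ L → g ⟨x, hx⟩ = 0 := by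
    intro x hx hxL
    have h1 : x ∈ I ^ n • J := by
      have h2 := hk (n + k) (Nat.le_add_left k n)
      rw [Nat.add_sub_cancel, smul_eq_mul, Ideal.mul_top] at h2
      have h3 : x ∈ L ⊓ J := ⟨hxL, hx⟩
      rw [h2] at h3
      exact Submodule.smul_mono le_rfl inf_le_right h3
    have h4 : ∀ y ∈ I ^ n • J, ∀ hy : y ∈ J, g ⟨y, hy⟩ = 0 := by
      intro y hy
      induction hy using Submodule.smul_induction_on' with
      | smul r hr z hz =>
        intro hy'
        exact (map_smul g r ⟨z, hz⟩).trans (hn ⟨z, hz⟩ r hr)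
      | add y hy' z hz' ihy ihz =>
        intro h
        exact ((map_add g ⟨y, Submodule.smul_le_right hy'⟩ ⟨z, Submodule.smul_le_right hz'⟩).trans
          (by rw [ihy, ihz, add_zero]))
    exact h4 x h1 hx
  let q : J →ₗ[R] R ⧸ L := L.mkQ ∘ₗ J.subtype
  have hker : LinearMap.ker q ≤ LinearMap.ker ((DRing.torsionSub I E).subtype ∘ₗ g) := fun x hx => by
    rw [LinearMap.mem_ker, LinearMap.comp_apply, Submodule.mkQ_apply, Submodule.Quotient.mk_eq_zero] at hx
    rw [LinearMap.mem_ker, LinearMap.comp_apply, show g x = 0 from hLJ x x.2 hx, map_zero]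
  obtain ⟨ψ, hψ⟩ : ∃ ψ : R →ₗ[R] E, (∀ x : J, ψ x = g x) ∧ ∀ a ∈ L, ψ a = 0 := by
    let φ : LinearMap.range q →ₗ[R] E :=
      (LinearMap.ker q).liftQ _ hker ∘ₗ q.quotKerEquivRange.symm.toLinearMap
    let T : Ideal R := (LinearMap.range q).comap L.mkQ
    obtain ⟨ψ, hψ⟩ := hE T (φ ∘ₗ L.mkQ.restrict (p := T) (q := LinearMap.range q) fun _ h => h)
    refine ⟨ψ, fun x => ?_, fun a ha => ?_⟩
    · rw [hψ x.1 ⟨x, rfl⟩]
      show (LinearMap.ker q).liftQ _ hker (q.quotKerEquivRange.symm ⟨q x, _⟩) = _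
      rw [show q.quotKerEquivRange.symm ⟨q x, LinearMap.mem_range_self q x⟩ = Submodule.Quotient.mk x from
        (LinearEquiv.symm_apply_eq _).2 (Subtype.ext rfl)]
      rfl
    · rw [hψ a (show L.mkQ a ∈ LinearMap.range q from
        ⟨0, by rw [map_zero]; exact ((Submodule.Quotient.mk_eq_zero L).2 ha).symm⟩)]
      have h0 : L.mkQ a = 0 := (Submodule.Quotient.mk_eq_zero L).2 ha
      show φ ⟨L.mkQ a, _⟩ = 0
      exact (congrArg φ (Subtype.ext h0)).trans (map_zero φ)
  have hmem : ∀ r, ψ r ∈ DRing.torsionSub I E := fun r => ⟨n + k, fun a ha => by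
    rw [← map_smul, smul_eq_mul]
    exact hψ.2 _ (Ideal.mul_mem_right r _ ha)⟩
  exact ⟨ψ.codRestrict _ hmem, fun x hx => Subtype.ext (hψ.1 ⟨x, hx⟩)⟩

end LocCohLib
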