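import Groth.Agent.LocCohLib.FinDim
import Mathlib.RingTheory.Regular.LinearMap

/-! Vanishing of local cohomology versus vanishing of Ext out of torsion modules. -/

set_option autoImplicit false
set_option maxHeartbeats 1000000
universe u

noncomputable section

open CategoryTheory Limits Abelian

namespace LocCohLib

variable {R : Type u} [CommRing R] [IsNoetherianRing R]

theorem isPowerTorsion_of_support_le (J : Ideal R) (F : Type u) [AddCommGroup F] [Module R F] [Module.Finite R F]
    (h : Module.support R F ⊆ PrimeSpectrum.zeroLocus (J : Set R)) : LocCoh.IsPowerTorsion J F := by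
  rw [Module.support_eq_zeroLocus, PrimeSpectrum.zeroLocus_subset_zeroLocus_iff] at h
  obtain ⟨k, hk⟩ := Ideal.exists_pow_le_of_le_radical_of_fg h (IsNoetherian.noetherian J)
  exact fun m => ⟨k, fun a ha => Module.mem_annihilator.1 (hk ha) m⟩

theorem subsingleton_ext_of_subsingleton_H (J : Ideal R) (F : Type u) [AddCommGroup F] [Module R F]
    (hF : LocCoh.IsPowerTorsion J F) (G : Type u) [AddCommGroup G] [Module R G] (i : ℕ)
    (h : ∀ j ≤ i, Subsingleton (LocCoh.H J j G)) :
    Subsingleton (Ext (ModuleCat.of R F) (ModuleCat.of R G) i) := by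
  refine ⟨fun x y => ?_⟩
  obtain ⟨s, hs, h0⟩ := killsExt_of_kills_H (a := J) (⊥ : Submonoid R) (c := (1 : R)) (ModuleCat.of R F) hF i G
    (fun j hj y => (h j hj).elim _ _) (x - y)
  rw [Submonoid.mem_bot] at hs
  subst hs
  rw [one_pow, mul_one, one_smul, sub_eq_zero] at h0
  exact h0

theorem subsingleton_H0_of_subsingleton_linearMap (J : Ideal R) (F : Type u) [AddCommGroup F] [Module R F]
    [Module.Finite R F] (hsupp : PrimeSpectrum.zeroLocus (J : Set R) ⊆ Module.support R F) (G : Type u)
    [AddCommGroup G] [Module R G] [Subsingleton (F →ₗ[R] G)] : Subsingleton (LocCoh.H J 0 G) := by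
  rw [subsingleton_H0_iff]
  intro p hp hle
  obtain ⟨hpp, v, hv⟩ := (isAssociatedPrime_iff (R := R) (I := p) (M := G)).1 hp
  have hann : Module.annihilator R F ≤ p :=
    Module.mem_support_iff_of_finite.1 (hsupp (show (⟨p, hpp⟩ : PrimeSpectrum R) ∈ _ from hle))
  let N : Submodule R G := Submodule.span R {v}
  haveI : Subsingleton (F →ₗ[R] N) := ⟨fun f g => LinearMap.ext fun x => N.injective_subtype
    (LinearMap.congr_fun (Subsingleton.elim (N.subtype ∘ₗ f) (N.subtype ∘ₗ g)) x)⟩
  haveI : Module.Finite R N := Module.Finite.span_singleton R v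
  obtain ⟨r, hr, hreg⟩ := IsSMulRegular.subsingleton_linearMap_iff.1 ‹Subsingleton (F →ₗ[R] N)›
  have h1 : r ∈ p := hann hr
  rw [hv, Submodule.mem_colon_singleton, Submodule.mem_bot] at h1
  have h2 : (⟨v, Submodule.mem_span_singleton_self v⟩ : N) = 0 :=
    hreg.right_eq_zero_of_smul (Subtype.ext h1)
  have h3 : v = 0 := congrArg Subtype.val h2
  exact hpp.ne_top ((Ideal.eq_top_iff_one _).2 (by
    rw [hv, Submodule.mem_colon_singleton, h3, smul_zero]; exact zero_mem _))

theorem subsingleton_H_of_subsingleton_ext (J : Ideal R) (F : Type u) [AddCommGroup F] [Module R F]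
    [Module.Finite R F] (hsupp : Module.support R F = PrimeSpectrum.zeroLocus (J : Set R)) :
    ∀ (n : ℕ) (G : Type u) [AddCommGroup G] [Module R G],
      (∀ i < n, Subsingleton (Ext (ModuleCat.of R F) (ModuleCat.of R G) i)) →
      ∀ i < n, Subsingleton (LocCoh.H J i G) := by
  intro n
  induction n with
  | zero => intro G _ _ _ i hi; omega
  | succ n ih =>
    intro G _ _ h i hi
    have h0 : Subsingleton (LocCoh.H J 0 G) := by
      haveI := h 0 (Nat.succ_pos n)
      haveI : Subsingleton (ModuleCat.of R F ⟶ ModuleCat.of R G) :=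
        (Ext.linearEquiv₀ (R := R) (X := ModuleCat.of R F) (Y := ModuleCat.of R G)).symm.injective.subsingleton
      haveI : Subsingleton (F →ₗ[R] G) :=
        ⟨fun f g => congrArg ModuleCat.Hom.hom (Subsingleton.elim (ModuleCat.ofHom f) (ModuleCat.ofHom g))⟩
      exact subsingleton_H0_of_subsingleton_linearMap J F hsupp.ge G
    rcases i with _ | i
    · exact h0
    let E := Injective.under (ModuleCat.of R G)
    haveI hEi : Injective (ModuleCat.of R E) := (inferInstance : Injective (Injective.under (ModuleCat.of R G)))
    have hEb : Module.Baer R E := Module.Baer.of_injective (Module.injective_module_of_injective_object R E)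
    let TE := DRing.torsionSub J E
    let E' := E ⧸ TE
    let f : G →ₗ[R] E' := TE.mkQ ∘ₗ (Injective.ι (ModuleCat.of R G)).hom
    have hι : Function.Injective (Injective.ι (ModuleCat.of R G)).hom :=
      (ModuleCat.mono_iff_injective _).1 inferInstance
    haveI : Subsingleton (DRing.torsionSub J G) := (H0Equiv J G).symm.injective.subsingleton
    have hf : Function.Injective f := (injective_iff_map_eq_zero f).2 fun m hm => by
      obtain ⟨k, hk⟩ := (Submodule.Quotient.mk_eq_zero TE).1 hm
      have hm' : m ∈ DRing.torsionSub J G := ⟨k, fun r hr => hι (by rw [map_smul, map_zero]; exact hk r hr)⟩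
      exact congrArg Subtype.val (Subsingleton.elim (⟨m, hm'⟩ : DRing.torsionSub J G) 0)
    have hS : (ShortComplex.moduleCatMk f (LinearMap.range f).mkQ
        (LinearMap.exact_map_mkQ_range f).linearMap_comp_eq_zero).ShortExact :=
      { exact := (ShortComplex.ShortExact.moduleCat_exact_iff_function_exact _).2 (LinearMap.exact_map_mkQ_range f)
        mono_f := (ModuleCat.mono_iff_injective _).2 hf
        epi_g := (ModuleCat.epi_iff_surjective _).2 (Submodule.mkQ_surjective _) }
    haveI hinj : Module.Injective R E' := (baer_quot_torsion J hEb).injective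
    haveI hinjO : Injective (ModuleCat.of R E') := Module.injective_object_of_injective_module R E'
    have hE' : ∀ j, Subsingleton (LocCoh.H J j E') := by
      intro j
      rcases j with _ | j
      · exact subsingleton_H0_quot_torsion J E
      · exact moduleCat_zero_of_isZero (lcDelta_effaceable J _ hinjO j)
    have hExtE : ∀ j, Subsingleton (Ext (ModuleCat.of R F) (ModuleCat.of R E') j) := by
      intro j
      rcases j with _ | j
      · haveI := subsingleton_H0_quot_torsion J E
        haveI : Subsingleton (DRing.torsionSub J E') := (H0Equiv J E').symm.injective.subsingleton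
        haveI : Subsingleton (ModuleCat.of R F ⟶ ModuleCat.of R E') := by
          refine ⟨fun φ ψ => ?_⟩
          ext (y : F)
          obtain ⟨k, hk⟩ := isPowerTorsion_of_support_le J F hsupp.le y
          have hy : ∀ χ : F →ₗ[R] E', χ y = 0 := fun χ =>
            congrArg Subtype.val (Subsingleton.elim (⟨χ y, ⟨k, fun r hr => by rw [← map_smul, hk r hr, map_zero]⟩⟩ :
              DRing.torsionSub J E') 0)
          exact (hy φ.hom).trans (hy ψ.hom).symm
        exact (Ext.linearEquiv₀ (R := R) (X := ModuleCat.of R F) (Y := ModuleCat.of R E')).injective.subsingleton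
      · exact subsingleton_of_forall_eq 0 fun x => Ext.eq_zero_of_injective x
    have hQ : ∀ j < n, Subsingleton (Ext (ModuleCat.of R F) (ModuleCat.of R (E' ⧸ LinearMap.range f)) j) := by
      intro j hj
      refine subsingleton_of_forall_eq 0 fun x => ?_
      obtain ⟨x₂, hx₂⟩ := Ext.covariant_sequence_exact₃ (ModuleCat.of R F) hS x rfl
        ((h (j + 1) (by omega)).elim _ _)
      have hx0 : x₂ = 0 := (hExtE j).elim _ _
      rw [hx0] at hx₂
      exact hx₂.symm.trans (Ext.zero_comp ..)
    refine subsingleton_of_forall_eq 0 fun y => ?_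
    obtain ⟨z, hz⟩ := (ShortComplex.moduleCat_exact_iff _).1 ((lcDelta J).exact₁ hS i) y
      ((hE' (i + 1)).elim _ _)
    rw [← hz]
    exact (congrArg _ ((ih _ hQ i (by omega)).elim z (0 : LocCoh.H J i (E' ⧸ LinearMap.range f)))).trans (map_zero _)

end LocCohLib
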