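import Groth.Agent.LocCohLib.Punctured
import Groth.Prelude.Def_W4bk5brsh7111920
import Mathlib.Algebra.Category.ModuleCat.Ext.Finite
import Mathlib.Algebra.Homology.DerivedCategory.Ext.EnoughInjectives
import Mathlib.RingTheory.Filtration
import Mathlib.RingTheory.Ideal.KrullsHeightTheorem

/-! Annihilation of local cohomology and adjusted depth. -/

set_option autoImplicit false
set_option maxHeartbeats 1000000
universe u

noncomputable section

open CategoryTheory Limits Opposite Abelian Pointwise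

namespace LocCohLib

variable {R : Type u} [CommRing R]

/-- `z` kills `Extⁱ(X, Y)` up to `S`. -/
def KillsExt (S : Submonoid R) (z : R) (X Y : ModuleCat.{u} R) (i : ℕ) : Prop :=
  ∀ e : Ext X Y i, ∃ s ∈ S, (s * z) • e = 0

variable {S : Submonoid R} {X Y : ModuleCat.{u} R} {i : ℕ} {z w : R}

theorem KillsExt.of_dvd (h : KillsExt S z X Y i) (hd : z ∣ w) : KillsExt S w X Y i := by
  intro e
  obtain ⟨c, rfl⟩ := hd
  obtain ⟨s, hs, h0⟩ := h e
  exact ⟨s, hs, by rw [show s * (z * c) = c * (s * z) by ring, mul_smul, h0, smul_zero]⟩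

theorem mk₀_smul_id_comp (r : R) (e : Ext X Y i) :
    (Ext.mk₀ (r • 𝟙 X)).comp e (zero_add i) = r • e := by
  rw [Ext.mk₀_smul, Ext.smul_comp, Ext.mk₀_id_comp]

theorem killsExt_of_smul_left (z : R) (h : (z • 𝟙 X) = 0) : KillsExt S z X Y i := fun e => by
  refine ⟨1, S.one_mem, ?_⟩
  rw [one_mul, ← Ext.mk₀_id_comp e, ← Ext.smul_comp, ← Ext.mk₀_smul, h, Ext.mk₀_zero, Ext.zero_comp]

theorem killsExt_of_smul_right (z : R) (h : (z • 𝟙 Y) = 0) : KillsExt S z X Y i := fun e => by
  refine ⟨1, S.one_mem, ?_⟩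
  rw [one_mul, Ext.smul_eq_comp_mk₀, h, Ext.mk₀_zero, Ext.comp_zero]

theorem KillsExt.comid {T : ShortComplex (ModuleCat.{u} R)} (hT : T.ShortExact)
    (h₁ : KillsExt S z X T.X₁ i) (h₃ : KillsExt S w X T.X₃ i) : KillsExt S (z * w) X T.X₂ i := by
  intro e
  obtain ⟨s, hs, h⟩ := h₃ (e.comp (Ext.mk₀ T.g) (add_zero i))
  obtain ⟨a, ha⟩ := Ext.covariant_sequence_exact₂ X hT ((s * w) • e) (by rw [Ext.smul_comp, h])
  obtain ⟨s', hs', h'⟩ := h₁ a
  exact ⟨s' * s, S.mul_mem hs' hs, by
    rw [show s' * s * (z * w) = (s' * z) * (s * w) by ring, mul_smul, ← ha, ← Ext.smul_comp, h',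
      Ext.zero_comp]⟩

theorem KillsExt.coleft {T : ShortComplex (ModuleCat.{u} R)} (hT : T.ShortExact)
    (h₃ : KillsExt S z X T.X₃ i) (h₂ : KillsExt S w X T.X₂ (i + 1)) :
    KillsExt S (z * w) X T.X₁ (i + 1) := by
  intro e
  obtain ⟨s, hs, h⟩ := h₂ (e.comp (Ext.mk₀ T.f) (add_zero (i + 1)))
  obtain ⟨a, ha⟩ := Ext.covariant_sequence_exact₁ X hT ((s * w) • e) (by rw [Ext.smul_comp, h]) rfl
  obtain ⟨s', hs', h'⟩ := h₃ a
  exact ⟨s' * s, S.mul_mem hs' hs, by
    rw [show s' * s * (z * w) = (s' * z) * (s * w) by ring, mul_smul, ← ha, ← Ext.smul_comp, h',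
      Ext.zero_comp]⟩

theorem KillsExt.coright {T : ShortComplex (ModuleCat.{u} R)} (hT : T.ShortExact)
    (h₂ : KillsExt S z X T.X₂ i) (h₁ : KillsExt S w X T.X₁ (i + 1)) :
    KillsExt S (z * w) X T.X₃ i := by
  intro e
  obtain ⟨s, hs, h⟩ := h₁ (e.comp hT.extClass rfl)
  obtain ⟨a, ha⟩ := Ext.covariant_sequence_exact₃ X hT ((s * w) • e) rfl (by rw [Ext.smul_comp, h])
  obtain ⟨s', hs', h'⟩ := h₂ a
  exact ⟨s' * s, S.mul_mem hs' hs, by
    rw [show s' * s * (z * w) = (s' * z) * (s * w) by ring, mul_smul, ← ha, ← Ext.smul_comp, h',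
      Ext.zero_comp]⟩

theorem KillsExt.contramid {T : ShortComplex (ModuleCat.{u} R)} (hT : T.ShortExact)
    (h₃ : KillsExt S z T.X₃ Y i) (h₁ : KillsExt S w T.X₁ Y i) : KillsExt S (z * w) T.X₂ Y i := by
  intro e
  obtain ⟨s, hs, h⟩ := h₁ ((Ext.mk₀ T.f).comp e (zero_add i))
  obtain ⟨a, ha⟩ := Ext.contravariant_sequence_exact₂ hT Y ((s * w) • e) (by rw [Ext.comp_smul, h])
  obtain ⟨s', hs', h'⟩ := h₃ a
  exact ⟨s' * s, S.mul_mem hs' hs, by
    rw [show s' * s * (z * w) = (s' * z) * (s * w) by ring, mul_smul, ← ha, ← Ext.comp_smul, h',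
      Ext.comp_zero]⟩

variable [IsNoetherianRing R] {a : Ideal R}

theorem baer_quot_torsion (a : Ideal R) {E : Type u} [AddCommGroup E] [Module R E]
    (hE : Module.Baer R E) : Module.Baer R (E ⧸ DRing.torsionSub a E) := by
  let T := DRing.torsionSub a E
  have hinjT : Module.Injective R T := (baer_torsionSub hE a).injective
  obtain ⟨ρ, hρ⟩ := hinjT.out T.subtype Subtype.val_injective LinearMap.id
  let sec : (E ⧸ T) →ₗ[R] E := T.liftQ (LinearMap.id - T.subtype ∘ₗ ρ) (fun t ht => by
    have : ρ t = ⟨t, ht⟩ := hρ ⟨t, ht⟩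
    simp [this])
  have hsec : ∀ q, T.mkQ (sec q) = q := fun q => by
    obtain ⟨e, rfl⟩ := T.mkQ_surjective q
    simp [sec]
  intro J g
  obtain ⟨G, hG⟩ := hE J (sec ∘ₗ g)
  exact ⟨T.mkQ ∘ₗ G, fun x hx => (congrArg T.mkQ (hG x hx)).trans (hsec _)⟩

/-- `Ext` out of torsion modules is killed by what kills local cohomology. -/
theorem killsExt_of_kills_H (S : Submonoid R) {c : R} (F : ModuleCat.{u} R)
    (hF : LocCoh.IsPowerTorsion a F) : ∀ (i : ℕ) (M : Type u) [AddCommGroup M] [Module R M],
      (∀ j ≤ i, ∀ y : LocCoh.H a j M, c • y = 0) → KillsExt S (c ^ (i + 1)) F (ModuleCat.of R M) i := by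
  intro i
  induction i with
  | zero =>
    intro M _ _ h e
    refine ⟨1, S.one_mem, ?_⟩
    rw [one_mul, pow_one]
    apply (Ext.linearEquiv₀ (R := R)).injective
    rw [map_smul, map_zero]
    ext (x : F)
    obtain ⟨n, hn⟩ := hF x
    let φ := (Ext.linearEquiv₀ (R := R) e).hom
    have hx : φ x ∈ DRing.torsionSub a M := ⟨n, fun r hr => by rw [← map_smul, hn r hr, map_zero]⟩
    have := h 0 le_rfl ((H0Equiv a M).symm ⟨φ x, hx⟩)
    rw [← map_smul, (H0Equiv a M).symm.map_eq_zero_iff] at this
    exact congrArg Subtype.val this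
  | succ i ih =>
    intro M _ _ h
    let T := DRing.torsionSub a M
    let M' := M ⧸ T
    have hS : (ShortComplex.moduleCatMk T.subtype T.mkQ
        (LinearMap.exact_subtype_mkQ T).linearMap_comp_eq_zero).ShortExact :=
      { exact := (ShortComplex.ShortExact.moduleCat_exact_iff_function_exact _).2 (LinearMap.exact_subtype_mkQ T)
        mono_f := (ModuleCat.mono_iff_injective _).2 Subtype.val_injective
        epi_g := (ModuleCat.epi_iff_surjective _).2 T.mkQ_surjective }
    have hT : KillsExt S c F (ModuleCat.of R T) (i + 1) := killsExt_of_smul_right c (by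
      ext (t : T)
      have := h 0 (Nat.zero_le _) ((H0Equiv a M).symm t)
      rw [← map_smul, (H0Equiv a M).symm.map_eq_zero_iff] at this
      exact congrArg Subtype.val this)
    have hM' : ∀ j ≤ i + 1, ∀ y : LocCoh.H a j M', c • y = 0 := by
      intro j hj y
      rcases j with _ | j
      · exact (subsingleton_H0_quot_torsion a M).elim _ _
      obtain ⟨x, hx⟩ := (ShortComplex.moduleCat_exact_iff _).1 ((lcDelta a).exact₃ hS (j + 1)) y
        ((subsingleton_H_of_torsion a T (isPowerTorsion_gamma a (ModuleCat.of R M)) (j + 1 + 1)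
          (Nat.succ_pos _)).elim _ _)
      rw [← hx]
      exact (map_smul ((localCohomology a (j + 1)).map (ModuleCat.ofHom T.mkQ)).hom c x).symm.trans
        ((congrArg _ (h (j + 1) hj x)).trans (map_zero _))
    let E := Injective.under (ModuleCat.of R M')
    haveI hEi : Injective (ModuleCat.of R E) := (inferInstance : Injective (Injective.under (ModuleCat.of R M')))
    have hEb : Module.Baer R E := Module.Baer.of_injective (Module.injective_module_of_injective_object R E)
    let TE := DRing.torsionSub a E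
    let E' := E ⧸ TE
    let f : M' →ₗ[R] E' := TE.mkQ ∘ₗ (Injective.ι (ModuleCat.of R M')).hom
    have hι : Function.Injective (Injective.ι (ModuleCat.of R M')).hom :=
      (ModuleCat.mono_iff_injective _).1 inferInstance
    have hf : Function.Injective f := (injective_iff_map_eq_zero f).2 fun m hm => by
      obtain ⟨n, hn⟩ := (Submodule.Quotient.mk_eq_zero TE).1 hm
      have hm' : m ∈ DRing.torsionSub a M' := ⟨n, fun r hr => hι (by rw [map_smul, map_zero]; exact hn r hr)⟩
      haveI := subsingleton_H0_quot_torsion a M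
      haveI : Subsingleton (DRing.torsionSub a M') := (H0Equiv a M').symm.injective.subsingleton
      exact congrArg Subtype.val (Subsingleton.elim (⟨m, hm'⟩ : DRing.torsionSub a M') 0)
    have hS' : (ShortComplex.moduleCatMk f (LinearMap.range f).mkQ
        (LinearMap.exact_map_mkQ_range f).linearMap_comp_eq_zero).ShortExact :=
      { exact := (ShortComplex.ShortExact.moduleCat_exact_iff_function_exact _).2 (LinearMap.exact_map_mkQ_range f)
        mono_f := (ModuleCat.mono_iff_injective _).2 hf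
        epi_g := (ModuleCat.epi_iff_surjective _).2 (Submodule.mkQ_surjective _) }
    haveI hinj : Module.Injective R E' := (baer_quot_torsion a hEb).injective
    haveI hinjO : Injective (ModuleCat.of R E') := Module.injective_object_of_injective_module R E'
    have hQ : ∀ j ≤ i, ∀ y : LocCoh.H a j (E' ⧸ LinearMap.range f), c • y = 0 := by
      intro j hj y
      have hz : IsZero (((lcDelta a).F j).obj (ModuleCat.of R E')) := by
        rcases j with _ | j
        · exact ModuleCat.isZero_iff_subsingleton.2 (subsingleton_H0_quot_torsion a E)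
        · exact lcDelta_effaceable a _ hinjO j
      have hm : Mono ((lcDelta a).δ hS' j) := ((lcDelta a).exact₃ hS' j).mono_g (hz.eq_of_src _ _)
      apply (ModuleCat.mono_iff_injective _).1 hm
      exact ((map_smul ((lcDelta a).δ hS' j).hom c y).trans (hM' (j + 1) (by omega) _)).trans (map_zero _).symm
    haveI hinjX : Injective (ShortComplex.moduleCatMk f (LinearMap.range f).mkQ
        (LinearMap.exact_map_mkQ_range f).linearMap_comp_eq_zero).X₂ := hinjO
    have hM'k : KillsExt S (c ^ (i + 1) * 1) F (ModuleCat.of R M') (i + 1) :=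
      KillsExt.coleft hS' (ih _ hQ) fun e => ⟨1, S.one_mem, by rw [Ext.eq_zero_of_injective e, smul_zero]⟩
    exact (KillsExt.comid hS hT hM'k).of_dvd ⟨1, by ring⟩

variable (a)

/-- The descent from torsion modules to all modules. -/
theorem killsExt_descent (q : Ideal R) [q.IsPrime] {c : R} (t : ℕ) (M : Type u) [AddCommGroup M]
    [Module R M] [Module.Finite R M] (h : ∀ j ≤ t, ∀ y : LocCoh.H a j M, c • y = 0) :
    ∀ l : List R, (∀ y ∈ l, y ∈ q) → ∀ i : ℕ, i + l.length ≤ t →
      ∀ (F : Type u) [AddCommGroup F] [Module R F] [Module.Finite R F],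
        (∀ x ∈ a, ∃ s ∈ q.primeCompl, s * x ∈ (Module.annihilator R F ⊔ Ideal.span {y | y ∈ l}).radical) →
        KillsExt q.primeCompl ((c ^ (t + 1)) ^ (2 ^ l.length)) (ModuleCat.of R F) (ModuleCat.of R M) i := by
  intro l
  induction l with
  | nil =>
    intro _ i hi F _ _ _ hF
    obtain ⟨gs, hgs⟩ := exists_list_span a
    have hs : ∃ s ∈ q.primeCompl, ∀ x ∈ a, s * x ∈ (Module.annihilator R F).radical := by
      have h1 : ∀ g ∈ gs, ∃ s ∈ q.primeCompl, s * g ∈ (Module.annihilator R F).radical := fun g hg => by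
        simpa using hF g (hgs ▸ Ideal.subset_span hg)
      have h2 : ∃ s ∈ q.primeCompl, ∀ g ∈ gs, s * g ∈ (Module.annihilator R F).radical := by
        clear hgs hF
        induction gs with
        | nil => exact ⟨1, q.primeCompl.one_mem, by simp⟩
        | cons g gs ihg =>
          obtain ⟨s, hs, hs'⟩ := ihg fun x hx => h1 x (List.mem_cons_of_mem _ hx)
          obtain ⟨u, hu, hu'⟩ := h1 g (List.mem_cons_self ..)
          refine ⟨u * s, q.primeCompl.mul_mem hu hs, ?_⟩
          intro x hx
          rcases List.mem_cons.1 hx with rfl | hx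
          · rw [mul_right_comm]; exact Ideal.mul_mem_right _ _ hu'
          · rw [mul_assoc]; exact Ideal.mul_mem_left _ _ (hs' x hx)
      obtain ⟨s, hs, hs'⟩ := h2
      refine ⟨s, hs, fun x hx => ?_⟩
      rw [← hgs] at hx
      induction hx using Submodule.span_induction with
      | mem g hg => exact hs' g hg
      | zero => rw [mul_zero]; exact zero_mem _
      | add u v _ _ hu hv => rw [mul_add]; exact add_mem hu hv
      | smul r u _ hu => rw [smul_eq_mul, mul_left_comm]; exact Ideal.mul_mem_left _ _ hu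
    obtain ⟨s, hsq, hs⟩ := hs
    obtain ⟨n, hn⟩ := Ideal.exists_pow_le_of_le_radical_of_fg
      (I := Ideal.span {s} * a) (J := Module.annihilator R F) (by
        rw [Ideal.span_singleton_mul_le_iff]; exact hs) (IsNoetherian.noetherian _)
    let p : F →ₗ[R] F := s ^ n • LinearMap.id
    have htor : LocCoh.IsPowerTorsion a (LinearMap.range p) := by
      rintro ⟨_, x, rfl⟩
      refine ⟨n, fun r hr => Subtype.ext ?_⟩
      show r • (s ^ n • x) = 0
      rw [smul_smul, mul_comm]
      exact Module.mem_annihilator.1 (hn (by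
        rw [mul_pow, Ideal.span_singleton_pow]
        exact Ideal.mul_mem_mul (Ideal.mem_span_singleton_self _) hr)) x
    intro e
    obtain ⟨u, hu, h0⟩ := killsExt_of_kills_H q.primeCompl (ModuleCat.of R (LinearMap.range p)) htor i M
      (fun j hj => h j (le_trans hj (by simpa using hi)))
      ((Ext.mk₀ (ModuleCat.ofHom (LinearMap.range p).subtype)).comp e (zero_add i))
    refine ⟨u * s ^ n, q.primeCompl.mul_mem hu (pow_mem hsq n), ?_⟩
    obtain ⟨k, hk⟩ := Nat.exists_eq_add_of_le (show i + 1 ≤ t + 1 by simp at hi; omega)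
    simp only [List.length_nil, pow_zero, pow_one]
    rw [hk, pow_add, show u * s ^ n * (c ^ (i + 1) * c ^ k) = c ^ k * ((u * c ^ (i + 1)) * s ^ n) by ring,
      mul_smul, mul_smul]
    have hp : (s ^ n • 𝟙 (ModuleCat.of R F) : ModuleCat.of R F ⟶ ModuleCat.of R F) =
        ModuleCat.ofHom p.rangeRestrict ≫ ModuleCat.ofHom (LinearMap.range p).subtype := by
      ext x
      rfl
    have h1 : s ^ n • e = (Ext.mk₀ (ModuleCat.ofHom p.rangeRestrict)).comp
        ((Ext.mk₀ (ModuleCat.ofHom (LinearMap.range p).subtype)).comp e (zero_add i)) (zero_add i) := by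
      rw [Ext.mk₀_comp_mk₀_assoc, ← hp, Ext.mk₀_smul, Ext.smul_comp, Ext.mk₀_id_comp]
    rw [h1, ← Ext.comp_smul, h0, Ext.comp_zero, smul_zero]
  | cons y l ih =>
    intro hl i hi F _ _ _ hF
    have hlen : (y :: l).length = l.length + 1 := rfl
    rw [hlen] at hi
    let z := (c ^ (t + 1)) ^ (2 ^ l.length)
    have hz : (c ^ (t + 1)) ^ (2 ^ (y :: l).length) = z * z := by
      simp only [z]
      rw [hlen, pow_succ (2 : ℕ) l.length, pow_mul, pow_two]
    obtain ⟨k, hk⟩ : ∃ k, ∀ j, k ≤ j → LinearMap.ker (y ^ j • (LinearMap.id : F →ₗ[R] F)) =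
        LinearMap.ker (y ^ k • (LinearMap.id : F →ₗ[R] F)) := by
      let K : ℕ →o Submodule R F :=
        { toFun := fun j => LinearMap.ker (y ^ j • (LinearMap.id : F →ₗ[R] F))
          monotone' := fun j j' hjj m hm => by
            obtain ⟨d, rfl⟩ := Nat.exists_eq_add_of_le hjj
            simp only [LinearMap.mem_ker, LinearMap.smul_apply, LinearMap.id_coe, id_eq] at hm ⊢
            rw [add_comm, pow_add, mul_smul, hm, smul_zero] }
      obtain ⟨k, hk⟩ := monotone_stabilizes_iff_noetherian.2 (inferInstanceAs (IsNoetherian R F)) K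
      exact ⟨k, fun j hj => (hk j hj).symm⟩
    let F' := LinearMap.ker (y ^ k • (LinearMap.id : F →ₗ[R] F))
    let F'' := F ⧸ F'
    have hsub : ∀ (G : Type u) [AddCommGroup G] [Module R G], Module.annihilator R F ≤ Module.annihilator R G →
        (∃ m : ℕ, y ^ m ∈ Module.annihilator R G) → ∀ x ∈ a, ∃ s ∈ q.primeCompl,
          s * x ∈ (Module.annihilator R G ⊔ Ideal.span {y | y ∈ l}).radical := by
      rintro G _ _ hle ⟨m, hm⟩ x hx
      obtain ⟨s, hs, hsx⟩ := hF x hx
      refine ⟨s, hs, Ideal.radical_le_radical_iff.2 ?_ hsx⟩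
      refine sup_le ((hle.trans le_sup_left).trans Ideal.le_radical) (Ideal.span_le.2 fun v hv => ?_)
      rcases List.mem_cons.1 hv with rfl | hv
      · exact ⟨m, Ideal.mem_sup_left hm⟩
      · exact Ideal.le_radical (Ideal.mem_sup_right (Ideal.subset_span hv))
    have h' : KillsExt q.primeCompl z (ModuleCat.of R F') (ModuleCat.of R M) i :=
      ih (fun v hv => hl v (List.mem_cons_of_mem _ hv)) i (by omega) F' (hsub F'
        (F'.subtype.annihilator_le_of_injective Subtype.val_injective)
        ⟨k, Module.mem_annihilator.2 fun m => Subtype.ext (by simpa using m.2)⟩)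
    have hreg : ∀ v : F'', y • v = 0 → v = 0 := fun v hv => by
      obtain ⟨m, rfl⟩ := F'.mkQ_surjective v
      rw [← map_smul] at hv
      have hm : y • m ∈ F' := (Submodule.Quotient.mk_eq_zero _).1 hv
      refine (Submodule.Quotient.mk_eq_zero _).2 ?_
      show m ∈ LinearMap.ker (y ^ k • (LinearMap.id : F →ₗ[R] F))
      rw [← hk (k + 1) (Nat.le_succ k)]
      simp only [F', LinearMap.mem_ker, LinearMap.smul_apply, LinearMap.id_coe, id_eq] at hm ⊢
      rw [pow_succ, mul_smul, hm]
    have hregp : ∀ m : ℕ, IsSMulRegular F'' (y ^ m) := fun m =>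
      IsSMulRegular.pow m (fun u v huv => sub_eq_zero.1 (hreg _ (by rw [smul_sub]; exact sub_eq_zero.2 huv)))
    have h'' : KillsExt q.primeCompl z (ModuleCat.of R F'') (ModuleCat.of R M) i := by
      intro e
      have hpow : ∀ m : ℕ, ∃ s ∈ q.primeCompl, ∃ e', (s * z) • e = y ^ m • e' := by
        intro m
        have hT := IsSMulRegular.smulShortComplex_shortExact (M := ModuleCat.of R F'') (hregp m)
        obtain ⟨s, hs, h0⟩ := ih (fun v hv => hl v (List.mem_cons_of_mem _ hv)) (i + 1) (by omega)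
          (QuotSMulTop (y ^ m) F'') (hsub _
            ((F'.mkQ.annihilator_le_of_surjective F'.mkQ_surjective).trans
              (LinearMap.annihilator_le_of_surjective _ (Submodule.mkQ_surjective _)))
            ⟨m, Module.mem_annihilator.2 fun v => by
              obtain ⟨v, rfl⟩ := Submodule.mkQ_surjective _ v
              exact (map_smul _ _ _).symm.trans ((Submodule.Quotient.mk_eq_zero _).2
                (Submodule.smul_mem_pointwise_smul _ _ _ trivial))⟩)
          (hT.extClass.comp e (by omega))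
        obtain ⟨e', he'⟩ := Ext.contravariant_sequence_exact₁ hT (ModuleCat.of R M) ((s * z) • e)
          (by omega : 1 + i = i + 1) ((Ext.comp_smul _ _ _ _).trans h0)
        refine ⟨s, hs, e', ?_⟩
        rw [← he', ModuleCat.smulShortComplex_f_eq_smul_id]
        exact mk₀_smul_id_comp (y ^ m) e'
      let Rq := Localization.AtPrime q
      let E := Ext (ModuleCat.of R F'') (ModuleCat.of R M) i
      let ℓ := LocalizedModule.mkLinearMap q.primeCompl E
      haveI : Module.Finite Rq (LocalizedModule q.primeCompl E) :=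
        Module.Finite.of_isLocalizedModule q.primeCompl ℓ
      have hy : algebraMap R Rq y ∈ IsLocalRing.maximalIdeal Rq :=
        (IsLocalization.AtPrime.to_map_mem_maximal_iff Rq q y).2 (hl y (List.mem_cons_self ..))
      have h0 : ℓ (z • e) ∈ (⨅ m : ℕ, IsLocalRing.maximalIdeal Rq ^ m • ⊤ :
          Submodule Rq (LocalizedModule q.primeCompl E)) := by
        rw [Submodule.mem_iInf]
        intro m
        obtain ⟨s, hs, e', he'⟩ := hpow m
        have hu : IsUnit (algebraMap R Rq s) := IsLocalization.map_units Rq (⟨s, hs⟩ : q.primeCompl)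
        refine (Submodule.smul_mem_iff_of_isUnit _ hu).1 ?_
        rw [algebraMap_smul, ← map_smul, smul_smul, he', map_smul, ← algebraMap_smul Rq (y ^ m) (ℓ e'), map_pow]
        exact Submodule.smul_mem_smul (Ideal.pow_mem_pow hy m) Submodule.mem_top
      rw [Ideal.iInf_pow_smul_eq_bot_of_isLocalRing _ (IsLocalRing.maximalIdeal.isMaximal Rq).ne_top,
        Submodule.mem_bot, IsLocalizedModule.eq_zero_iff q.primeCompl] at h0
      obtain ⟨⟨s, hs⟩, hse⟩ := h0
      exact ⟨s, hs, by rw [mul_smul]; exact hse⟩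
    rw [hz]
    exact KillsExt.contramid (T := ShortComplex.moduleCatMk F'.subtype F'.mkQ
        (LinearMap.exact_subtype_mkQ F').linearMap_comp_eq_zero)
      { exact := (ShortComplex.ShortExact.moduleCat_exact_iff_function_exact _).2 (LinearMap.exact_subtype_mkQ F')
        mono_f := (ModuleCat.mono_iff_injective _).2 Subtype.val_injective
        epi_g := (ModuleCat.epi_iff_surjective _).2 F'.mkQ_surjective }
      h'' h'

/-- `Ext` vanishing at `p` bounds the depth of `M_p`. -/
theorem hasSeqIn_of_killsExt (p : Ideal R) [p.IsPrime] : ∀ (n : ℕ) (M : Type u) [AddCommGroup M]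
    [Module R M] [Module.Finite R M],
    (∀ i < n, KillsExt p.primeCompl 1 (ModuleCat.of R (R ⧸ p)) (ModuleCat.of R M) i) →
      CommAlgDim.HasSeqIn (IsLocalRing.maximalIdeal (Localization.AtPrime p))
        (LocalizedModule p.primeCompl M) n
  | 0, M, _, _, _, _ => CommAlgDim.hasSeqIn_zero _
  | n + 1, M, _, _, _, h => by
    have hp : p ∉ associatedPrimes R M := fun hp => by
      obtain ⟨-, v, hv⟩ := (isAssociatedPrime_iff (R := R) (I := p) (M := M)).1 hp
      let φ : (R ⧸ p) →ₗ[R] M := p.liftQ (LinearMap.toSpanSingleton R M v) fun r hr => by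
        rw [hv, Submodule.mem_colon_singleton, Submodule.mem_bot] at hr
        exact hr
      obtain ⟨s, hs, h0⟩ := h 0 (Nat.succ_pos n) ((Ext.linearEquiv₀ (R := R)).symm (ModuleCat.ofHom φ))
      rw [← map_smul, LinearEquiv.map_eq_zero_iff, mul_one] at h0
      have h1 : s • v = 0 := by
        have h2 := congrArg (fun g => g.hom (Submodule.Quotient.mk 1)) h0
        change s • ((LinearMap.toSpanSingleton R M v) 1) = 0 at h2
        simpa using h2
      exact hs (hv.symm ▸ (Submodule.mem_colon_singleton.2 (by rw [h1]; exact zero_mem _)))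
    let As := {Q | Q ∈ associatedPrimes R M ∧ Q ≤ p}
    have hAs : As.Finite := (associatedPrimes.finite R M).subset fun Q hQ => hQ.1
    obtain ⟨y, hyp, hy⟩ : ∃ y ∈ p, ∀ Q ∈ As, y ∉ Q := by
      by_contra hcon
      push_neg at hcon
      obtain ⟨Q, hQ, hle⟩ := (Ideal.subset_union_prime (s := hAs.toFinset) (f := id) ⊥ ⊥ fun Q hQ _ _ =>
        (hAs.mem_toFinset.1 hQ).1.isPrime).1 (show (p : Set R) ⊆ ⋃ Q ∈ (↑hAs.toFinset : Set (Ideal R)), (id Q : Set R) from
          fun x hx => by
            obtain ⟨Q, hQ, hxQ⟩ := hcon x hx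
            exact Set.mem_iUnion₂.2 ⟨Q, Finset.mem_coe.2 (hAs.mem_toFinset.2 hQ), hxQ⟩)
      have hQ' := hAs.mem_toFinset.1 hQ
      exact hp (le_antisymm hQ'.2 hle ▸ hQ'.1)
    let g : M →ₗ[R] M := y • LinearMap.id
    let K := LinearMap.ker g
    obtain ⟨d, hd, hdp⟩ : ∃ d ∈ Module.annihilator R K, d ∉ p := by
      by_contra hcon
      push_neg at hcon
      obtain ⟨Q, hQ, hQp⟩ := Ideal.exists_minimalPrimes_le (I := Module.annihilator R K) (J := p) hcon
      have hQK := Module.associatedPrimes.minimalPrimes_annihilator_subset_associatedPrimes R K hQ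
      refine hy Q ⟨associatedPrimes.subset_of_injective K.subtype_injective hQK, hQp⟩ (hQ.1.2 ?_)
      exact Module.mem_annihilator.2 fun m => Subtype.ext (by simpa [g] using m.2)
    have hSK : (ShortComplex.moduleCatMk K.subtype g.rangeRestrict (by ext k; exact k.2)).ShortExact :=
      { exact := (ShortComplex.ShortExact.moduleCat_exact_iff_function_exact _).2 fun m =>
          ⟨fun hm => ⟨⟨m, congrArg Subtype.val hm⟩, rfl⟩, by rintro ⟨k, rfl⟩; exact Subtype.ext k.2⟩
        mono_f := (ModuleCat.mono_iff_injective _).2 Subtype.val_injective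
        epi_g := (ModuleCat.epi_iff_surjective _).2 g.surjective_rangeRestrict }
    let Y := LinearMap.range g
    have hSY : (ShortComplex.moduleCatMk Y.subtype Y.mkQ
        (LinearMap.exact_subtype_mkQ Y).linearMap_comp_eq_zero).ShortExact :=
      { exact := (ShortComplex.ShortExact.moduleCat_exact_iff_function_exact _).2 (LinearMap.exact_subtype_mkQ Y)
        mono_f := (ModuleCat.mono_iff_injective _).2 Subtype.val_injective
        epi_g := (ModuleCat.epi_iff_surjective _).2 Y.mkQ_surjective }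
    have hquot : ∀ i < n, KillsExt p.primeCompl 1 (ModuleCat.of R (R ⧸ p)) (ModuleCat.of R (M ⧸ Y)) i := by
      intro i hi
      have hK : KillsExt p.primeCompl d (ModuleCat.of R (R ⧸ p)) (ModuleCat.of R K) (i + 1 + 1) :=
        killsExt_of_smul_right d (by ext (m : K); exact congrArg Subtype.val (Module.mem_annihilator.1 hd m))
      have hY : KillsExt p.primeCompl (1 * d) (ModuleCat.of R (R ⧸ p)) (ModuleCat.of R Y) (i + 1) :=
        KillsExt.coright hSK (h (i + 1) (by omega)) hK
      intro e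
      obtain ⟨s, hs, h0⟩ := KillsExt.coright hSY (h i (by omega)) hY e
      exact ⟨s * d, p.primeCompl.mul_mem hs hdp, by rw [mul_one]; rwa [one_mul, one_mul] at h0⟩
    have hrange : Y = y • (⊤ : Submodule R M) := by
      ext m
      simp [Y, g, Submodule.mem_smul_pointwise_iff_exists]
    have ih := hasSeqIn_of_killsExt p n (M ⧸ Y) hquot
    let eY : (M ⧸ Y) ≃ₗ[R] QuotSMulTop y M := Submodule.quotEquivOfEq _ _ hrange
    obtain ⟨e⟩ := CommAlgDim.exists_quot_equiv (M := M) p y
    refine CommAlgDim.hasSeqIn_succ_of_cons (x := algebraMap R (Localization.AtPrime p) y)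
      ((IsLocalization.AtPrime.to_map_mem_maximal_iff (Localization.AtPrime p) p y).2 hyp) ?_
      ((ih.congr (IsLocalizedModule.mapEquiv p.primeCompl (LocalizedModule.mkLinearMap p.primeCompl (M ⧸ Y))
        (LocalizedModule.mkLinearMap p.primeCompl (QuotSMulTop y M)) (Localization.AtPrime p) eY)).congr e)
    intro u v huv
    rw [← sub_eq_zero]
    obtain ⟨⟨m, s⟩, hms⟩ := IsLocalizedModule.mk'_surjective p.primeCompl
      (LocalizedModule.mkLinearMap p.primeCompl M) (u - v)
    have h0 : algebraMap R (Localization.AtPrime p) y • (u - v) = 0 := by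
      rw [smul_sub]; exact sub_eq_zero.2 huv
    rw [← hms, Function.uncurry_apply_pair, algebraMap_smul, ← IsLocalizedModule.mk'_smul,
      IsLocalizedModule.mk'_eq_zero'] at h0
    obtain ⟨⟨s', hs'⟩, hs0⟩ := h0
    rw [← hms, Function.uncurry_apply_pair, IsLocalizedModule.mk'_eq_zero']
    refine ⟨⟨d * s', p.primeCompl.mul_mem hdp hs'⟩, ?_⟩
    have hmem : s' • m ∈ K := by
      show y • (s' • m) = 0
      rw [smul_comm]; exact hs0
    show (d * s') • m = 0
    rw [mul_smul]
    exact congrArg Subtype.val (Module.mem_annihilator.1 hd ⟨s' • m, hmem⟩)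

theorem finDimRel_le_minAdjDepth (a b : Ideal R) (M : Type u) [AddCommGroup M] [Module R M]
    [Module.Finite R M] : LocCoh.finDimRel a b M ≤ LocCoh.minAdjDepth a b M := by
  refine le_iInf₂ fun p hb => ?_
  by_contra hcon
  rw [not_le] at hcon
  have hfin : LocCoh.adjDepth a M p ≠ ⊤ := ne_top_of_lt hcon
  rw [LocCoh.adjDepth] at hfin
  obtain ⟨s, hs⟩ := WithTop.ne_top_iff_exists.1 (ne_top_of_le_ne_top hfin le_self_add)
  obtain ⟨d, hd⟩ := WithTop.ne_top_iff_exists.1 (ne_top_of_le_ne_top hfin le_add_self)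
  rw [LocCoh.adjDepth, ← hs, ← hd] at hcon
  obtain ⟨c, hcb, hcp⟩ := SetLike.not_le_iff_exists.1 hb
  have hkill : ∀ j ≤ s + d, ∃ N : ℕ, ∀ y : LocCoh.H a j M, c ^ N • y = 0 := by
    intro j hj
    have hrad : b ≤ (Module.annihilator R (LocCoh.H a j M)).radical := by
      by_contra hn
      have : LocCoh.finDimRel a b M ≤ (j : ℕ∞) := iInf₂_le j hn
      exact absurd (this.trans (Nat.cast_le.2 hj)) (not_le.2 (by exact_mod_cast hcon))
    obtain ⟨N, hN⟩ := hrad hcb
    exact ⟨N, fun y => Module.mem_annihilator.1 hN y⟩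
  choose! N hN using hkill
  let c' := c ^ (Finset.range (s + d + 1)).sup N
  have hc' : ∀ j ≤ s + d, ∀ y : LocCoh.H a j M, c' • y = 0 := fun j hj y => by
    obtain ⟨k, hk⟩ := Nat.exists_eq_add_of_le
      (Finset.le_sup (f := N) (Finset.mem_range.2 (Nat.lt_succ_of_le hj)))
    show c ^ (Finset.range (s + d + 1)).sup N • y = 0
    rw [hk, add_comm, pow_add, mul_smul, hN j hj y, smul_zero]
  obtain ⟨qb, hqb, hle, hht⟩ := Ideal.exists_isPrime_height_eq (hd.symm :
    ((a ⊔ p.asIdeal).map (Ideal.Quotient.mk p.asIdeal)).height = (d : ℕ∞))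
  obtain ⟨Y, hY, hcard⟩ := Ideal.exists_finset_card_eq_height_of_isNoetherianRing qb
  rw [hht] at hcard
  classical
  let mk := Ideal.Quotient.mk p.asIdeal
  let q := qb.comap mk
  haveI : q.IsPrime := Ideal.IsPrime.comap mk
  let l : List R := Y.toList.map fun y => Function.surjInv Ideal.Quotient.mk_surjective y
  have hll : l.length = d := by simpa [l] using (by exact_mod_cast hcard : Y.card = d)
  have hmap : (Ideal.span {y | y ∈ l}).map mk = Ideal.span (Y : Set (R ⧸ p.asIdeal)) := by
    rw [Ideal.map_span]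
    congr 1
    ext v
    simp [l, mk, Function.surjInv_eq Ideal.Quotient.mk_surjective]
  have hlq : ∀ y ∈ l, y ∈ q := fun y hy => hY.1.2 (hmap ▸ Ideal.mem_map_of_mem mk (Ideal.subset_span hy))
  have hqmin : q ∈ (p.asIdeal ⊔ Ideal.span {y | y ∈ l}).minimalPrimes := by
    refine ⟨⟨inferInstance, sup_le (fun x hx => ?_) (Ideal.span_le.2 hlq)⟩, fun P hP hPq => ?_⟩
    · show mk x ∈ qb
      rw [Ideal.Quotient.eq_zero_iff_mem.2 hx]; exact zero_mem _
    · haveI := hP.1
      have hpP : p.asIdeal ≤ P := le_sup_left.trans hP.2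
      have hPm : qb ≤ P.map mk := hY.2
        ⟨Ideal.isPrime_map_quotientMk_of_isPrime hpP, hmap ▸ Ideal.map_mono (le_sup_right.trans hP.2)⟩
        ((Ideal.map_mono hPq).trans Ideal.map_comap_le)
      refine (Ideal.comap_mono hPm).trans ?_
      rw [Ideal.comap_map_of_surjective _ Ideal.Quotient.mk_surjective, ← RingHom.ker_eq_comap_bot,
        Ideal.mk_ker]
      exact sup_le le_rfl hpP
  have hrad : ∀ x ∈ q, ∃ u ∈ q.primeCompl, u * x ∈ (p.asIdeal ⊔ Ideal.span {y | y ∈ l}).radical := by
    intro x hx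
    let J := p.asIdeal ⊔ Ideal.span {y | y ∈ l}
    have hfin := J.finite_minimalPrimes_of_isNoetherianRing
    have : ∀ P ∈ hfin.toFinset.erase q, ∃ u ∈ P, u ∉ q := fun P hP => by
      obtain ⟨hne, hP⟩ := Finset.mem_erase.1 hP
      rw [Set.Finite.mem_toFinset] at hP
      refine SetLike.not_le_iff_exists.1 fun hle => hne (le_antisymm hle (hqmin.2 hP.1 hle))
    choose! u hu hu' using this
    refine ⟨∏ P ∈ hfin.toFinset.erase q, u P, prod_mem (S := q.primeCompl) fun P hP => hu' P hP, ?_⟩
    rw [← Ideal.sInf_minimalPrimes, Submodule.mem_sInf]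
    intro P hP
    by_cases hPq : P = q
    · rw [hPq]; exact Ideal.mul_mem_left _ _ hx
    · have hm : P ∈ hfin.toFinset.erase q := Finset.mem_erase.2 ⟨hPq, hfin.mem_toFinset.2 hP⟩
      exact Ideal.mul_mem_right _ _ (Ideal.prod_mem P hm (hu P hm))
  have haq : a ≤ q := fun x hx => hle (Ideal.mem_map_of_mem mk (Ideal.mem_sup_left hx))
  have hpq : p.asIdeal ≤ q := le_sup_left.trans hqmin.1.2
  have key : ∀ i < s + 1, KillsExt p.asIdeal.primeCompl 1 (ModuleCat.of R (R ⧸ p.asIdeal)) (ModuleCat.of R M) i := by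
    intro i hi e
    obtain ⟨u, hu, h0⟩ := killsExt_descent a q (s + d) M hc' l hlq i (by omega) (R ⧸ p.asIdeal) (fun x hx => by
      rw [Ideal.annihilator_quotient]; exact hrad x (haq hx)) e
    refine ⟨u * (c' ^ (s + d + 1)) ^ 2 ^ l.length,
      p.asIdeal.primeCompl.mul_mem (show u ∈ p.asIdeal.primeCompl from fun hup => hu (hpq hup))
        (pow_mem (pow_mem (pow_mem (show c ∈ p.asIdeal.primeCompl from hcp) _) _) _), ?_⟩
    rw [mul_one]
    exact h0
  have hlt := (CommAlgDim.le_depth_iff (s + 1)).2 (hasSeqIn_of_killsExt p.asIdeal (s + 1) M key)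
  rw [← hs] at hlt
  exact absurd (WithTop.coe_le_coe.1 hlt) (Nat.not_succ_le_self s)

end LocCohLib
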