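import Groth.Agent.LocCohLib.NonVanishingApp
import Groth.Agent.LocCohLib.FinDim
import Mathlib.RingTheory.Localization.Finiteness

/-! Finiteness of local cohomology modules. -/

set_option autoImplicit false
set_option maxHeartbeats 1000000
universe u

noncomputable section

open CategoryTheory Limits Pointwise

namespace LocCohLib

variable {R : Type u} [CommRing R] [IsNoetherianRing R] {I : Ideal R}
  {M N P : Type u} [AddCommGroup M] [Module R M] [AddCommGroup N] [Module R N] [AddCommGroup P] [Module R P]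

/-- The functorial map. -/
abbrev Hf (I : Ideal R) (i : ℕ) (f : M →ₗ[R] N) : LocCoh.H I i M →ₗ[R] LocCoh.H I i N :=
  ((localCohomology I i).map (ModuleCat.ofHom f)).hom

omit [IsNoetherianRing R] in
theorem Hf_comp (i : ℕ) (g : N →ₗ[R] P) (f : M →ₗ[R] N) (y : LocCoh.H I i M) :
    Hf I i (g ∘ₗ f) y = Hf I i g (Hf I i f y) := by
  show ((localCohomology I i).map (ModuleCat.ofHom (g ∘ₗ f))).hom y = _
  rw [ModuleCat.ofHom_comp, Functor.map_comp]
  rfl

omit [IsNoetherianRing R] in
theorem Hf_smul_id (x : R) (i : ℕ) (y : LocCoh.H I i M) :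
    Hf I i (x • (LinearMap.id : M →ₗ[R] M)) y = x • y := by
  have : ModuleCat.ofHom (x • (LinearMap.id : M →ₗ[R] M)) = x • 𝟙 (ModuleCat.of R M) := rfl
  show ((localCohomology I i).map (ModuleCat.ofHom _)).hom y = _
  rw [this, map_smul_id]
  rfl

omit [IsNoetherianRing R] in
theorem shortExact_of {f : M →ₗ[R] N} {g : N →ₗ[R] P}
    (hf : Function.Injective f) (hfg : Function.Exact f g) (hg : Function.Surjective g) :
    (ShortComplex.moduleCatMk f g hfg.linearMap_comp_eq_zero).ShortExact :=
  { exact := (ShortComplex.ShortExact.moduleCat_exact_iff_function_exact _).2 hfg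
    mono_f := (ModuleCat.mono_iff_injective _).2 hf
    epi_g := (ModuleCat.epi_iff_surjective _).2 hg }

omit [IsNoetherianRing R] in
theorem exact_Hf {f : M →ₗ[R] N} {g : N →ₗ[R] P} (hf : Function.Injective f) (hfg : Function.Exact f g)
    (hg : Function.Surjective g) (i : ℕ) : Function.Exact (Hf I i f) (Hf I i g) :=
  (ShortComplex.ShortExact.moduleCat_exact_iff_function_exact _).1
    ((lcDelta I).exact₂ (shortExact_of hf hfg hg) i)

omit [IsNoetherianRing R] in
/-- The connecting map. -/
def Hδ {f : M →ₗ[R] N} {g : N →ₗ[R] P} (hf : Function.Injective f) (hfg : Function.Exact f g)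
    (hg : Function.Surjective g) (i : ℕ) : LocCoh.H I i P →ₗ[R] LocCoh.H I (i + 1) M :=
  ((lcDelta I).δ (shortExact_of hf hfg hg) i).hom

omit [IsNoetherianRing R] in
theorem exact_Hδ {f : M →ₗ[R] N} {g : N →ₗ[R] P} (hf : Function.Injective f) (hfg : Function.Exact f g)
    (hg : Function.Surjective g) (i : ℕ) :
    Function.Exact (Hδ (I := I) hf hfg hg i) (Hf I (i + 1) f) ∧
      Function.Exact (Hf I i g) (Hδ (I := I) hf hfg hg i) :=
  ⟨(ShortComplex.ShortExact.moduleCat_exact_iff_function_exact _).1
    ((lcDelta I).exact₁ (shortExact_of hf hfg hg) i),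
   (ShortComplex.ShortExact.moduleCat_exact_iff_function_exact _).1
    ((lcDelta I).exact₃ (shortExact_of hf hfg hg) i)⟩

theorem finite_of_exact {f : M →ₗ[R] N} {g : N →ₗ[R] P} (h : Function.Exact f g) [Module.Finite R M]
    [Module.Finite R P] : Module.Finite R N := by
  haveI : IsNoetherian R N := isNoetherian_of_range_eq_ker f g h.linearMap_ker_eq.symm
  infer_instance

omit [IsNoetherianRing R] in
theorem annihilator_mul_le {f : M →ₗ[R] N} {g : N →ₗ[R] P} (h : Function.Exact f g) :
    Module.annihilator R M * Module.annihilator R P ≤ Module.annihilator R N := by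
  refine Ideal.mul_le.2 fun a ha c hc => Module.mem_annihilator.2 fun y => ?_
  obtain ⟨z, hz⟩ := (h (c • y)).1 (by rw [map_smul, Module.mem_annihilator.1 hc])
  rw [mul_smul, ← hz, ← map_smul, Module.mem_annihilator.1 ha, map_zero]

theorem finite_H0 [Module.Finite R M] : Module.Finite R (LocCoh.H I 0 M) :=
  Module.Finite.equiv (H0Equiv I M).symm

/-- Removing the torsion does not change positive degrees. -/
theorem bijective_Hf_mkQ_torsion (i : ℕ) :
    Function.Bijective (Hf I (i + 1) (DRing.torsionSub I M).mkQ) := by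
  let T := DRing.torsionSub I M
  have hT : ∀ j, 0 < j → Subsingleton (LocCoh.H I j T) := fun j hj =>
    subsingleton_H_of_torsion I T (isPowerTorsion_gamma I (ModuleCat.of R M)) j hj
  refine ⟨(injective_iff_map_eq_zero _).2 fun y hy => ?_, fun z => ?_⟩
  · obtain ⟨w, rfl⟩ := (exact_Hf T.injective_subtype (LinearMap.exact_subtype_mkQ T) T.mkQ_surjective (i + 1) y).1 hy
    haveI := hT (i + 1) (Nat.succ_pos i)
    rw [Subsingleton.elim w 0, map_zero]
  · haveI := hT (i + 1 + 1) (Nat.succ_pos _)
    exact ((exact_Hδ T.injective_subtype (LinearMap.exact_subtype_mkQ T) T.mkQ_surjective (i + 1)).2 z).1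
      (Subsingleton.elim _ _)

variable (I) in
theorem exists_regular_mem' (M : Type u) [AddCommGroup M] [Module R M] [Module.Finite R M] :
    ∃ x ∈ I, IsSMulRegular (M ⧸ DRing.torsionSub I M) x :=
  CommAlgDim.exists_isSMulRegular_mem ((subsingleton_H0_iff I _).1 (subsingleton_H0_quot_torsion I M))

variable (I) in
theorem exists_pow_le_annihilator_of_finite (i : ℕ) [Module.Finite R (LocCoh.H I i M)] :
    ∃ k, I ^ k ≤ Module.annihilator R (LocCoh.H I i M) := by
  obtain ⟨s, hs⟩ := Module.Finite.fg_top (R := R) (M := LocCoh.H I i M)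
  choose k hk using isPowerTorsion_H I i M
  refine ⟨s.sup k, fun a ha => Module.mem_annihilator.2 fun y => ?_⟩
  have hy : y ∈ Submodule.span R (s : Set (LocCoh.H I i M)) := hs.symm ▸ Submodule.mem_top
  induction hy using Submodule.span_induction with
  | mem v hv => exact hk v a (Ideal.pow_le_pow_right (Finset.le_sup hv) ha)
  | zero => exact smul_zero _
  | add u v _ _ hu hv => rw [smul_add, hu, hv, add_zero]
  | smul r u _ hu => rw [smul_comm, hu, smul_zero]

omit [IsNoetherianRing R] in
theorem smul_exact {x : R} (hx : IsSMulRegular M x) :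
    Function.Injective (x • (LinearMap.id : M →ₗ[R] M)) ∧
      Function.Exact (x • (LinearMap.id : M →ₗ[R] M)) (LinearMap.range (x • (LinearMap.id : M →ₗ[R] M))).mkQ ∧
      Function.Surjective (LinearMap.range (x • (LinearMap.id : M →ₗ[R] M))).mkQ :=
  ⟨hx, LinearMap.exact_map_mkQ_range _, Submodule.mkQ_surjective _⟩

theorem finite_H_of_le_annihilator : ∀ (n : ℕ) (M : Type u) [AddCommGroup M] [Module R M] [Module.Finite R M]
    (k : ℕ), (∀ i ≤ n, I ^ k ≤ Module.annihilator R (LocCoh.H I i M)) →
      ∀ i ≤ n, Module.Finite R (LocCoh.H I i M) := by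
  intro n
  induction n with
  | zero => intro M _ _ _ k _ i hi; obtain rfl := Nat.le_zero.1 hi; exact finite_H0
  | succ n ih =>
    intro M _ _ _ k h i hi
    rcases Nat.lt_or_eq_of_le hi with hlt | rfl
    · exact ih M k (fun j hj => h j (hj.trans (Nat.le_succ n))) i (Nat.lt_succ_iff.1 hlt)
    let T := DRing.torsionSub I M
    obtain ⟨x, hxI, hx⟩ := exists_regular_mem' I M
    have hM' : ∀ j ≤ n + 1, I ^ k ≤ Module.annihilator R (LocCoh.H I j (M ⧸ T)) := by
      intro j hj a ha
      rcases j with _ | j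
      · haveI := subsingleton_H0_quot_torsion I M
        exact Module.mem_annihilator.2 fun y => Subsingleton.elim _ _
      · refine Module.mem_annihilator.2 fun y => ?_
        obtain ⟨z, rfl⟩ := (bijective_Hf_mkQ_torsion j).2 y
        rw [← map_smul, Module.mem_annihilator.1 (h _ hj ha), map_zero]
    obtain ⟨hf, hfg, hg⟩ := smul_exact (hx.pow k)
    haveI : Module.Finite R (LocCoh.H I n ((M ⧸ T) ⧸ LinearMap.range ((x ^ k) • LinearMap.id (R := R) (M := M ⧸ T)))) :=
      ih _ (k + k) (fun j hj => by
        rw [pow_add]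
        exact le_trans (Ideal.mul_mono ((hM' j (hj.trans (Nat.le_succ n)))) le_rfl)
          ((Ideal.mul_mono le_rfl ((hM' (j + 1) (Nat.succ_le_succ hj)))).trans
            (le_trans (Ideal.mul_mono le_rfl le_rfl) (annihilator_mul_le
              (f := Hf I j (LinearMap.range ((x ^ k) • LinearMap.id (R := R) (M := M ⧸ T))).mkQ)
              (g := Hδ hf hfg hg j) (exact_Hδ hf hfg hg j).2)))) n le_rfl
    haveI : Module.Finite R (LocCoh.H I (n + 1) (M ⧸ T)) := Module.Finite.of_surjective (Hδ hf hfg hg n) fun y =>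
      ((exact_Hδ hf hfg hg n).1 y).1 (by
        rw [Hf_smul_id]; exact Module.mem_annihilator.1 (hM' (n + 1) le_rfl (Ideal.pow_mem_pow hxI k)) y)
    exact Module.Finite.equiv (LinearEquiv.ofBijective _ (bijective_Hf_mkQ_torsion n)).symm

/-- Faltings' annihilator criterion. -/
theorem finite_H_iff_exists_annihilator (M : Type u) [AddCommGroup M] [Module R M] [Module.Finite R M] (n : ℕ) :
    (∀ i ≤ n, Module.Finite R (LocCoh.H I i M)) ↔
      ∃ J : Ideal R, I ≤ J.radical ∧ ∀ i ≤ n, J ≤ Module.annihilator R (LocCoh.H I i M) := by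
  refine ⟨fun h => ?_, fun ⟨J, hJ, h⟩ => ?_⟩
  · have : ∀ i, ∃ k, i ≤ n → I ^ k ≤ Module.annihilator R (LocCoh.H I i M) := fun i => by
      by_cases hi : i ≤ n
      · haveI := h i hi
        exact (exists_pow_le_annihilator_of_finite I i).imp fun k hk _ => hk
      · exact ⟨0, fun h' => absurd h' hi⟩
    choose k hk using this
    refine ⟨I ^ (Finset.range (n + 1)).sup k, fun x hx => ⟨_, Ideal.pow_mem_pow hx _⟩, fun i hi =>
      (Ideal.pow_le_pow_right (Finset.le_sup (Finset.mem_range.2 (Nat.lt_succ_of_le hi)))).trans (hk i hi)⟩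
  · obtain ⟨k, hk⟩ := Ideal.exists_pow_le_of_le_radical_of_fg hJ (IsNoetherian.noetherian I)
    exact finite_H_of_le_annihilator n M k fun i hi => hk.trans (h i hi)

theorem finite_H_pi_fin (i : ℕ) (h : Module.Finite R (LocCoh.H I i R)) :
    ∀ m : ℕ, Module.Finite R (LocCoh.H I i (Fin m → R))
  | 0 => by
    haveI := subsingleton_H_of_subsingleton (I := I) (Fin 0 → R) i
    infer_instance
  | m + 1 => by
    haveI := h
    haveI := finite_H_pi_fin i h m
    haveI : Module.Finite R (LocCoh.H I i (R × (Fin m → R))) :=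
      finite_of_exact (exact_Hf (I := I) (f := LinearMap.inl R R (Fin m → R)) (g := LinearMap.snd R R (Fin m → R))
        LinearMap.inl_injective .inl_snd LinearMap.snd_surjective i)
    exact Module.Finite.equiv
      ((localCohomology I i).mapIso (Fin.consLinearEquiv R fun _ : Fin (m + 1) => R).toModuleIso).toLinearEquiv

/-- Finiteness is inherited by modules locally projective off `V(I)`. -/
theorem finite_H_of_projective_away (n : ℕ) (hR : ∀ i ≤ n, Module.Finite R (LocCoh.H I i R))
    (M : Type u) [AddCommGroup M] [Module R M] [Module.Finite R M]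
    (hM : ∀ f ∈ I, Module.Projective (Localization.Away f) (LocalizedModule (Submonoid.powers f) M)) :
    ∀ i ≤ n, Module.Finite R (LocCoh.H I i M) := by
  obtain ⟨m, π, hπ⟩ := Module.Finite.exists_fin' R M
  obtain ⟨J, hJ, hJF⟩ := (finite_H_iff_exists_annihilator (I := I) (Fin m → R) n).1
    fun i hi => finite_H_pi_fin i (hR i hi) m
  refine (finite_H_iff_exists_annihilator M n).2
    ⟨(Finset.range (n + 1)).inf fun i => Module.annihilator R (LocCoh.H I i M), fun f hf => ?_,
      fun i hi => Finset.inf_le (Finset.mem_range.2 (Nat.lt_succ_of_le hi))⟩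
  let S := Submonoid.powers f
  haveI := hM f hf
  let πS := LocalizedModule.map S π
  haveI : Module.FinitePresentation R M := Module.finitePresentation_of_finite R M
  obtain ⟨σ, hσ⟩ := Module.projective_lifting_property πS LinearMap.id (LocalizedModule.map_surjective S π hπ)
  obtain ⟨h, ⟨s, a, rfl⟩, hh⟩ := Module.FinitePresentation.exists_lift_of_isLocalizedModule S
    (LocalizedModule.mkLinearMap S (Fin m → R)) ((σ.restrictScalars R) ∘ₗ LocalizedModule.mkLinearMap S M)
  have hloc : ∀ y : M, ∃ c : ℕ, f ^ c • (π (h y) - f ^ a • y) = 0 := fun y => by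
    have h1 : LocalizedModule.mkLinearMap S M (π (h y) - f ^ a • y) = 0 := by
      have h2 := LinearMap.congr_fun hh y
      simp only [LinearMap.comp_apply, LinearMap.smul_apply, LinearMap.coe_restrictScalars] at h2
      rw [map_sub, sub_eq_zero, map_smul]
      have h3 : πS (LocalizedModule.mkLinearMap S (Fin m → R) (h y)) = LocalizedModule.mkLinearMap S M (π (h y)) := by
        simp [πS, LocalizedModule.map_mk, LocalizedModule.mkLinearMap_apply]
      rw [← h3, h2, Submonoid.smul_def, LinearMap.map_smul_of_tower]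
      exact congrArg (f ^ a • ·) (LinearMap.congr_fun hσ _)
    obtain ⟨⟨_, c, rfl⟩, hc⟩ := (IsLocalizedModule.eq_zero_iff S (LocalizedModule.mkLinearMap S M)).1 h1
    exact ⟨c, hc⟩
  choose c hc using hloc
  obtain ⟨gs, hgs⟩ := Module.Finite.fg_top (R := R) (M := M)
  let b := gs.sup c
  have hid : π ∘ₗ (f ^ b • h) = f ^ (b + a) • LinearMap.id := by
    refine LinearMap.ext_on hgs fun y hy => ?_
    obtain ⟨d, hd⟩ := Nat.exists_eq_add_of_le (Finset.le_sup (f := c) hy)
    have h1 : f ^ b • (π (h y) - f ^ a • y) = 0 := by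
      show f ^ gs.sup c • _ = _
      rw [hd, add_comm, pow_add, mul_smul, hc y, smul_zero]
    rw [smul_sub, sub_eq_zero, smul_smul, ← pow_add] at h1
    simpa using h1
  obtain ⟨e, he⟩ := hJ hf
  refine ⟨e + (b + a), Submodule.mem_finsetInf.2 fun i hi => Module.mem_annihilator.2 fun y => ?_⟩
  rw [pow_add, mul_smul, ← Hf_smul_id (f ^ (b + a)) i y, ← hid, Hf_comp, ← map_smul,
    Module.mem_annihilator.1 (hJF i (Nat.lt_succ_iff.1 (Finset.mem_range.1 hi)) he), map_zero]

end LocCohLib
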