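import Mathlib.CategoryTheory.Abelian.Exact
import Mathlib.CategoryTheory.Preadditive.Injective.Basic
import Mathlib.Algebra.Homology.ShortComplex.ShortExact

/-! Effaceable delta functors are determined by their degree zero part. -/

set_option autoImplicit false
set_option maxHeartbeats 400000
universe v v' u u'

noncomputable section

open CategoryTheory Limits

namespace LocCohLib

variable (C : Type u) [Category.{v} C] [Abelian C] (D : Type u') [Category.{v'} D] [Abelian D]

/-- A cohomological delta functor. -/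
structure DeltaFun where
  /-- the functors -/
  F : ℕ → C ⥤ D
  preservesZero : ∀ i, (F i).PreservesZeroMorphisms
  /-- the connecting maps -/
  δ : ∀ {S : ShortComplex C}, S.ShortExact → ∀ i, (F i).obj S.X₃ ⟶ (F (i + 1)).obj S.X₁
  δ_natural : ∀ {S S' : ShortComplex C} (hS : S.ShortExact) (hS' : S'.ShortExact) (φ : S ⟶ S') (i : ℕ),
    δ hS i ≫ (F (i + 1)).map φ.τ₁ = (F i).map φ.τ₃ ≫ δ hS' i
  map_comp_δ : ∀ {S : ShortComplex C} (hS : S.ShortExact) (i : ℕ), (F i).map S.g ≫ δ hS i = 0
  δ_comp_map : ∀ {S : ShortComplex C} (hS : S.ShortExact) (i : ℕ),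
    δ hS i ≫ (F (i + 1)).map S.f = 0
  exact₁ : ∀ {S : ShortComplex C} (hS : S.ShortExact) (i : ℕ),
    (ShortComplex.mk _ _ (δ_comp_map hS i)).Exact
  exact₂ : ∀ {S : ShortComplex C} (_ : S.ShortExact) (i : ℕ),
    haveI := preservesZero i; (S.map (F i)).Exact
  exact₃ : ∀ {S : ShortComplex C} (hS : S.ShortExact) (i : ℕ),
    (ShortComplex.mk _ _ (map_comp_δ hS i)).Exact
  mono₀ : ∀ {S : ShortComplex C}, S.ShortExact → Mono ((F 0).map S.f)

variable {C D}

namespace DeltaFun

variable (T : DeltaFun C D)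

/-- Higher functors vanish on injectives. -/
def Effaceable : Prop := ∀ (E : C), Injective E → ∀ i : ℕ, IsZero ((T.F (i + 1)).obj E)

theorem epi_δ {S : ShortComplex C} (hS : S.ShortExact) (i : ℕ)
    (h : IsZero ((T.F (i + 1)).obj S.X₂)) : Epi (T.δ hS i) :=
  (T.exact₁ hS i).epi_f (h.eq_of_tgt _ _)

theorem isIso_δ {S : ShortComplex C} (hS : S.ShortExact) (i : ℕ)
    (h : IsZero ((T.F i).obj S.X₂)) (h' : IsZero ((T.F (i + 1)).obj S.X₂)) : IsIso (T.δ hS i) := by
  have : Mono (T.δ hS i) := (T.exact₃ hS i).mono_g (h.eq_of_src _ _)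
  have := T.epi_δ hS i h'
  exact isIso_of_mono_of_epi _

theorem map_isIso_of_isZero {S : ShortComplex C} (hS : S.ShortExact) (i : ℕ)
    (h3 : IsZero ((T.F i).obj S.X₃)) (h3' : IsZero ((T.F (i + 1)).obj S.X₃)) :
    IsIso ((T.F (i + 1)).map S.f) := by
  have := T.preservesZero (i + 1)
  have : Epi ((T.F (i + 1)).map S.f) := (T.exact₂ hS (i + 1)).epi_f (h3'.eq_of_tgt _ _)
  have : Mono ((T.F (i + 1)).map S.f) := (T.exact₁ hS i).mono_g (h3.eq_of_src _ _)
  exact isIso_of_mono_of_epi _

variable {T} [EnoughInjectives C]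

variable (C) in
/-- `0 → M → E → E/M → 0`. -/
def under (M : C) : ShortComplex C :=
  ShortComplex.mk (Injective.ι M) (cokernel.π (Injective.ι M)) (cokernel.condition _)

theorem under_shortExact (M : C) : (under C M).ShortExact where
  exact := ShortComplex.exact_of_g_is_cokernel _ (cokernelIsCokernel _)
  mono_f := inferInstanceAs (Mono (Injective.ι M))
  epi_g := (coequalizer.π_epi : Epi (cokernel.π (Injective.ι M)))

/-- The extension to the injectives. -/
def underE {M N : C} (g : M ⟶ N) : Injective.under M ⟶ Injective.under N :=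
  Injective.factorThru (g ≫ Injective.ι N) (Injective.ι M)

theorem ι_underE {M N : C} (g : M ⟶ N) : Injective.ι M ≫ underE g = g ≫ Injective.ι N :=
  Injective.comp_factorThru _ _

/-- A map extended to the chosen embeddings. -/
def underMap {M N : C} (g : M ⟶ N) : under C M ⟶ under C N where
  τ₁ := g
  τ₂ := underE g
  τ₃ := cokernel.map (Injective.ι M) (Injective.ι N) g (underE g) (ι_underE g)
  comm₁₂ := (ι_underE g).symm
  comm₂₃ := (cokernel.π_desc _ _ _).symm

/-- `T (i+1) M` as the cokernel of `T i E → T i (E/M)`. -/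
def succIsColimit (h : T.Effaceable) (M : C) (i : ℕ) :
    IsColimit (CokernelCofork.ofπ (T.δ (under_shortExact M) i)
      (T.map_comp_δ (under_shortExact M) i)) :=
  haveI : Epi (T.δ (under_shortExact M) i) :=
    T.epi_δ _ i (h _ (inferInstanceAs (Injective (Injective.under M))) i)
  (T.exact₃ (under_shortExact M) i).gIsCokernel

variable {T' : DeltaFun C D}

/-- The comparison in the next degree. -/
def succApp (h : T.Effaceable) (i : ℕ) (α : T.F i ⟶ T'.F i) (M : C) :
    (T.F (i + 1)).obj (under C M).X₁ ⟶ (T'.F (i + 1)).obj (under C M).X₁ :=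
  (succIsColimit h M i).desc (CokernelCofork.ofπ (α.app _ ≫ T'.δ (under_shortExact M) i) (by
    rw [← Category.assoc, α.naturality, Category.assoc, T'.map_comp_δ, comp_zero]))

theorem δ_succApp (h : T.Effaceable) (i : ℕ) (α : T.F i ⟶ T'.F i) (M : C) :
    T.δ (under_shortExact M) i ≫ succApp h i α M = α.app _ ≫ T'.δ (under_shortExact M) i :=
  (succIsColimit h M i).fac _ WalkingParallelPair.one

/-- Extending a natural transformation by one degree. -/
def succHom (h : T.Effaceable) (i : ℕ) (α : T.F i ⟶ T'.F i) : T.F (i + 1) ⟶ T'.F (i + 1) where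
  app M := succApp h i α M
  naturality M N g := by
    apply Cofork.IsColimit.hom_ext (succIsColimit h M i)
    show T.δ (under_shortExact M) i ≫ (T.F (i + 1)).map (underMap g).τ₁ ≫ succApp h i α N =
      T.δ (under_shortExact M) i ≫ succApp h i α M ≫ (T'.F (i + 1)).map (underMap g).τ₁
    rw [reassoc_of% (T.δ_natural _ (under_shortExact N) (underMap g) i), δ_succApp,
      reassoc_of% (δ_succApp h i α M), T'.δ_natural _ (under_shortExact N) (underMap g) i]
    exact α.naturality_assoc (underMap g).τ₃ _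

/-- Extending a natural isomorphism by one degree. -/
def succIso (h : T.Effaceable) (h' : T'.Effaceable) (i : ℕ) (α : T.F i ≅ T'.F i) :
    T.F (i + 1) ≅ T'.F (i + 1) where
  hom := succHom h i α.hom
  inv := succHom h' i α.inv
  hom_inv_id := by
    ext M
    apply Cofork.IsColimit.hom_ext (succIsColimit h M i)
    show T.δ (under_shortExact M) i ≫ succApp h i α.hom M ≫ succApp h' i α.inv M =
      T.δ (under_shortExact M) i ≫ 𝟙 ((T.F (i + 1)).obj (under C M).X₁)
    rw [reassoc_of% (δ_succApp h i α.hom M), δ_succApp h' i α.inv M, Iso.hom_inv_id_app_assoc,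
      Category.comp_id]
  inv_hom_id := by
    ext M
    apply Cofork.IsColimit.hom_ext (succIsColimit h' M i)
    show T'.δ (under_shortExact M) i ≫ succApp h' i α.inv M ≫ succApp h i α.hom M =
      T'.δ (under_shortExact M) i ≫ 𝟙 ((T'.F (i + 1)).obj (under C M).X₁)
    rw [reassoc_of% (δ_succApp h' i α.inv M), δ_succApp h i α.hom M, Iso.inv_hom_id_app_assoc,
      Category.comp_id]

/-- Effaceable delta functors with isomorphic degree zero parts are isomorphic. -/
def isoOfZero (h : T.Effaceable) (h' : T'.Effaceable) (α : T.F 0 ≅ T'.F 0) :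
    ∀ i, T.F i ≅ T'.F i
  | 0 => α
  | i + 1 => succIso h h' i (isoOfZero h h' α i)

end DeltaFun

end LocCohLib
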