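import Groth.Agent.LocCohLib.Delta
import Mathlib.Algebra.Homology.HomologySequenceLemmas
import Mathlib.Algebra.Homology.HomologicalComplexAbelian
import Mathlib.Algebra.Homology.ShortComplex.ExactFunctor

/-! The delta functor of an exact functor to complexes. -/

set_option autoImplicit false
set_option maxHeartbeats 400000

noncomputable section

open CategoryTheory Limits

namespace LocCohLib

variable {C D : Type*} [Category C] [Abelian C] [Category D] [Abelian D]

/-- An exact functor to complexes with no cohomology in degree `-1` gives a delta functor. -/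
def DeltaFun.ofCxFunctor (K : C ⥤ CochainComplex D ℤ) [K.PreservesZeroMorphisms]
    (hex : ∀ {S : ShortComplex C}, S.ShortExact → (S.map K).ShortExact)
    (hneg : ∀ M, IsZero ((K.obj M).homology (-1))) : DeltaFun C D where
  F i := K ⋙ HomologicalComplex.homologyFunctor _ _ (i : ℤ)
  preservesZero i := inferInstance
  δ hS i := (hex hS).δ (i : ℤ) ((i + 1 : ℕ) : ℤ) (by simp)
  δ_natural hS hS' φ i := HomologicalComplex.HomologySequence.δ_naturality
    (K.mapShortComplex.map φ) (hex hS) (hex hS') _ _ (by simp)
  map_comp_δ hS i := (hex hS).comp_δ _ _ (by simp)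
  δ_comp_map hS i := (hex hS).δ_comp _ _ (by simp)
  exact₁ hS i := (hex hS).homology_exact₁ _ _ (by simp)
  exact₂ hS i := (hex hS).homology_exact₂ _
  exact₃ hS i := (hex hS).homology_exact₃ _ _ (by simp)
  mono₀ {S} hS := ((hex hS).homology_exact₁ (-1 : ℤ) ((0 : ℕ) : ℤ) (by simp)).mono_g
    ((hneg S.X₃).eq_of_src _ _)

end LocCohLib
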