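import Groth.Agent.LocCohLib.Cone
import Groth.Agent.LocCohLib.CxDelta
import Groth.Agent.LocCohLib.Injective
import Groth.Prelude.Def_DerCA
import Mathlib.Algebra.Module.LocalizedModule.Exact
import Mathlib.Algebra.Homology.SingleHomology

/-! The extended Čech complex as an effaceable delta functor. -/

set_option autoImplicit false
set_option maxHeartbeats 800000
universe u

noncomputable section

open CategoryTheory Limits CochainComplex

namespace LocCohLib

section ConeExact

variable {R : Type u} [CommRing R] {K L K' L' : CochainComplex (ModuleCat.{u} R) ℤ}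
  {φ : K ⟶ L} {φ' : K' ⟶ L'} (a : K ⟶ K') (b : L ⟶ L') (comm : φ ≫ b = a ≫ φ')

theorem map_fst_v (n : ℤ) : (mappingCone.map φ φ' a b comm).f n ≫
    (mappingCone.fst φ').1.v n (n + 1) rfl = (mappingCone.fst φ).1.v n (n + 1) rfl ≫ a.f (n + 1) := by
  simp [mappingCone.ext_from_iff _ (n + 1) n rfl, mappingCone.map]

theorem map_snd_v (n : ℤ) : (mappingCone.map φ φ' a b comm).f n ≫
    (mappingCone.snd φ').v n n (add_zero n) = (mappingCone.snd φ).v n n (add_zero n) ≫ b.f n := by
  simp [mappingCone.ext_from_iff _ (n + 1) n rfl, mappingCone.map]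

theorem inl_v_map (n : ℤ) : (mappingCone.inl φ).v (n + 1) n (by omega) ≫
    (mappingCone.map φ φ' a b comm).f n = a.f (n + 1) ≫ (mappingCone.inl φ').v (n + 1) n (by omega) := by
  simp [mappingCone.map]

theorem inr_f_map (n : ℤ) : (mappingCone.inr φ).f n ≫
    (mappingCone.map φ φ' a b comm).f n = b.f n ≫ (mappingCone.inr φ').f n := by
  simp [mappingCone.map]

end ConeExact

variable {R : Type u} [CommRing R]

theorem sq {A B C D : ModuleCat.{u} R} {f : A ⟶ B} {g : B ⟶ D} {g' : A ⟶ C} {h : C ⟶ D}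
    (e : f ≫ g = g' ≫ h) (x : A) : g (f x) = h (g' x) := ConcreteCategory.congr_hom e x

theorem shortExact_cone {S S' : ShortComplex (CochainComplex (ModuleCat.{u} R) ℤ)} (ψ : S ⟶ S')
    (hS : S.ShortExact) (hS' : S'.ShortExact)
    (w : mappingCone.map ψ.τ₁ ψ.τ₂ S.f S'.f ψ.comm₁₂ ≫ mappingCone.map ψ.τ₂ ψ.τ₃ S.g S'.g ψ.comm₂₃ = 0) :
    (ShortComplex.mk _ _ w).ShortExact := by
  refine HomologicalComplex.shortExact_of_degreewise_shortExact _ fun n => ?_
  have hK := hS.map_of_exact (HomologicalComplex.eval _ _ (n + 1))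
  have hL := hS'.map_of_exact (HomologicalComplex.eval _ _ n)
  have hKm := (ModuleCat.mono_iff_injective _).1 hK.mono_f
  have hLm := (ModuleCat.mono_iff_injective _).1 hL.mono_f
  have hKe := (ModuleCat.epi_iff_surjective _).1 hK.epi_g
  have hLe := (ModuleCat.epi_iff_surjective _).1 hL.epi_g
  have hid : ∀ {A B : CochainComplex (ModuleCat.{u} R) ℤ} (φ : A ⟶ B) (z : (mappingCone φ).X n),
      ((mappingCone.inl φ).v (n + 1) n (by omega)) (((mappingCone.fst φ).1.v n (n + 1) rfl) z) +
        ((mappingCone.inr φ).f n) (((mappingCone.snd φ).v n n (add_zero n)) z) = z := fun φ z =>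
    (fun h => ConcreteCategory.congr_hom h z) (mappingCone.id_X φ n (n + 1) rfl)
  refine
    { exact := (ShortComplex.moduleCat_exact_iff _).2 fun z hz => ?_
      mono_f := (ModuleCat.mono_iff_injective _).2 fun x y hxy => ?_
      epi_g := (ModuleCat.epi_iff_surjective _).2 fun z => ?_ }
  · have hz' : (mappingCone.map ψ.τ₂ ψ.τ₃ S.g S'.g ψ.comm₂₃).f n z = 0 := hz
    have h1 : (S.g.f (n + 1)) ((mappingCone.fst ψ.τ₂).1.v n (n + 1) rfl z) = 0 := by
      rw [← sq (map_fst_v S.g S'.g ψ.comm₂₃ n) z, hz', map_zero]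
    have h2 : (S'.g.f n) ((mappingCone.snd ψ.τ₂).v n n (add_zero n) z) = 0 := by
      rw [← sq (map_snd_v S.g S'.g ψ.comm₂₃ n) z, hz', map_zero]
    obtain ⟨p, hp⟩ := (ShortComplex.moduleCat_exact_iff _).1 hK.exact _ h1
    obtain ⟨q, hq⟩ := (ShortComplex.moduleCat_exact_iff _).1 hL.exact _ h2
    have hp' : S.f.f (n + 1) p = (mappingCone.fst ψ.τ₂).1.v n (n + 1) rfl z := hp
    have hq' : S'.f.f n q = (mappingCone.snd ψ.τ₂).v n n (add_zero n) z := hq
    refine ⟨(mappingCone.inl ψ.τ₁).v (n + 1) n (by omega) p + (mappingCone.inr ψ.τ₁).f n q, ?_⟩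
    show (mappingCone.map ψ.τ₁ ψ.τ₂ S.f S'.f ψ.comm₁₂).f n _ = z
    rw [map_add, sq (inl_v_map S.f S'.f ψ.comm₁₂ n) p, sq (inr_f_map S.f S'.f ψ.comm₁₂ n) q, hp', hq']
    exact hid ψ.τ₂ z
  · have hxy' : (mappingCone.map ψ.τ₁ ψ.τ₂ S.f S'.f ψ.comm₁₂).f n x =
        (mappingCone.map ψ.τ₁ ψ.τ₂ S.f S'.f ψ.comm₁₂).f n y := hxy
    have h1 : (mappingCone.fst ψ.τ₁).1.v n (n + 1) rfl x = (mappingCone.fst ψ.τ₁).1.v n (n + 1) rfl y :=
      hKm (by
        show S.f.f (n + 1) _ = S.f.f (n + 1) _
        rw [← sq (map_fst_v S.f S'.f ψ.comm₁₂ n) x, hxy', sq (map_fst_v S.f S'.f ψ.comm₁₂ n) y])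
    have h2 : (mappingCone.snd ψ.τ₁).v n n (add_zero n) x = (mappingCone.snd ψ.τ₁).v n n (add_zero n) y :=
      hLm (by
        show S'.f.f n _ = S'.f.f n _
        rw [← sq (map_snd_v S.f S'.f ψ.comm₁₂ n) x, hxy', sq (map_snd_v S.f S'.f ψ.comm₁₂ n) y])
    rw [← hid ψ.τ₁ x, ← hid ψ.τ₁ y, h1, h2]
  · obtain ⟨p, hp⟩ := hKe ((mappingCone.fst ψ.τ₃).1.v n (n + 1) rfl z)
    obtain ⟨q, hq⟩ := hLe ((mappingCone.snd ψ.τ₃).v n n (add_zero n) z)
    have hp' : S.g.f (n + 1) p = (mappingCone.fst ψ.τ₃).1.v n (n + 1) rfl z := hp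
    have hq' : S'.g.f n q = (mappingCone.snd ψ.τ₃).v n n (add_zero n) z := hq
    refine ⟨(mappingCone.inl ψ.τ₂).v (n + 1) n (by omega) p + (mappingCone.inr ψ.τ₂).f n q, ?_⟩
    show (mappingCone.map ψ.τ₂ ψ.τ₃ S.g S'.g ψ.comm₂₃).f n _ = z
    rw [map_add, sq (inl_v_map S.g S'.g ψ.comm₂₃ n) p, sq (inr_f_map S.g S'.g ψ.comm₂₃ n) q, hp', hq']
    exact hid ψ.τ₃ z

section Loc

variable (S : Submonoid R)

theorem map_exact_locFunctor (T : ShortComplex (ModuleCat.{u} R)) (hT : T.Exact) :
    (T.map (DerCA.locFunctor S)).Exact := by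
  refine (CategoryTheory.ShortComplex.moduleCat_exact_iff _).2 fun z hz => ?_
  exact ((IsLocalizedModule.map_exact S (LocalizedModule.mkLinearMap S T.X₁)
    (LocalizedModule.mkLinearMap S T.X₂) (LocalizedModule.mkLinearMap S T.X₃) T.f.hom T.g.hom
    fun x => ⟨fun hx => (ShortComplex.moduleCat_exact_iff _).1 hT x hx, by
      rintro ⟨w, rfl⟩; exact ConcreteCategory.congr_hom T.zero w⟩) z).1 hz

instance preservesHomology_locFunctor : (DerCA.locFunctor (R := R) S).PreservesHomology :=
  Functor.preservesHomology_of_map_exact _ fun T hT => map_exact_locFunctor S T hT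

instance preservesFiniteLimits_locFunctor : PreservesFiniteLimits (DerCA.locFunctor (R := R) S) :=
  Functor.preservesFiniteLimits_of_preservesHomology _

instance preservesFiniteColimits_locFunctor : PreservesFiniteColimits (DerCA.locFunctor (R := R) S) :=
  Functor.preservesFiniteColimits_of_preservesHomology _

theorem isZero_homology_locCx (K : DRing.Cx R) (n : ℤ) (h : IsZero (K.homology n)) :
    IsZero (((DerCA.locCx S).obj K).homology n) :=
  IsZero.of_iso ((DerCA.locFunctor S).map_isZero h) ((K.sc n).mapHomologyIso (DerCA.locFunctor S))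

theorem exists_iso_homologyMap_locCxUnit (K : DRing.Cx R) (n : ℤ) :
    ∃ (u : K.homology n ≅ K.homology n) (v : (((DerCA.locCx S).obj K).homology n) ≅
        (DerCA.locFunctor S).obj (K.homology n)),
      HomologicalComplex.homologyMap (DerCA.locCxUnit S K) n =
        u.hom ≫ (DerCA.locUnit S).app (K.homology n) ≫ v.inv :=
  ⟨(K.sc n).mapHomologyIso (𝟭 _), (K.sc n).mapHomologyIso (DerCA.locFunctor S),
    ShortComplex.homologyMap_mapNatTrans (K.sc n) (DerCA.locUnit S)⟩

theorem homologyMap_locCxUnit_eq_zero_iff (K : DRing.Cx R) (n : ℤ) (y : K.homology n) :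
    (HomologicalComplex.homologyMap (DerCA.locCxUnit S K) n).hom y = 0 ↔ ∃ s : S, (s : R) • y = 0 := by
  obtain ⟨u, v, h⟩ := exists_iso_homologyMap_locCxUnit S K n
  have hu : Function.Injective u.hom.hom := u.toLinearEquiv.injective
  have hv : Function.Injective v.inv.hom := v.symm.toLinearEquiv.injective
  rw [h]
  show v.inv.hom (LocalizedModule.mkLinearMap S _ (u.hom.hom y)) = 0 ↔ _
  refine (map_eq_zero_iff _ hv).trans
    ((IsLocalizedModule.eq_zero_iff S (LocalizedModule.mkLinearMap S _) (m := u.hom.hom y)).trans ?_)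
  simp only [Submonoid.smul_def, ← map_smul, map_eq_zero_iff _ hu]

end Loc

/-- Functoriality of the Čech complex. -/
def cechMap {M N : ModuleCat.{u} R} (g : M ⟶ N) : ∀ fs : List R, DerCA.extCech M fs ⟶ DerCA.extCech N fs
  | [] => (HomologicalComplex.single (ModuleCat.{u} R) (ComplexShape.up ℤ) 0).map g
  | f :: fs => coconeMap (DerCA.locCxUnit (Submonoid.powers f) (DerCA.extCech M fs)) (cechMap g fs)
      ((DerCA.locCx (Submonoid.powers f)).map (cechMap g fs)) (by
        ext i : 1
        exact ((DerCA.locUnit (Submonoid.powers f)).naturality ((cechMap g fs).f i)).symm)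

theorem cechMap_id (M : ModuleCat.{u} R) : ∀ fs : List R, cechMap (𝟙 M) fs = 𝟙 _
  | [] => (HomologicalComplex.single _ _ _).map_id M
  | f :: fs => by
    simp only [cechMap, coconeMap, cechMap_id M fs]
    refine (congrArg _ ?_).trans ((CategoryTheory.shiftFunctor (DRing.Cx R) (-1 : ℤ)).map_id _)
    refine Eq.trans ?_ (mappingCone.map_id _)
    congr 1
    exact CategoryTheory.Functor.map_id _ _

theorem cechMap_comp {M N P : ModuleCat.{u} R} (g : M ⟶ N) (h : N ⟶ P) :
    ∀ fs : List R, cechMap (g ≫ h) fs = cechMap g fs ≫ cechMap h fs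
  | [] => (HomologicalComplex.single _ _ _).map_comp g h
  | f :: fs => by
    simp only [cechMap, coconeMap, cechMap_comp g h fs, Functor.map_comp]
    refine (congrArg _ ?_).trans ((CategoryTheory.shiftFunctor (DRing.Cx R) (-1 : ℤ)).map_comp _ _)
    exact mappingCone.map_comp (DerCA.locCxUnit (Submonoid.powers f) (DerCA.extCech M fs))
      (DerCA.locCxUnit (Submonoid.powers f) (DerCA.extCech N fs))
      (DerCA.locCxUnit (Submonoid.powers f) (DerCA.extCech P fs)) _ _ _ _ _ _

/-- The Čech complex functor. -/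
@[simps]
def cechFun (fs : List R) : ModuleCat.{u} R ⥤ DRing.Cx R where
  obj M := DerCA.extCech M fs
  map g := cechMap g fs
  map_id M := cechMap_id M fs
  map_comp g h := cechMap_comp g h fs

theorem cechMap_zero (M N : ModuleCat.{u} R) : ∀ fs : List R, cechMap (0 : M ⟶ N) fs = 0
  | [] => (HomologicalComplex.single _ _ _).map_zero M N
  | f :: fs => by
    simp only [cechMap, coconeMap, cechMap_zero M N fs, Functor.map_zero]
    rw [show mappingCone.map (DerCA.locCxUnit (Submonoid.powers f) (DerCA.extCech M fs))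
      (DerCA.locCxUnit (Submonoid.powers f) (DerCA.extCech N fs)) 0 0 (by simp) = 0 from by
        refine HomologicalComplex.hom_ext _ _ fun n => ?_
        simp [mappingCone.ext_from_iff _ (n + 1) n rfl, mappingCone.map]]
    rw [Functor.map_zero]
    rfl

instance (fs : List R) : (cechFun fs).PreservesZeroMorphisms where
  map_zero M N := cechMap_zero M N fs

theorem shortExact_cech {T : ShortComplex (ModuleCat.{u} R)} (hT : T.ShortExact) :
    ∀ fs : List R, (T.map (cechFun fs)).ShortExact
  | [] => hT.map_of_exact (HomologicalComplex.single _ _ 0)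
  | f :: fs => by
    let S := T.map (cechFun fs)
    have hS : S.ShortExact := shortExact_cech hT fs
    let S' := S.map (DerCA.locCx (Submonoid.powers f))
    have hS' : S'.ShortExact := HomologicalComplex.shortExact_of_degreewise_shortExact _ fun i =>
      (hS.map_of_exact (HomologicalComplex.eval _ _ i)).map_of_exact (DerCA.locFunctor (Submonoid.powers f))
    let ψ : S ⟶ S' :=
      { τ₁ := DerCA.locCxUnit _ _
        τ₂ := DerCA.locCxUnit _ _
        τ₃ := DerCA.locCxUnit _ _
        comm₁₂ := by ext i : 1; exact ((DerCA.locUnit (Submonoid.powers f)).naturality (S.f.f i)).symm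
        comm₂₃ := by ext i : 1; exact ((DerCA.locUnit (Submonoid.powers f)).naturality (S.g.f i)).symm }
    have w : mappingCone.map ψ.τ₁ ψ.τ₂ S.f S'.f ψ.comm₁₂ ≫ mappingCone.map ψ.τ₂ ψ.τ₃ S.g S'.g ψ.comm₂₃ = 0 := by
      rw [← mappingCone.map_comp]
      refine HomologicalComplex.hom_ext _ _ fun n => ?_
      simp [mappingCone.ext_from_iff _ (n + 1) n rfl, mappingCone.map, S.zero, S'.zero]
    exact (shortExact_cone ψ hS hS' w).map_of_exact (CategoryTheory.shiftFunctor (DRing.Cx R) (-1 : ℤ))

theorem isZero_cech_neg (M : ModuleCat.{u} R) :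
    ∀ (fs : List R) (n : ℤ), n < 0 → IsZero ((DerCA.extCech M fs).homology n)
  | [], n, hn => (HomologicalComplex.exactAt_iff_isZero_homology _ _).1
      (HomologicalComplex.exactAt_single_obj _ _ _ _ (by omega))
  | f :: fs, n, hn => by
    have h := isZero_cocone' (DerCA.locCxUnit (Submonoid.powers f) (DerCA.extCech M fs)) (n - 1)
      (by rw [sub_add_cancel]; exact isZero_cech_neg M fs n hn)
      (isZero_homology_locCx _ _ _ (isZero_cech_neg M fs (n - 1) (by omega)))
    rw [sub_add_cancel] at h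
    exact h

/-- The Čech cohomology delta functor. -/
def cechDelta (fs : List R) : DeltaFun (ModuleCat.{u} R) (ModuleCat.{u} R) :=
  DeltaFun.ofCxFunctor (cechFun fs) (fun hT => shortExact_cech hT fs)
    (fun M => isZero_cech_neg M fs (-1) (by omega))

/-- The augmentation `extCech M fs ⟶ M[0]`. -/
def cechε (M : ModuleCat.{u} R) :
    ∀ fs : List R, DerCA.extCech M fs ⟶ (HomologicalComplex.single (ModuleCat.{u} R) (ComplexShape.up ℤ) 0).obj M
  | [] => 𝟙 _
  | f :: fs => mappingCocone.fst _ ≫ cechε M fs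

theorem cechε_naturality {M N : ModuleCat.{u} R} (g : M ⟶ N) : ∀ fs : List R,
    cechMap g fs ≫ cechε N fs =
      cechε M fs ≫ (HomologicalComplex.single (ModuleCat.{u} R) (ComplexShape.up ℤ) 0).map g
  | [] => by
    show (HomologicalComplex.single _ _ 0).map g ≫ 𝟙 _ = 𝟙 _ ≫ _
    exact (Category.comp_id _).trans (Category.id_comp _).symm
  | f :: fs => by
    show coconeMap (DerCA.locCxUnit (Submonoid.powers f) (DerCA.extCech M fs)) (cechMap g fs) _ _ ≫
        mappingCocone.fst (DerCA.locCxUnit (Submonoid.powers f) (DerCA.extCech N fs)) ≫ cechε N fs =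
      (mappingCocone.fst (DerCA.locCxUnit (Submonoid.powers f) (DerCA.extCech M fs)) ≫ cechε M fs) ≫ _
    refine (Category.assoc _ _ _).symm.trans ?_
    refine (congrArg (· ≫ cechε N fs) (coconeMap_fst _ (cechMap g fs) _ _)).trans ?_
    refine (Category.assoc _ _ _).trans ?_
    rw [cechε_naturality g fs]
    exact (Category.assoc _ _ _).symm

/-- `H⁰` to the module. -/
def toM (fs : List R) (M : ModuleCat.{u} R) : (DerCA.extCech M fs).homology 0 ⟶ M :=
  HomologicalComplex.homologyMap (cechε M fs) 0 ≫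
    (HomologicalComplex.singleObjHomologySelfIso (ComplexShape.up ℤ) 0 M).hom

theorem toM_cons (f : R) (fs : List R) (M : ModuleCat.{u} R) :
    toM (f :: fs) M = HomologicalComplex.homologyMap
      (mappingCocone.fst (DerCA.locCxUnit (Submonoid.powers f) (DerCA.extCech M fs))) 0 ≫ toM fs M := by
  simp only [toM, cechε, HomologicalComplex.homologyMap_comp, Category.assoc]
  rfl

theorem toM_naturality (fs : List R) {M N : ModuleCat.{u} R} (g : M ⟶ N) :
    HomologicalComplex.homologyMap (cechMap g fs) 0 ≫ toM fs N = toM fs M ≫ g := by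
  simp only [toM, ← Category.assoc, ← HomologicalComplex.homologyMap_comp, cechε_naturality]
  simp [HomologicalComplex.homologyMap_comp]

theorem toM_spec (M : ModuleCat.{u} R) : ∀ fs : List R, Function.Injective (toM fs M).hom ∧
    LinearMap.range (toM fs M).hom = DRing.torsionSub (Ideal.span {x | x ∈ fs}) M
  | [] => by
    have hiso : IsIso (toM [] M) := by
      have h : toM [] M = (HomologicalComplex.singleObjHomologySelfIso (ComplexShape.up ℤ) 0 M).hom := by
        show HomologicalComplex.homologyMap (𝟙 _) 0 ≫ _ = _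
        exact (congrArg (· ≫ _) (HomologicalComplex.homologyMap_id _ _)).trans (Category.id_comp _)
      rw [h]; infer_instance
    have hb := ConcreteCategory.bijective_of_isIso (toM [] M)
    refine ⟨hb.1, ?_⟩
    rw [LinearMap.range_eq_top.2 hb.2, eq_comm, eq_top_iff]
    intro m _
    refine ⟨1, fun a ha => ?_⟩
    simp at ha
    simp [ha]
  | f :: fs => by
    obtain ⟨hinj, hrange⟩ := toM_spec M fs
    set φ := DerCA.locCxUnit (Submonoid.powers f) (DerCA.extCech M fs)
    have hm : Mono (HomologicalComplex.homologyMap (mappingCocone.fst φ) 0) :=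
      mono_fst φ 0 (-1) (by omega) (isZero_homology_locCx _ _ _ (isZero_cech_neg M fs (-1) (by omega)))
    have hfi := (ModuleCat.mono_iff_injective _).1 hm
    refine ⟨?_, le_antisymm ?_ ?_⟩
    · rw [toM_cons]
      exact hinj.comp hfi
    · rintro _ ⟨z, rfl⟩
      rw [toM_cons]
      let y := (HomologicalComplex.homologyMap (mappingCocone.fst φ) 0).hom z
      obtain ⟨⟨_, k, rfl⟩, hk⟩ := (homologyMap_locCxUnit_eq_zero_iff _ _ _ y).1
        ((fun h => ConcreteCategory.congr_hom h z) (homologyMap_fst_comp φ 0))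
      obtain ⟨n, hn⟩ : (toM fs M).hom y ∈ DRing.torsionSub (Ideal.span {x | x ∈ fs}) M :=
        hrange ▸ LinearMap.mem_range_self _ y
      refine ⟨k + n, fun a ha => ?_⟩
      have hle : Ideal.span {x | x ∈ f :: fs} ^ (k + n) ≤
          Ideal.span {f ^ k} ⊔ Ideal.span {x | x ∈ fs} ^ n := by
        rw [show {x | x ∈ f :: fs} = insert f {x | x ∈ fs} by ext; simp, Ideal.span_insert]
        exact (Ideal.sup_pow_add_le_pow_sup_pow (I := Ideal.span {f}) (n := k) (m := n)).trans
          (sup_le_sup_right (Ideal.span_singleton_pow f k).le _)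
      obtain ⟨b, hb, c, hc, rfl⟩ := Submodule.mem_sup.1 (hle ha)
      obtain ⟨d, rfl⟩ := Ideal.mem_span_singleton.1 hb
      show (f ^ k * d + c) • (toM fs M).hom y = 0
      rw [add_smul, hn c hc, add_zero, mul_comm, mul_smul, ← map_smul, hk, map_zero, smul_zero]
    · rintro m ⟨n, hn⟩
      obtain ⟨y, rfl⟩ : m ∈ LinearMap.range (toM fs M).hom := by
        rw [hrange]
        exact ⟨n, fun a ha => hn a (Ideal.pow_right_mono (Ideal.span_mono fun x hx => by simp_all) n ha)⟩
      have hy : (HomologicalComplex.homologyMap φ 0).hom y = 0 :=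
        (homologyMap_locCxUnit_eq_zero_iff _ _ _ y).2 ⟨⟨f ^ n, n, rfl⟩, hinj (by
          rw [map_smul, map_zero]
          exact hn _ (Ideal.pow_mem_pow (Ideal.subset_span (by simp)) n))⟩
      obtain ⟨z, hz⟩ := (ShortComplex.moduleCat_exact_iff _).1 (exact_fst φ 0) y hy
      exact ⟨z, by rw [toM_cons]; exact congrArg (toM fs M).hom hz⟩

theorem effaceable_cech [IsNoetherianRing R] (fs : List R) : (cechDelta fs).Effaceable := by
  intro E hE i
  have hb : Module.Baer R E := by
    have : Module.Injective R E := Module.injective_module_of_injective_object R E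
    exact Module.Baer.of_injective this
  have key : ∀ (fs : List R) (i : ℕ), IsZero ((DerCA.extCech E fs).homology ((i : ℤ) + 1)) := by
    intro fs
    induction fs with
    | nil =>
      exact fun i => (HomologicalComplex.exactAt_iff_isZero_homology _ _).1
        (HomologicalComplex.exactAt_single_obj _ _ _ _ (by omega))
    | cons f fs ih =>
      intro i
      rcases i with _ | i
      · have : Epi (HomologicalComplex.homologyMap
            (DerCA.locCxUnit (Submonoid.powers f) (DerCA.extCech E fs)) 0) := by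
          obtain ⟨u, v, h⟩ := exists_iso_homologyMap_locCxUnit (Submonoid.powers f) (DerCA.extCech E fs) 0
          obtain ⟨hinj, hrange⟩ := toM_spec E fs
          have hbY : Module.Baer R ((DerCA.extCech E fs).homology 0) :=
            Module.Baer.of_equiv ((LinearEquiv.ofInjective _ hinj).trans (LinearEquiv.ofEq _ _ hrange)).symm
              (baer_torsionSub hb _)
          have : Epi ((DerCA.locUnit (Submonoid.powers f)).app ((DerCA.extCech E fs).homology 0)) :=
            (ModuleCat.epi_iff_surjective _).2 (surjective_loc_of_baer hbY f)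
          rw [h]
          infer_instance
        exact isZero_cocone (DerCA.locCxUnit (Submonoid.powers f) (DerCA.extCech E fs)) 0 (ih 0)
      · have h := isZero_cocone' (DerCA.locCxUnit (Submonoid.powers f) (DerCA.extCech E fs)) ((i : ℤ) + 1)
          (by exact_mod_cast ih (i + 1)) (isZero_homology_locCx _ _ _ (ih i))
        exact_mod_cast h
  exact_mod_cast key fs i

end LocCohLib
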