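import Groth.Agent.LocCohLib.Basic
import Mathlib.Algebra.Category.ModuleCat.LeftResolution

/-! Functorial resolution systems. -/

set_option autoImplicit false
set_option maxHeartbeats 400000
universe v u

noncomputable section

open CategoryTheory Limits Opposite Abelian

namespace LocCohLib

variable (R : Type u) [CommRing R]

/-- The free resolution functor. -/
abbrev freeRes : ModuleCat.{u} R ⥤ ChainComplex (ModuleCat.{u} R) ℕ :=
  (ModuleCat.projectiveResolution R).chainComplexFunctor ⋙
    (ObjectProperty.ι (isProjective (ModuleCat.{u} R))).mapHomologicalComplex _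

variable {R}

/-- The augmentation in degree zero. -/
def freeπ (M : ModuleCat.{u} R) : ((freeRes R).obj M).X 0 ⟶ M :=
  (ObjectProperty.ι _).map ((ModuleCat.projectiveResolution R).chainComplexXZeroIso M).hom ≫
    (ModuleCat.projectiveResolution R).π.app M

theorem freeπ_naturality {M N : ModuleCat.{u} R} (f : M ⟶ N) :
    ((freeRes R).map f).f 0 ≫ freeπ N = freeπ M ≫ f := by
  show (ObjectProperty.ι _).map (((ModuleCat.projectiveResolution R).chainComplexMap f).f 0) ≫ freeπ N = _
  simp only [freeπ, LeftResolution.chainComplexMap_f_0, Category.assoc, ← Functor.map_comp_assoc,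
    Iso.inv_hom_id, Category.comp_id]
  rw [Functor.map_comp, Category.assoc]
  exact congrArg _ ((ModuleCat.projectiveResolution R).π_naturality _ _ f)

theorem free_exact₀ (M : ModuleCat.{u} R) :
    ∃ h : ((freeRes R).obj M).d 1 0 ≫ freeπ M = 0, (ShortComplex.mk _ _ h).Exact := by
  have hd : ((freeRes R).obj M).d 1 0 =
      (ObjectProperty.ι _).map ((ModuleCat.projectiveResolution R).chainComplexXOneIso M).hom ≫
        (ModuleCat.projectiveResolution R).π.app (kernel ((ModuleCat.projectiveResolution R).π.app M)) ≫
          kernel.ι _ ≫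
            (ObjectProperty.ι _).map ((ModuleCat.projectiveResolution R).chainComplexXZeroIso M).inv :=
    (ModuleCat.projectiveResolution R).map_chainComplex_d_1_0 M
  have hπ : (ObjectProperty.ι _).map ((ModuleCat.projectiveResolution R).chainComplexXZeroIso M).inv ≫
      freeπ M = (ModuleCat.projectiveResolution R).π.app M := by
    refine (Category.assoc _ _ _).symm.trans ?_
    refine (congrArg (· ≫ _) (((ObjectProperty.ι _).mapIso
      ((ModuleCat.projectiveResolution R).chainComplexXZeroIso M)).inv_hom_id)).trans ?_
    exact Category.id_comp _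
  have h0 : ((freeRes R).obj M).d 1 0 ≫ freeπ M = 0 := by
    rw [hd]
    refine (Category.assoc _ _ _).trans ((congrArg (_ ≫ ·) ?_).trans comp_zero)
    refine (Category.assoc _ _ _).trans ((congrArg (_ ≫ ·) ?_).trans comp_zero)
    refine (Category.assoc _ _ _).trans ?_
    exact (congrArg (_ ≫ ·) hπ).trans (kernel.condition _)
  refine ⟨h0, (ShortComplex.moduleCat_exact_iff _).2 fun (z : ((freeRes R).obj M).X 0) hz => ?_⟩
  let π' := (ModuleCat.projectiveResolution R).π.app M
  let e₀ := (ObjectProperty.ι _).mapIso ((ModuleCat.projectiveResolution R).chainComplexXZeroIso M)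
  let e₁ := (ObjectProperty.ι _).mapIso ((ModuleCat.projectiveResolution R).chainComplexXOneIso M)
  have hK := (ShortComplex.moduleCat_exact_iff _).1
    (ShortComplex.exact_of_f_is_kernel (ShortComplex.mk (kernel.ι π') π' (kernel.condition π'))
      (kernelIsKernel π')) (e₀.hom z) hz
  obtain ⟨k, hk⟩ := hK
  obtain ⟨w, hw⟩ := (ModuleCat.epi_iff_surjective _).1
    ((ModuleCat.projectiveResolution R).epi_π_app (kernel π')) k
  refine ⟨e₁.inv w, ?_⟩
  show ((freeRes R).obj M).d 1 0 (e₁.inv w) = z
  rw [hd]
  show e₀.inv (kernel.ι π' ((ModuleCat.projectiveResolution R).π.app (kernel π') (e₁.hom (e₁.inv w)))) = z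
  rw [Iso.inv_hom_id_apply, hw]
  exact (congrArg e₀.inv hk).trans (e₀.hom_inv_id_apply z)

theorem epi_freeπ (M : ModuleCat.{u} R) : Epi (freeπ M) := by
  exact epi_comp ((ObjectProperty.ι _).mapIso ((ModuleCat.projectiveResolution R).chainComplexXZeroIso M)).hom
    ((ModuleCat.projectiveResolution R).π.app M)

/-- The functorial resolution. -/
def freeResolution (M : ModuleCat.{u} R) : ProjectiveResolution M where
  complex := (freeRes R).obj M
  projective n := (((ModuleCat.projectiveResolution R).chainComplex M).X n).property
  π := ((freeRes R).obj M).toSingle₀Equiv M |>.symm ⟨freeπ M, (free_exact₀ M).1⟩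
  quasiIso := ⟨fun n => by
    cases n
    · rw [ChainComplex.quasiIsoAt₀_iff, ShortComplex.quasiIso_iff_of_zeros']
      · refine (ShortComplex.exact_and_epi_g_iff_of_iso ?_).2
          (⟨(free_exact₀ M).2, epi_freeπ M⟩ :
            (ShortComplex.mk _ _ (free_exact₀ M).1).Exact ∧ Epi (ShortComplex.mk _ _ (free_exact₀ M).1).g)
        exact ShortComplex.isoMk (Iso.refl _) (Iso.refl _) (Iso.refl _)
          ((Category.id_comp _).trans (Category.comp_id _).symm) ((Category.id_comp _).trans (Category.comp_id _).symm)
      all_goals first | rfl | (simp; rfl)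
    · rw [quasiIsoAt_iff_exactAt']
      · exact (ModuleCat.projectiveResolution R).exactAt_map_chainComplex_succ M _
      · apply ChainComplex.exactAt_succ_single_obj⟩

theorem freeResolution_π (M : ModuleCat.{u} R) : (freeResolution M).π.f 0 = freeπ M :=
  ChainComplex.toSingle₀Equiv_symm_apply_f_zero _ _

variable {D : Type v} [SmallCategory D]

/-- The functorial resolution system. -/
def funSystem (X : D ⥤ ModuleCat.{u} R) : ResSystem X where
  res d := freeResolution (X.obj d)
  map f := (freeRes R).map (X.map f)
  map_id d := by rw [X.map_id, (freeRes R).map_id]; rfl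
  map_comp f g := by rw [X.map_comp, (freeRes R).map_comp]; rfl
  comm f := by
    simp only [freeResolution_π]
    exact freeπ_naturality _

/-- A map of systems lifts to the resolutions. -/
def funSystemMap {X Y : D ⥤ ModuleCat.{u} R} (α : X ⟶ Y) : (funSystem X).P ⟶ (funSystem Y).P where
  app d := (freeRes R).map (α.app d)
  naturality d d' f := by
    show (freeRes R).map (X.map f) ≫ (freeRes R).map (α.app d') =
      (freeRes R).map (α.app d) ≫ (freeRes R).map (Y.map f)
    rw [← Functor.map_comp, ← Functor.map_comp, α.naturality]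

theorem funSystemMap_comm {X Y : D ⥤ ModuleCat.{u} R} (α : X ⟶ Y) (d : D) :
    ((funSystemMap α).app d).f 0 ≫ ((funSystem Y).res d).π.f 0 = ((funSystem X).res d).π.f 0 ≫ α.app d := by
  simp only [funSystem, freeResolution_π]
  exact freeπ_naturality _

end LocCohLib
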