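import Groth.Agent.LocCohLib.Basic
import Groth.Agent.LocCohLib.FunRes
import Groth.Prelude.Def_DRing3
import Mathlib.Algebra.Category.ModuleCat.FilteredColimits
import Mathlib.CategoryTheory.Limits.ConcreteCategory.Basic

/-! Local cohomology as an effaceable delta functor with degree zero part `Γ_I`. -/

set_option autoImplicit false
set_option maxHeartbeats 400000
universe u

noncomputable section

open CategoryTheory Limits Opposite

namespace LocCohLib

/-- Transporting a delta functor along isomorphisms. -/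
def DeltaFun.ofIso {C D : Type*} [Category C] [Abelian C] [Category D] [Abelian D]
    (T : DeltaFun C D) (G : ℕ → C ⥤ D) (e : ∀ i, T.F i ≅ G i) : DeltaFun C D where
  F := G
  preservesZero i := haveI := T.preservesZero i; Functor.preservesZeroMorphisms_of_iso (e i)
  δ hS i := (e i).inv.app _ ≫ T.δ hS i ≫ (e (i + 1)).hom.app _
  δ_natural hS hS' φ i := by
    simp only [Category.assoc]
    rw [← (e (i + 1)).hom.naturality, reassoc_of% (T.δ_natural hS hS' φ i)]
    exact ((e i).inv.naturality_assoc _ _).symm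
  map_comp_δ hS i := by
    rw [← Category.assoc, (e i).inv.naturality, Category.assoc, reassoc_of% (T.map_comp_δ hS i),
      zero_comp, comp_zero]
  δ_comp_map hS i := by
    simp only [Category.assoc]
    rw [← (e (i + 1)).hom.naturality, reassoc_of% (T.δ_comp_map hS i), zero_comp, comp_zero]
  exact₁ hS i := ShortComplex.exact_of_iso
    (ShortComplex.isoMk ((e i).app _) ((e (i + 1)).app _) ((e (i + 1)).app _) (by simp) (by simp))
    (T.exact₁ hS i)
  exact₂ {S} hS i := by
    haveI := T.preservesZero i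
    haveI := Functor.preservesZeroMorphisms_of_iso (e i)
    exact ShortComplex.exact_of_iso
      (ShortComplex.isoMk ((e i).app S.X₁) ((e i).app S.X₂) ((e i).app S.X₃)
        ((e i).hom.naturality S.f).symm ((e i).hom.naturality S.g).symm) (T.exact₂ hS i)
  exact₃ hS i := ShortComplex.exact_of_iso
    (ShortComplex.isoMk ((e i).app _) ((e i).app _) ((e (i + 1)).app _) (by simp) (by simp))
    (T.exact₃ hS i)
  mono₀ {S} hS := by
    have := T.mono₀ hS
    have : (G 0).map S.f = (e 0).inv.app _ ≫ (T.F 0).map S.f ≫ (e 0).hom.app _ := by simp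
    rw [this]
    infer_instance

theorem DeltaFun.effaceable_ofIso {C D : Type*} [Category C] [Abelian C] [Category D] [Abelian D]
    {T : DeltaFun C D} (h : T.Effaceable) (G : ℕ → C ⥤ D) (e : ∀ i, T.F i ≅ G i) :
    (T.ofIso G e).Effaceable :=
  fun E hE i => IsZero.of_iso (h E hE i) ((e (i + 1)).symm.app E)

variable {R : Type u} [CommRing R] (I : Ideal R)

instance instExactNat : HasExactColimitsOfShape ℕᵒᵖᵒᵖ (ModuleCat.{u} R) :=
  haveI := AB5OfSize_shrink.{0, 0, u, u} (ModuleCat.{u} R)
  inferInstance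

instance instPreservesNat : PreservesColimitsOfShape ℕᵒᵖᵒᵖ (forget (ModuleCat.{u} R)) :=
  haveI := preservesFilteredColimitsOfSize_shrink.{0, u, 0, u} (forget (ModuleCat.{u} R))
  inferInstance

/-- The system `R/I^n`. -/
abbrev quotSystem : ℕᵒᵖ ⥤ ModuleCat.{u} R :=
  localCohomology.ringModIdeals (localCohomology.idealPowersDiagram I)

/-- The chosen resolution system of `R/I^n`. -/
def lcSystem : ResSystem (quotSystem I) := funSystem _

/-- Local cohomology computed by a complex. -/
def lcIso (i : ℕ) : localCohomology I i ≅ (lcSystem I).coh i :=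
  (lcSystem I).colimExtIso i

/-- Local cohomology as a delta functor. -/
def lcDelta : DeltaFun (ModuleCat.{u} R) (ModuleCat.{u} R) :=
  (lcSystem I).deltaFun.ofIso (fun i => localCohomology I i) (fun i => (lcIso I i).symm)

theorem lcDelta_effaceable : (lcDelta I).Effaceable :=
  DeltaFun.effaceable_ofIso (lcSystem I).effaceable _ _

/-- Evaluation at `1`. -/
def evalOne (n : ℕ) (M : ModuleCat.{u} R) :
    (ModuleCat.of R (ModuleCat.of R (R ⧸ I ^ n) ⟶ M)) ⟶ (DRing.gammaI I).obj M :=
  ModuleCat.ofHom
    { toFun := fun (x : ModuleCat.of R (R ⧸ I ^ n) ⟶ M) => ⟨x.hom (1 : R ⧸ I ^ n), n, fun a ha => by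
        rw [← map_smul, Algebra.smul_def, mul_one, Ideal.Quotient.algebraMap_eq,
          Ideal.Quotient.eq_zero_iff_mem.2 ha, map_zero]⟩
      map_add' := fun x y => rfl
      map_smul' := fun r x => rfl }

/-- The colimit of `Hom(R/I^n, M)` maps to `Γ_I M`. -/
def toGamma : ((quotSystem I).op ⋙ linearCoyoneda R _).flip ⋙ colim ⟶ DRing.gammaI I where
  app M := colimit.desc _ (Cocone.mk ((DRing.gammaI I).obj M)
    { app := fun n => evalOne I n.unop.unop M
      naturality := fun n m f => by
        ext (x : _ ⟶ M)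
        exact Subtype.ext rfl })
  naturality M N g := by
    apply colimit.hom_ext
    intro n
    show _ ≫ colim.map _ ≫ _ = _
    simp only [colim_map, ι_colimMap_assoc, colimit.ι_desc, colimit.ι_desc_assoc]
    ext (x : _ ⟶ M)
    exact Subtype.ext rfl

theorem toGamma_ι (M : ModuleCat.{u} R) (n : ℕᵒᵖᵒᵖ) :
    colimit.ι (((quotSystem I).op ⋙ linearCoyoneda R _).flip.obj M) n ≫ (toGamma I).app M =
      evalOne I n.unop.unop M :=
  colimit.ι_desc _ _

theorem isIso_toGamma (M : ModuleCat.{u} R) : IsIso ((toGamma I).app M) := by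
  let F := ((quotSystem I).op ⋙ linearCoyoneda R _).flip.obj M
  rw [ConcreteCategory.isIso_iff_bijective]
  refine ⟨fun a b hab => ?_, fun ⟨m, n, hn⟩ => ?_⟩
  · obtain ⟨i, x, rfl⟩ := Concrete.colimit_exists_rep F a
    obtain ⟨j, y, rfl⟩ := Concrete.colimit_exists_rep F b
    obtain ⟨k, f, g, -⟩ := IsFilteredOrEmpty.cocone_objs i j
    have hfg : F.map f x = F.map g y := by
      show (show ModuleCat.of R (R ⧸ I ^ k.unop.unop) ⟶ M from F.map f x) = F.map g y
      apply ModuleCat.hom_ext
      apply Submodule.linearMap_qext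
      ext
      have h1 := congrArg Subtype.val hab
      exact ((congrArg (fun (φ : _ ⟶ (DRing.gammaI I).obj M) => (φ x).1) (toGamma_ι I M i)).symm.trans
        h1).trans (congrArg (fun (φ : _ ⟶ (DRing.gammaI I).obj M) => (φ y).1) (toGamma_ι I M j))
    exact (Concrete.colimit_rep_eq_iff_exists F x y).2 ⟨k, f, g, hfg⟩
  · let x : ModuleCat.of R (R ⧸ I ^ n) ⟶ M :=
      ModuleCat.ofHom (Submodule.liftQ _ (LinearMap.toSpanSingleton R M m) fun a ha => hn a ha)
    refine ⟨colimit.ι F (op (op n)) x, Subtype.ext ?_⟩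
    refine (congrArg (fun (φ : _ ⟶ (DRing.gammaI I).obj M) => (φ x).1) (toGamma_ι I M (op (op n)))).trans ?_
    exact one_smul R m

/-- Degree zero. -/
def lcZeroIso : localCohomology I 0 ≅ DRing.gammaI I :=
  lcIso I 0 ≪≫ (lcSystem I).cohZeroIso.symm ≪≫
    @asIso _ _ _ _ (toGamma I) (@NatIso.isIso_of_isIso_app _ _ _ _ _ _ (toGamma I) (isIso_toGamma I))

end LocCohLib
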