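import Groth.Agent.LocCohLib.Finiteness

/-! Finiteness of local cohomology is local. -/

set_option autoImplicit false
set_option maxHeartbeats 1000000
universe u

noncomputable section

open CategoryTheory Limits Pointwise

namespace LocCohLib

variable {R : Type u} [CommRing R] [IsNoetherianRing R] {I : Ideal R}

theorem finite_localized_of_surjective (S : Submonoid R) {M N : Type u} [AddCommGroup M] [Module R M]
    [AddCommGroup N] [Module R N] (f : M →ₗ[R] N) (hf : Function.Surjective f)
    [Module.Finite (Localization S) (LocalizedModule S M)] :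
    Module.Finite (Localization S) (LocalizedModule S N) :=
  Module.Finite.of_surjective (LocalizedModule.map S f) (LocalizedModule.map_surjective S f hf)

theorem finite_localized_of_exact (S : Submonoid R) {M N P : Type u} [AddCommGroup M] [Module R M]
    [AddCommGroup N] [Module R N] [AddCommGroup P] [Module R P] {f : M →ₗ[R] N} {g : N →ₗ[R] P}
    (h : Function.Exact f g) [Module.Finite (Localization S) (LocalizedModule S M)]
    [Module.Finite (Localization S) (LocalizedModule S P)] :
    Module.Finite (Localization S) (LocalizedModule S N) :=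
  haveI : IsNoetherianRing (Localization S) := IsLocalization.isNoetherianRing S _ inferInstance
  finite_of_exact (f := LocalizedModule.map S f) (g := LocalizedModule.map S g) (LocalizedModule.map_exact S f g h)

theorem finite_of_locally_finite_torsion {N : Type u} [AddCommGroup N] [Module R N] (x : R)
    (htor : ∀ y : N, ∃ k : ℕ, x ^ k • y = 0)
    (hker : ∀ k : ℕ, Module.Finite R (LinearMap.ker ((x ^ k) • (LinearMap.id : N →ₗ[R] N))))
    (hloc : ∀ (p : Ideal R) [p.IsPrime], Module.Finite (Localization.AtPrime p) (LocalizedModule p.primeCompl N)) :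
    Module.Finite R N := by
  let c : ℕ →o Ideal R :=
    { toFun := fun k =>
        { carrier := {r | ∀ y : N, x ^ (k + 1) • y = 0 → x ^ k • r • y = 0}
          add_mem' := fun {a b} ha hb y hy => by rw [add_smul, smul_add, ha y hy, hb y hy, add_zero]
          zero_mem' := fun y _ => by rw [zero_smul, smul_zero]
          smul_mem' := fun a b hb y hy => by rw [smul_eq_mul, mul_smul, smul_comm, hb y hy, smul_zero] }
      monotone' := monotone_nat_of_le_succ fun k r hr y hy => by
        have := hr (x • y) (by rw [smul_smul, ← pow_succ]; exact hy)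
        rw [pow_succ, mul_smul, smul_comm x r y]
        exact this }
  obtain ⟨k0, hk0⟩ := monotone_stabilizes_iff_noetherian.2 (inferInstance : IsNoetherian R R) c
  have htop : c k0 = ⊤ := by
    by_contra hne
    obtain ⟨p, hp, hle⟩ := Ideal.exists_le_maximal _ hne
    haveI := hp.isPrime
    haveI := hloc p
    obtain ⟨gs, hgs⟩ := Module.Finite.fg_top (R := Localization.AtPrime p) (M := LocalizedModule p.primeCompl N)
    have : ∀ z : LocalizedModule p.primeCompl N, ∃ k : ℕ, x ^ k • z = 0 := fun z => by
      induction z using LocalizedModule.induction_on with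
      | h y s =>
        obtain ⟨k, hk⟩ := htor y
        exact ⟨k, by rw [LocalizedModule.smul'_mk, hk, LocalizedModule.zero_mk]⟩
    choose e he using this
    let K := max (gs.sup e) k0
    have hkill : ∀ z : LocalizedModule p.primeCompl N, x ^ K • z = 0 := fun z => by
      have hz : z ∈ Submodule.span (Localization.AtPrime p) (gs : Set (LocalizedModule p.primeCompl N)) :=
        hgs.symm ▸ Submodule.mem_top
      induction hz using Submodule.span_induction with
      | mem v hv =>
        obtain ⟨d, hd⟩ := Nat.exists_eq_add_of_le (le_trans (Finset.le_sup (f := e) hv) (le_max_left _ k0))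
        show x ^ max (gs.sup e) k0 • v = 0
        rw [hd, add_comm, pow_add, mul_smul, he v, smul_zero]
      | zero => exact smul_zero _
      | add u v _ _ hu hv => rw [smul_add, hu, hv, add_zero]
      | smul r u _ hu => rw [smul_comm, hu, smul_zero]
    haveI := hker (K + 1)
    obtain ⟨ys, hys⟩ := Module.Finite.fg_top (R := R)
      (M := LinearMap.ker ((x ^ (K + 1)) • (LinearMap.id : N →ₗ[R] N)))
    have hs : ∀ y : N, ∃ s : p.primeCompl, s • x ^ K • y = 0 := fun y => by
      have h1 := hkill (LocalizedModule.mkLinearMap p.primeCompl N y)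
      rw [← map_smul] at h1
      exact (IsLocalizedModule.eq_zero_iff p.primeCompl (LocalizedModule.mkLinearMap p.primeCompl N)).1 h1
    choose s hs using hs
    let S : p.primeCompl := ∏ y ∈ ys, s y.1
    have hSdef : S = ∏ y ∈ ys, s y.1 := rfl
    have hmem : (S : R) ∈ c K := by
      suffices hall : ∀ w : LinearMap.ker ((x ^ (K + 1)) • (LinearMap.id : N →ₗ[R] N)),
          x ^ K • (S : R) • w.1 = 0 from fun y hy => hall ⟨y, hy⟩
      intro w
      have hw : w ∈ Submodule.span R (ys : Set _) := hys.symm ▸ Submodule.mem_top
      clear_value S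
      induction hw using Submodule.span_induction with
      | mem v hv =>
        obtain ⟨d, hd⟩ : s v.1 ∣ ∏ y ∈ ys, s y.1 := Finset.dvd_prod_of_mem _ hv
        rw [hSdef, hd, Submonoid.coe_mul, mul_comm, mul_smul, smul_comm, smul_comm (x ^ K) (s v.1 : R)]
        exact (congrArg ((d : R) • ·) (hs v.1)).trans (smul_zero _)
      | zero => simp
      | add u v _ _ hu hv => rw [Submodule.coe_add, smul_add, smul_add, hu, hv, add_zero]
      | smul r u _ hu => rw [SetLike.val_smul, smul_comm (S : R) r, smul_comm _ r, hu, smul_zero]
    exact S.2 (hle (by rw [hk0 K (le_max_right _ _)]; exact hmem))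
  have hstep : ∀ (j : ℕ) (y : N), x ^ (k0 + j) • y = 0 → x ^ k0 • y = 0 := by
    intro j
    induction j with
    | zero => exact fun y hy => hy
    | succ j ih =>
      intro y hy
      refine ih y ?_
      have h1 : (1 : R) ∈ c (k0 + j) := by rw [← hk0 (k0 + j) (Nat.le_add_right _ _), htop]; trivial
      simpa using h1 y hy
  haveI := hker k0
  exact Module.Finite.of_surjective (LinearMap.ker ((x ^ k0) • (LinearMap.id : N →ₗ[R] N))).subtype fun y => by
    obtain ⟨k, hk⟩ := htor y
    exact ⟨⟨y, hstep k y (by rw [pow_add, mul_smul, hk, smul_zero])⟩, rfl⟩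

theorem finite_H_of_locally : ∀ (n : ℕ) (M : Type u) [AddCommGroup M] [Module R M] [Module.Finite R M],
    (∀ (p : Ideal R) [p.IsPrime], ∀ i ≤ n,
      Module.Finite (Localization.AtPrime p) (LocalizedModule p.primeCompl (LocCoh.H I i M))) →
    ∀ i ≤ n, Module.Finite R (LocCoh.H I i M) := by
  intro n
  induction n with
  | zero => intro M _ _ _ _ i hi; obtain rfl := Nat.le_zero.1 hi; exact finite_H0
  | succ n ih =>
    intro M _ _ _ h i hi
    rcases Nat.lt_or_eq_of_le hi with hlt | rfl
    · exact ih M (fun p _ j hj => h p j (hj.trans (Nat.le_succ n))) i (Nat.lt_succ_iff.1 hlt)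
    let T := DRing.torsionSub I M
    obtain ⟨x, hxI, hx⟩ := exists_regular_mem' I M
    have hM' : ∀ (p : Ideal R) [p.IsPrime], ∀ j ≤ n + 1,
        Module.Finite (Localization.AtPrime p) (LocalizedModule p.primeCompl (LocCoh.H I j (M ⧸ T))) := by
      intro p _ j hj
      rcases j with _ | j
      · haveI := subsingleton_H0_quot_torsion I M
        infer_instance
      · haveI := h p (j + 1) hj
        exact finite_localized_of_surjective p.primeCompl _ (bijective_Hf_mkQ_torsion j).2
    haveI : Module.Finite R (LocCoh.H I (n + 1) (M ⧸ T)) := by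
      refine finite_of_locally_finite_torsion x
        (fun y => (isPowerTorsion_H I (n + 1) (M ⧸ T) y).imp fun k hk => hk _ (Ideal.pow_mem_pow hxI k))
        (fun k => ?_) fun p _ => hM' p (n + 1) le_rfl
      obtain ⟨hf, hfg, hg⟩ := smul_exact (hx.pow k)
      haveI : Module.Finite R (LocCoh.H I n ((M ⧸ T) ⧸ LinearMap.range ((x ^ k) • LinearMap.id (R := R) (M := M ⧸ T)))) :=
        ih _ (fun p _ j hj => by
          haveI := hM' p j (hj.trans (Nat.le_succ n))
          haveI := hM' p (j + 1) (Nat.succ_le_succ hj)
          exact finite_localized_of_exact p.primeCompl (exact_Hδ hf hfg hg j).2) n le_rfl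
      have hker : LinearMap.ker ((x ^ k) • (LinearMap.id : LocCoh.H I (n + 1) (M ⧸ T) →ₗ[R] _)) =
          LinearMap.range (Hδ hf hfg hg n) := by
        rw [← (exact_Hδ hf hfg hg n).1.linearMap_ker_eq]
        ext y
        rw [LinearMap.mem_ker, LinearMap.mem_ker, Hf_smul_id]
        rfl
      rw [hker]
      infer_instance
    exact Module.Finite.equiv (LinearEquiv.ofBijective _ (bijective_Hf_mkQ_torsion n)).symm

theorem finite_H_iff_locally (M : Type u) [AddCommGroup M] [Module R M] [Module.Finite R M] (n : ℕ) :
    (∀ i ≤ n, Module.Finite R (LocCoh.H I i M)) ↔ ∀ (p : Ideal R) [p.IsPrime], ∀ i ≤ n,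
      Module.Finite (Localization.AtPrime p) (LocalizedModule p.primeCompl (LocCoh.H I i M)) :=
  ⟨fun h _ _ i hi => haveI := h i hi; inferInstance, finite_H_of_locally n M⟩

end LocCohLib
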