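import Groth.Agent.LocCohLib.HMap

/-! Change of support by one element. -/

set_option autoImplicit false
set_option maxHeartbeats 1000000
universe u

noncomputable section

open CategoryTheory Limits Opposite CochainComplex

namespace LocCohLib

namespace DeltaFun

variable {C D : Type*} [Category C] [Abelian C] [Category D] [Abelian D] [EnoughInjectives C]
  {T T' T'' : DeltaFun C D}

/-- Compatibility with the connecting maps of the chosen sequences. -/
def UnderCompat (α : ∀ i, T.F i ⟶ T'.F i) : Prop :=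
  ∀ (M : C) (i : ℕ), T.δ (under_shortExact M) i ≫ (α (i + 1)).app (under C M).X₁ =
    (α i).app (under C M).X₃ ≫ T'.δ (under_shortExact M) i

theorem UnderCompat.comp {α : ∀ i, T.F i ⟶ T'.F i} {β : ∀ i, T'.F i ⟶ T''.F i} (hα : UnderCompat α)
    (hβ : UnderCompat β) : UnderCompat (fun i => α i ≫ β i) := fun M i => by
  simp only [NatTrans.comp_app, Category.assoc]
  rw [reassoc_of% (hα M i), hβ M i]

theorem UnderCompat.ext (h : T.Effaceable) {α β : ∀ i, T.F i ⟶ T'.F i} (hα : UnderCompat α)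
    (hβ : UnderCompat β) (h0 : α 0 = β 0) : ∀ i, α i = β i
  | 0 => h0
  | i + 1 => by
    ext M
    apply Cofork.IsColimit.hom_ext (succIsColimit h M i)
    show T.δ (under_shortExact M) i ≫ (α (i + 1)).app (under C M).X₁ =
      T.δ (under_shortExact M) i ≫ (β (i + 1)).app (under C M).X₁
    rw [hα M i, hβ M i, UnderCompat.ext h hα hβ h0 i]

theorem underCompat_isoOfZero (h : T.Effaceable) (h' : T'.Effaceable) (e : T.F 0 ≅ T'.F 0) :
    UnderCompat (fun i => (isoOfZero h h' e i).hom) := fun M i =>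
  δ_succApp h i (isoOfZero h h' e i).hom M

theorem underCompat_isoOfZero_inv (h : T.Effaceable) (h' : T'.Effaceable) (e : T.F 0 ≅ T'.F 0) :
    UnderCompat (fun i => (isoOfZero h h' e i).inv) := fun M i =>
  δ_succApp h' i (isoOfZero h h' e i).inv M

end DeltaFun

variable {R : Type u} [CommRing R]

/-- Forgetting the first element. -/
def cechFst (f : R) (fs : List R) : cechFun (f :: fs) ⟶ cechFun fs where
  app M := mappingCocone.fst _
  naturality M N g := coconeMap_fst (DerCA.locCxUnit (Submonoid.powers f) (DerCA.extCech M fs)) _ _ _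

/-- Forgetting the first element, on cohomology. -/
def cechFstH (f : R) (fs : List R) (i : ℕ) : (cechDelta (f :: fs)).F i ⟶ (cechDelta fs).F i :=
  Functor.whiskerRight (cechFst f fs) (HomologicalComplex.homologyFunctor _ _ (i : ℤ))

theorem underCompat_cechFstH (f : R) (fs : List R) : DeltaFun.UnderCompat (cechFstH f fs) := fun M i =>
  HomologicalComplex.HomologySequence.δ_naturality ((DeltaFun.under _ M).mapNatTrans (cechFst f fs))
    (shortExact_cech (DeltaFun.under_shortExact M) (f :: fs)) (shortExact_cech (DeltaFun.under_shortExact M) fs)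
    (i : ℤ) ((i + 1 : ℕ) : ℤ) (by simp)

variable [IsNoetherianRing R] {I J : Ideal R}

/-- `HmapOfLE` is forgetting a generator. -/
theorem HmapOfLE_eq_cech (b : R) (fs : List R) (hI : Ideal.span {x | x ∈ fs} = I)
    (hJ : Ideal.span {x | x ∈ b :: fs} = J) (h : I ≤ J) (i : ℕ) :
    Dual2.HmapOfLE h i = (cechIso (b :: fs) J hJ i).hom ≫ cechFstH b fs i ≫ (cechIso fs I hI i).inv := by
  let e' := lcZeroIso J ≪≫ (cechZeroIso (b :: fs) J hJ).symm
  let e := lcZeroIso I ≪≫ (cechZeroIso fs I hI).symm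
  refine DeltaFun.UnderCompat.ext (T := lcDelta J) (T' := lcDelta I) (lcDelta_effaceable J)
    (fun M j => δ_HmapOfLE h (DeltaFun.under_shortExact M) j)
    ((DeltaFun.underCompat_isoOfZero (T := lcDelta J) (T' := cechDelta (b :: fs)) (lcDelta_effaceable J)
      (effaceable_cech (b :: fs)) e').comp ((underCompat_cechFstH b fs).comp
        (DeltaFun.underCompat_isoOfZero_inv (T := lcDelta I) (T' := cechDelta fs) (lcDelta_effaceable I)
          (effaceable_cech fs) e))) ?_ i
  apply NatTrans.ext; funext M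
  ext (y : (localCohomology J 0).obj M)
  refine (ConcreteCategory.bijective_of_isIso ((lcZeroIso I).hom.app M)).1 (Subtype.ext ?_)
  refine (lcZeroIso_HmapOfLE h M y).trans ?_
  show _ = ((lcZeroIso I).hom.app M ((lcZeroIso I).inv.app M ((cechZeroIso fs I hI).hom.app M
    (HomologicalComplex.homologyMap (mappingCocone.fst (DerCA.locCxUnit (Submonoid.powers b)
      (DerCA.extCech M fs))) ((0 : ℕ) : ℤ) ((cechZeroIso (b :: fs) J hJ).inv.app M ((lcZeroIso J).hom.app M y)))))).1
  rw [Iso.inv_hom_id_app_apply]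
  refine (congrArg Subtype.val (Iso.inv_hom_id_app_apply (cechZeroIso (b :: fs) J hJ) M
    ((lcZeroIso J).hom.app M y))).symm.trans ?_
  exact ConcreteCategory.congr_hom (toM_cons b fs M) ((cechZeroIso (b :: fs) J hJ).inv.app M ((lcZeroIso J).hom.app M y))

theorem HmapOfLE_app_injective (h : I ≤ J) (M : ModuleCat.{u} R) :
    Function.Injective ((Dual2.HmapOfLE h 0).app M) := fun x y hxy =>
  (ConcreteCategory.bijective_of_isIso ((lcZeroIso J).hom.app M)).1 (Subtype.ext
    ((lcZeroIso_HmapOfLE h M x).symm.trans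
      ((congrArg (fun z => ((lcZeroIso I).hom.app M z).1) hxy).trans (lcZeroIso_HmapOfLE h M y))))

variable {b : R}

/-- The image is the `b`-power torsion. -/
theorem mem_range_HmapOfLE (hJ : J = I ⊔ Ideal.span {b}) (h : I ≤ J) (i : ℕ) (M : Type u) [AddCommGroup M]
    [Module R M] (x : LocCoh.H I i M) :
    x ∈ LinearMap.range ((Dual2.HmapOfLE h i).app (ModuleCat.of R M)).hom ↔ ∃ n : ℕ, b ^ n • x = 0 := by
  obtain ⟨fs, hfs⟩ := exists_list_span I
  have hfs' : Ideal.span {x | x ∈ b :: fs} = J := by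
    rw [show {x | x ∈ b :: fs} = insert b {x | x ∈ fs} by ext; simp, Ideal.span_insert, hfs, hJ, sup_comm]
  rw [HmapOfLE_eq_cech b fs hfs hfs' h i]
  let K := DerCA.extCech (ModuleCat.of R M) fs
  let φ := DerCA.locCxUnit (Submonoid.powers b) K
  let e := cechEquiv fs I hfs i M
  let e' := cechEquiv (b :: fs) J hfs' i M
  show (∃ z, e.symm (HomologicalComplex.homologyMap (mappingCocone.fst φ) (i : ℤ) (e' z)) = x) ↔ _
  have h2 : (∃ n : ℕ, b ^ n • x = 0) ↔ HomologicalComplex.homologyMap φ (i : ℤ) (e x) = 0 := by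
    rw [homologyMap_locCxUnit_eq_zero_iff]
    refine ⟨fun ⟨n, hn⟩ => ⟨⟨b ^ n, n, rfl⟩, (e.map_smul (b ^ n) x).symm.trans ((congrArg e hn).trans (map_zero e))⟩,
      fun ⟨⟨_, n, rfl⟩, hn⟩ => ⟨n, e.map_eq_zero_iff.1 ((e.map_smul (b ^ n) x).trans hn)⟩⟩
  rw [h2]
  constructor
  · rintro ⟨z, rfl⟩
    rw [LinearEquiv.apply_symm_apply]
    exact ConcreteCategory.congr_hom (homologyMap_fst_comp φ (i : ℤ)) (e' z)
  · intro hx
    obtain ⟨w, hw⟩ := (ShortComplex.moduleCat_exact_iff _).1 (exact_fst φ (i : ℤ)) (e x) hx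
    refine ⟨e'.symm w, ?_⟩
    rw [LinearEquiv.apply_symm_apply]
    exact (congrArg e.symm hw).trans (e.symm_apply_apply x)

theorem isLocalizedModule_H (I : Ideal R) (i : ℕ) (b : R) (M : Type u) [AddCommGroup M] [Module R M] :
    IsLocalizedModule (Submonoid.powers b) ((localCohomology I i).map
      (ModuleCat.ofHom (LocalizedModule.mkLinearMap (Submonoid.powers b) M))).hom := by
  let ℓ := LocalizedModule.mkLinearMap (Submonoid.powers b) M
  let Mb := LocalizedModule (Submonoid.powers b) M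
  let Im := LinearMap.range ℓ
  let p : M →ₗ[R] Im := ℓ.rangeRestrict
  let ι : Im →ₗ[R] Mb := Im.subtype
  have hker : ∀ k : LinearMap.ker ℓ, ∃ n : ℕ, b ^ n • k = 0 := fun k => by
    obtain ⟨⟨_, n, rfl⟩, hn⟩ := (IsLocalizedModule.eq_zero_iff (Submonoid.powers b) ℓ).1 k.2
    exact ⟨n, Subtype.ext hn⟩
  have hcok : ∀ c : Mb ⧸ Im, ∃ n : ℕ, b ^ n • c = 0 := fun c => by
    obtain ⟨z, rfl⟩ := Submodule.mkQ_surjective _ c
    obtain ⟨⟨m, ⟨_, n, rfl⟩⟩, hm⟩ := IsLocalizedModule.surj (Submonoid.powers b) ℓ z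
    exact ⟨n, (Submodule.Quotient.mk_eq_zero _).2 ⟨m, hm.symm⟩⟩
  have hS1 : (ShortComplex.moduleCatMk (LinearMap.ker ℓ).subtype p (by
      ext k; exact k.2)).ShortExact :=
    { exact := (ShortComplex.ShortExact.moduleCat_exact_iff_function_exact _).2 fun y =>
        ⟨fun hy => ⟨⟨y, congrArg Subtype.val hy⟩, rfl⟩, by rintro ⟨k, rfl⟩; exact Subtype.ext k.2⟩
      mono_f := (ModuleCat.mono_iff_injective _).2 Subtype.val_injective
      epi_g := (ModuleCat.epi_iff_surjective _).2 ℓ.surjective_rangeRestrict }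
  have hS2 : (ShortComplex.moduleCatMk ι Im.mkQ
      (LinearMap.exact_subtype_mkQ Im).linearMap_comp_eq_zero).ShortExact :=
    { exact := (ShortComplex.ShortExact.moduleCat_exact_iff_function_exact _).2 (LinearMap.exact_subtype_mkQ Im)
      mono_f := (ModuleCat.mono_iff_injective _).2 Subtype.val_injective
      epi_g := (ModuleCat.epi_iff_surjective _).2 Im.mkQ_surjective }
  haveI := (lcDelta I).preservesZero i
  have hfac : ∀ y : LocCoh.H I i M, ((localCohomology I i).map (ModuleCat.ofHom ℓ)).hom y =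
      (localCohomology I i).map (ModuleCat.ofHom ι) ((localCohomology I i).map (ModuleCat.ofHom p) y) := fun y =>
    ConcreteCategory.congr_hom ((localCohomology I i).map_comp (ModuleCat.ofHom p) (ModuleCat.ofHom ι)) y
  have tors := fun (N : Type u) [AddCommGroup N] [Module R N] (hN : ∀ m : N, ∃ n : ℕ, b ^ n • m = 0) (j : ℕ) =>
    subsingleton_H_loc_of_torsion (I := I) b N hN j
  refine ⟨fun s => ?_, fun z => ?_, fun {x₁ x₂} hx => ?_⟩
  · haveI : IsIso ((s : R) • 𝟙 (ModuleCat.of R Mb)) := by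
      rw [ConcreteCategory.isIso_iff_bijective]
      exact (Module.End.isUnit_iff _).1 (IsLocalizedModule.map_units ℓ s)
    rw [Module.End.isUnit_iff]
    have := ConcreteCategory.bijective_of_isIso ((localCohomology I i).map ((s : R) • 𝟙 (ModuleCat.of R Mb)))
    rw [map_smul_id I (s : R) i (ModuleCat.of R Mb)] at this
    exact this
  · obtain ⟨n, hn⟩ := tors (Mb ⧸ Im) hcok i ((localCohomology I i).map (ModuleCat.ofHom Im.mkQ) z)
    obtain ⟨w, hw⟩ := (ShortComplex.moduleCat_exact_iff _).1 ((lcDelta I).exact₂ hS2 i) (b ^ n • z)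
      ((map_smul ((localCohomology I i).map (ModuleCat.ofHom Im.mkQ)).hom (b ^ n) z).trans hn)
    obtain ⟨k, hk⟩ := tors (LinearMap.ker ℓ) hker (i + 1) ((lcDelta I).δ hS1 i w)
    obtain ⟨v, hv⟩ := (ShortComplex.moduleCat_exact_iff _).1 ((lcDelta I).exact₃ hS1 i) (b ^ k • w)
      ((map_smul ((lcDelta I).δ hS1 i).hom (b ^ k) w).trans hk)
    refine ⟨(v, ⟨b ^ (k + n), k + n, rfl⟩), ?_⟩
    refine ((hfac v).trans ?_).symm
    refine (congrArg _ hv).trans ((map_smul ((localCohomology I i).map (ModuleCat.ofHom ι)).hom (b ^ k) w).trans ?_)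
    refine (congrArg (b ^ k • ·) hw).trans ?_
    exact (smul_smul _ _ z).trans (congrArg (· • z) (pow_add b k n).symm)
  · have key : ∀ y : LocCoh.H I i M, ((localCohomology I i).map (ModuleCat.ofHom ℓ)).hom y = 0 →
        ∃ n : ℕ, b ^ n • y = 0 := by
      intro y hy
      rw [hfac] at hy
      have hP : ∃ k : ℕ, b ^ k • (localCohomology I i).map (ModuleCat.ofHom p) y = 0 := by
        rcases i with _ | j
        · refine ⟨0, ?_⟩
          rw [pow_zero, one_smul]
          exact (ModuleCat.mono_iff_injective _).1 ((lcDelta I).mono₀ hS2) (hy.trans (map_zero _).symm)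
        · obtain ⟨c, hc⟩ := (ShortComplex.moduleCat_exact_iff _).1 ((lcDelta I).exact₁ hS2 j) _ hy
          obtain ⟨k, hk⟩ := tors (Mb ⧸ Im) hcok j c
          refine ⟨k, (congrArg (b ^ k • ·) hc).symm.trans ?_⟩
          exact (map_smul ((lcDelta I).δ hS2 j).hom (b ^ k) c).symm.trans ((congrArg _ hk).trans (map_zero _))
      obtain ⟨k, hk⟩ := hP
      obtain ⟨u, hu⟩ := (ShortComplex.moduleCat_exact_iff _).1 ((lcDelta I).exact₂ hS1 i) (b ^ k • y)
        ((map_smul ((localCohomology I i).map (ModuleCat.ofHom p)).hom (b ^ k) y).trans hk)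
      obtain ⟨n, hn⟩ := tors (LinearMap.ker ℓ) hker i u
      refine ⟨n + k, ?_⟩
      rw [pow_add, mul_smul]
      refine (congrArg (b ^ n • ·) hu).symm.trans ?_
      exact (map_smul ((localCohomology I i).map (ModuleCat.ofHom (LinearMap.ker ℓ).subtype)).hom (b ^ n) u).symm.trans
        ((congrArg _ hn).trans (map_zero _))
    obtain ⟨n, hn⟩ := key (x₁ - x₂) (by rw [map_sub]; exact sub_eq_zero.2 hx)
    exact ⟨⟨b ^ n, n, rfl⟩, by rwa [smul_sub, sub_eq_zero] at hn⟩

theorem exact_HmapOfLE_loc (hJ : J = I ⊔ Ideal.span {b}) (h : I ≤ J) (i : ℕ) (M : Type u) [AddCommGroup M]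
    [Module R M] : Function.Exact ((Dual2.HmapOfLE h i).app (ModuleCat.of R M)).hom
      ((localCohomology I i).map (ModuleCat.ofHom (LocalizedModule.mkLinearMap (Submonoid.powers b) M))).hom := by
  intro x
  haveI := isLocalizedModule_H I i b M
  rw [IsLocalizedModule.eq_zero_iff (Submonoid.powers b)]
  refine Iff.trans ?_ (mem_range_HmapOfLE hJ h i M x).symm
  exact ⟨fun ⟨⟨_, n, rfl⟩, hn⟩ => ⟨n, hn⟩, fun ⟨n, hn⟩ => ⟨⟨b ^ n, n, rfl⟩, hn⟩⟩

theorem exists_coconeδ {K L : DRing.Cx R} (φ : K ⟶ L) (n : ℤ) :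
    ∃ ψ : L.homology n →ₗ[R] (CochainComplex.mappingCocone φ).homology (n + 1),
      LinearMap.ker ψ = LinearMap.range (HomologicalComplex.homologyMap φ n).hom ∧
        LinearMap.range ψ =
          LinearMap.ker (HomologicalComplex.homologyMap (mappingCocone.fst φ) (n + 1)).hom := by
  let σ := shiftHomologyIso (CochainComplex.mappingCocone φ) 1 n (n + 1) (by omega)
  let τ := shiftHomologyIso K 1 n (n + 1) (by omega)
  let T := mappingCocone.triangle φ
  have hσ : Function.Bijective σ.hom.hom := σ.toLinearEquiv.bijective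
  have hτ : Function.Bijective τ.hom.hom := τ.toLinearEquiv.bijective
  refine ⟨σ.hom.hom ∘ₗ (HomologicalComplex.homologyMap T.rotate.mor₂ n).hom, ?_, ?_⟩
  · rw [LinearMap.ker_comp, LinearMap.ker_eq_bot.2 hσ.1, Submodule.comap_bot]
    exact ((ShortComplex.ShortExact.moduleCat_exact_iff_function_exact _).1
      (exact_of_dist T.rotate (rotate_dist _ (cocone_dist φ)) n)).linearMap_ker_eq
  · have hr := rotate_dist _ (rotate_dist _ (cocone_dist φ))
    have hnat : ∀ w, τ.hom.hom ((HomologicalComplex.homologyMap T.rotate.rotate.mor₂ n).hom w) =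
        -(HomologicalComplex.homologyMap (mappingCocone.fst φ) (n + 1)).hom (σ.hom.hom w) := by
      intro w
      show τ.hom.hom ((HomologicalComplex.homologyMap (-((mappingCocone.fst φ)⟦(1 : ℤ)⟧')) n).hom w) = _
      rw [HomologicalComplex.homologyMap_neg]
      show τ.hom.hom (-((HomologicalComplex.homologyMap ((mappingCocone.fst φ)⟦(1 : ℤ)⟧') n).hom w)) = _
      rw [map_neg]
      exact congrArg Neg.neg
        (ConcreteCategory.congr_hom (shiftHomologyIso_naturality (mappingCocone.fst φ) 1 n (n + 1) (by omega)) w)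
    ext y
    obtain ⟨w, rfl⟩ := hσ.2 y
    constructor
    · rintro ⟨x, hx⟩
      have hxw : (HomologicalComplex.homologyMap T.rotate.rotate.mor₁ n).hom x = w := hσ.1 hx
      have h0 : (HomologicalComplex.homologyMap T.rotate.rotate.mor₂ n).hom w = 0 := by
        rw [← hxw]
        exact ConcreteCategory.congr_hom (comp_zero_of_dist _ hr n) x
      exact neg_eq_zero.1 ((hnat w).symm.trans ((congrArg τ.hom.hom h0).trans (map_zero _)))
    · intro hw
      obtain ⟨x, hx⟩ := (ShortComplex.moduleCat_exact_iff _).1 (exact_of_dist _ hr n) w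
        (hτ.1 ((hnat w).trans ((neg_eq_zero.2 hw).trans (map_zero _).symm)))
      exact ⟨x, congrArg σ.hom.hom hx⟩

theorem isLocalizedModule_homologyMap (b : R) (K : DRing.Cx R) (n : ℤ) :
    IsLocalizedModule (Submonoid.powers b)
      (HomologicalComplex.homologyMap (DerCA.locCxUnit (Submonoid.powers b) K) n).hom := by
  obtain ⟨u, v, huv⟩ := exists_iso_homologyMap_locCxUnit (Submonoid.powers b) K n
  rw [huv]
  let ℓ : K.homology n →ₗ[R] (DerCA.locFunctor (Submonoid.powers b)).obj (K.homology n) :=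
    LocalizedModule.mkLinearMap (Submonoid.powers b) (K.homology n)
  haveI h0 : IsLocalizedModule (Submonoid.powers b) ℓ := localizedModuleIsLocalizedModule _
  haveI h1 : IsLocalizedModule (Submonoid.powers b) (v.symm.toLinearEquiv.toLinearMap ∘ₗ ℓ) :=
    IsLocalizedModule.of_linearEquiv (Submonoid.powers b) ℓ v.symm.toLinearEquiv
  exact IsLocalizedModule.of_linearEquiv_right (Submonoid.powers b) (v.symm.toLinearEquiv.toLinearMap ∘ₗ ℓ)
    u.toLinearEquiv

/-- Cokernels of two localisation maps. -/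
theorem nonempty_cokerEquiv {N N' P P' : Type u} [AddCommGroup N] [Module R N] [AddCommGroup N'] [Module R N']
    [AddCommGroup P] [Module R P] [AddCommGroup P'] [Module R P'] (S : Submonoid R) (e : N ≃ₗ[R] P)
    (f : N →ₗ[R] N') (g : P →ₗ[R] P') [IsLocalizedModule S f] [IsLocalizedModule S g] :
    Nonempty ((N' ⧸ LinearMap.range f) ≃ₗ[R] (P' ⧸ LinearMap.range g)) := by
  haveI : IsLocalizedModule S (g ∘ₗ e.toLinearMap) := IsLocalizedModule.of_linearEquiv_right S g e
  refine ⟨Submodule.Quotient.equiv _ _ (IsLocalizedModule.linearEquiv S f (g ∘ₗ e.toLinearMap)) ?_⟩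
  ext z
  constructor
  · rintro ⟨_, ⟨x, rfl⟩, rfl⟩
    exact ⟨e x, (IsLocalizedModule.linearEquiv_apply S f (g ∘ₗ e.toLinearMap) x).symm⟩
  · rintro ⟨p, rfl⟩
    refine ⟨f (e.symm p), ⟨_, rfl⟩, (IsLocalizedModule.linearEquiv_apply S f (g ∘ₗ e.toLinearMap) _).trans ?_⟩
    simp

/-- The kernel one degree up is the cokernel of localisation. -/
theorem nonempty_kerHmap_equiv (hJ : J = I ⊔ Ideal.span {b}) (h : I ≤ J) (i : ℕ) (M : Type u)
    [AddCommGroup M] [Module R M] {N N' : Type u} [AddCommGroup N] [Module R N] [AddCommGroup N'] [Module R N']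
    (e : N ≃ₗ[R] LocCoh.H I i M) (g : N →ₗ[R] N') [IsLocalizedModule (Submonoid.powers b) g] :
    Nonempty ((N' ⧸ LinearMap.range g) ≃ₗ[R]
      LinearMap.ker ((Dual2.HmapOfLE h (i + 1)).app (ModuleCat.of R M)).hom) := by
  obtain ⟨fs, hfs⟩ := exists_list_span I
  have hfs' : Ideal.span {x | x ∈ b :: fs} = J := by
    rw [show {x | x ∈ b :: fs} = insert b {x | x ∈ fs} by ext; simp, Ideal.span_insert, hfs, hJ, sup_comm]
  rw [HmapOfLE_eq_cech b fs hfs hfs' h (i + 1)]
  let K := DerCA.extCech (ModuleCat.of R M) fs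
  let φ := DerCA.locCxUnit (Submonoid.powers b) K
  obtain ⟨ψ, hψ1, hψ2⟩ := exists_coconeδ φ (i : ℤ)
  haveI := isLocalizedModule_homologyMap b K (i : ℤ)
  obtain ⟨q⟩ := nonempty_cokerEquiv (Submonoid.powers b) (e.trans (cechEquiv fs I hfs i M)) g
    (HomologicalComplex.homologyMap φ (i : ℤ)).hom
  let e1 := cechEquiv (b :: fs) J hfs' (i + 1) M
  let e2 := cechEquiv fs I hfs (i + 1) M
  let q2 := ((Submodule.quotEquivOfEq _ _ hψ1.symm).trans ψ.quotKerEquivRange).trans (LinearEquiv.ofEq _ _ hψ2)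
  suffices h3 : Nonempty (LinearMap.ker (HomologicalComplex.homologyMap (mappingCocone.fst φ) ((i + 1 : ℕ) : ℤ)).hom ≃ₗ[R]
      LinearMap.ker (e2.symm.toLinearMap ∘ₗ
        (HomologicalComplex.homologyMap (mappingCocone.fst φ) ((i + 1 : ℕ) : ℤ)).hom ∘ₗ e1.toLinearMap)) from
    h3.elim fun e3 => ⟨(q.trans q2).trans e3⟩
  refine ⟨LinearEquiv.ofSubmodules e1.symm _ _ ?_⟩
  ext z
  refine (Submodule.mem_map_equiv (e := e1.symm) _).trans ?_
  exact e2.symm.map_eq_zero_iff.symm

end LocCohLib
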