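import Groth.Agent.LocCohLib.Facts
import Mathlib.RingTheory.Flat.Basic

/-! Modules with divisible torsion parts are acyclic for local cohomology. -/

set_option autoImplicit false
set_option maxHeartbeats 400000
universe u

noncomputable section

open CategoryTheory Limits TensorProduct

namespace LocCohLib

variable {R : Type u} [CommRing R]

/-- Every torsion part of `M` maps onto its localisation at each `f ∈ fs`, elementwise. -/
def GammaSurj (fs : List R) (M : Type u) [AddCommGroup M] [Module R M] : Prop :=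
  ∀ l : List R, (∀ x ∈ l, x ∈ fs) → ∀ f ∈ fs, ∀ e ∈ DRing.torsionSub (Ideal.span {x | x ∈ l}) M,
    ∀ k : ℕ, ∃ e' ∈ DRing.torsionSub (Ideal.span {x | x ∈ l}) M, ∃ N : ℕ, f ^ N • e = f ^ (N + k) • e'

theorem surjective_loc_iff (f : R) (M : Type u) [AddCommGroup M] [Module R M] :
    Function.Surjective (LocalizedModule.mkLinearMap (Submonoid.powers f) M) ↔
      ∀ (e : M) (k : ℕ), ∃ e' : M, ∃ N : ℕ, f ^ N • e = f ^ (N + k) • e' := by
  constructor
  · intro h e k
    obtain ⟨e', he'⟩ := h (LocalizedModule.mk e ⟨f ^ k, k, rfl⟩)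
    rw [LocalizedModule.mkLinearMap_apply, LocalizedModule.mk_eq] at he'
    obtain ⟨⟨_, N, rfl⟩, hN⟩ := he'
    refine ⟨e', N, ?_⟩
    simp only [Submonoid.smul_def, one_smul] at hN
    rw [pow_add, mul_smul]
    exact hN.symm
  · intro h z
    induction z using LocalizedModule.induction_on with
    | h e s =>
      obtain ⟨_, k, rfl⟩ := s
      obtain ⟨e', N, hN⟩ := h e k
      refine ⟨e', ?_⟩
      rw [LocalizedModule.mkLinearMap_apply, LocalizedModule.mk_eq]
      refine ⟨⟨f ^ N, N, rfl⟩, ?_⟩
      simp only [Submonoid.smul_def, one_smul]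
      rw [smul_smul, ← pow_add]
      exact hN.symm

theorem gammaSurj_of_baer [IsNoetherianRing R] (fs : List R) {E : Type u} [AddCommGroup E] [Module R E]
    (hE : Module.Baer R E) : GammaSurj fs E := fun l _ f _ e he k => by
  obtain ⟨e', N, hN⟩ := (surjective_loc_iff f _).1 (surjective_loc_of_baer (baer_torsionSub hE _) f) ⟨e, he⟩ k
  exact ⟨e'.1, e'.2, N, congrArg Subtype.val hN⟩

/-- The higher Čech cohomology of a `GammaSurj` module vanishes. -/
theorem isZero_cech_of_gammaSurj (M : ModuleCat.{u} R) :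
    ∀ (fs : List R), GammaSurj fs M → ∀ i : ℕ, IsZero ((DerCA.extCech M fs).homology ((i : ℤ) + 1))
  | [], _, i => (HomologicalComplex.exactAt_iff_isZero_homology _ _).1
      (HomologicalComplex.exactAt_single_obj _ _ _ _ (by omega))
  | f :: fs, h, i => by
    have ih := isZero_cech_of_gammaSurj M fs
      fun l hl g hg => h l (fun x hx => List.mem_cons_of_mem _ (hl x hx)) g (List.mem_cons_of_mem _ hg)
    rcases i with _ | i
    · have : Epi (HomologicalComplex.homologyMap
          (DerCA.locCxUnit (Submonoid.powers f) (DerCA.extCech M fs)) 0) := by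
        obtain ⟨u, v, huv⟩ := exists_iso_homologyMap_locCxUnit (Submonoid.powers f) (DerCA.extCech M fs) 0
        obtain ⟨hinj, hrange⟩ := toM_spec M fs
        have : Epi ((DerCA.locUnit (Submonoid.powers f)).app ((DerCA.extCech M fs).homology 0)) := by
          refine (ModuleCat.epi_iff_surjective _).2 ((surjective_loc_iff f _).2 fun y k => ?_)
          have hy : (toM fs M).hom y ∈ DRing.torsionSub (Ideal.span {x | x ∈ fs}) M :=
            hrange ▸ LinearMap.mem_range_self _ y
          obtain ⟨e', he', N, hN⟩ := h fs (fun x hx => List.mem_cons_of_mem _ hx) f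
            (List.mem_cons_self ..) _ hy k
          rw [← hrange] at he'
          obtain ⟨y', rfl⟩ := he'
          exact ⟨y', N, hinj (by rw [map_smul, map_smul]; exact hN)⟩
        rw [huv]
        infer_instance
      exact isZero_cocone (DerCA.locCxUnit (Submonoid.powers f) (DerCA.extCech M fs)) 0 (ih 0)
    · have h' := isZero_cocone' (DerCA.locCxUnit (Submonoid.powers f) (DerCA.extCech M fs)) ((i : ℤ) + 1)
        (by exact_mod_cast ih (i + 1)) (isZero_homology_locCx _ _ _ (ih i))
      exact_mod_cast h'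

theorem subsingleton_H_of_gammaSurj [IsNoetherianRing R] (fs : List R) (I : Ideal R)
    (hI : Ideal.span {x | x ∈ fs} = I) (M : Type u) [AddCommGroup M] [Module R M] (h : GammaSurj fs M)
    (i : ℕ) (hi : 0 < i) : Subsingleton (LocCoh.H I i M) := by
  obtain ⟨n, rfl⟩ := Nat.exists_eq_succ_of_ne_zero hi.ne'
  refine (cechEquiv fs I hI n.succ M).toEquiv.subsingleton_congr.2 (moduleCat_zero_of_isZero ?_)
  have := isZero_cech_of_gammaSurj (ModuleCat.of R M) fs h n
  exact_mod_cast this

section Change

variable {R' : Type u} [CommRing R'] [Algebra R R']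

theorem span_list_map (fs : List R) :
    Ideal.span {x | x ∈ fs.map (algebraMap R R')} = (Ideal.span {x | x ∈ fs}).map (algebraMap R R') := by
  rw [Ideal.map_span]
  congr 1
  ext x
  simp

theorem exists_list_eq_map {fs : List R} : ∀ (l : List R'), (∀ x ∈ l, x ∈ fs.map (algebraMap R R')) →
    ∃ l₀ : List R, (∀ x ∈ l₀, x ∈ fs) ∧ l = l₀.map (algebraMap R R')
  | [], _ => ⟨[], by simp, rfl⟩
  | a :: l, h => by
    obtain ⟨l₀, h₀, rfl⟩ := exists_list_eq_map l fun x hx => h x (List.mem_cons_of_mem _ hx)
    obtain ⟨b, hb, rfl⟩ := List.mem_map.1 (h a (List.mem_cons_self ..))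
    exact ⟨b :: l₀, by simpa [hb] using h₀, rfl⟩

theorem mem_torsionSub_map {M : Type u} [AddCommGroup M] [Module R M] [Module R' M]
    [IsScalarTower R R' M] (I : Ideal R) (m : M) :
    m ∈ DRing.torsionSub (I.map (algebraMap R R')) M ↔ m ∈ DRing.torsionSub I M := by
  constructor
  · rintro ⟨n, hn⟩
    refine ⟨n, fun a ha => ?_⟩
    rw [← algebraMap_smul R' a m]
    exact hn _ (by rw [← Ideal.map_pow]; exact Ideal.mem_map_of_mem _ ha)
  · rintro ⟨n, hn⟩
    refine ⟨n, fun b hb => ?_⟩
    rw [← Ideal.map_pow] at hb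
    induction hb using Submodule.span_induction with
    | mem x hx => obtain ⟨a, ha, rfl⟩ := hx; rw [algebraMap_smul]; exact hn a ha
    | zero => exact zero_smul _ _
    | add x y _ _ hx hy => rw [add_smul, hx, hy, add_zero]
    | smul r x _ hx => rw [smul_eq_mul, mul_smul, hx, smul_zero]

theorem gammaSurj_restrict (fs : List R) {M : Type u} [AddCommGroup M] [Module R M] [Module R' M]
    [IsScalarTower R R' M] (h : GammaSurj (fs.map (algebraMap R R')) M) : GammaSurj fs M := by
  intro l hl f hf e he k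
  obtain ⟨e', he', N, hN⟩ := h (l.map (algebraMap R R')) (fun x hx => by
      obtain ⟨y, hy, rfl⟩ := List.mem_map.1 hx
      exact List.mem_map_of_mem (hl y hy))
    (algebraMap R R' f) (List.mem_map_of_mem hf) e
    (by rw [span_list_map]; exact (mem_torsionSub_map _ e).2 he) k
  rw [span_list_map] at he'
  refine ⟨e', (mem_torsionSub_map _ e').1 he', N, ?_⟩
  rwa [← map_pow, ← map_pow, algebraMap_smul, algebraMap_smul] at hN

variable [Module.Flat R R'] (M : Type u) [AddCommGroup M] [Module R M]

omit [Module.Flat R R'] in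
theorem range_lTensor_torsion_le (I : Ideal R) :
    LinearMap.range ((DRing.torsionSub I M).subtype.lTensor R') ≤ DRing.torsionSub I (R' ⊗[R] M) := by
  rintro _ ⟨x, rfl⟩
  induction x using TensorProduct.induction_on with
  | zero => rw [map_zero]; exact zero_mem _
  | tmul r m =>
    obtain ⟨n, hn⟩ := m.2
    refine ⟨n, fun a ha => ?_⟩
    rw [LinearMap.lTensor_tmul, ← TensorProduct.tmul_smul, Submodule.subtype_apply, hn a ha,
      TensorProduct.tmul_zero]
  | add x y hx hy => rw [map_add]; exact add_mem hx hy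

theorem range_lTensor_torsion (I : Ideal R) (hI : I.FG) :
    LinearMap.range ((DRing.torsionSub I M).subtype.lTensor R') = DRing.torsionSub I (R' ⊗[R] M) := by
  refine le_antisymm (range_lTensor_torsion_le M I) ?_
  rintro x ⟨n, hn⟩
  obtain ⟨S, hS⟩ := Submodule.FG.pow (R := R) (A := R) hI n
  let K : Submodule R M := LinearMap.ker (LinearMap.pi fun a : S => a.1 • (LinearMap.id : M →ₗ[R] M))
  have hex : Function.Exact K.subtype (LinearMap.pi fun a : S => a.1 • (LinearMap.id : M →ₗ[R] M)) :=
    LinearMap.exact_subtype_ker_map _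
  have h2 := Module.Flat.lTensor_exact R' hex
  classical
  have h0 : (LinearMap.pi fun a : S => a.1 • (LinearMap.id : M →ₗ[R] M)).lTensor R' x = 0 := by
    apply (TensorProduct.piRight R R R' fun _ : S => M).injective
    rw [map_zero]
    funext a
    have key : ∀ y : R' ⊗[R] M, TensorProduct.piRight R R R' (fun _ : S => M)
        ((LinearMap.pi fun a : S => a.1 • (LinearMap.id : M →ₗ[R] M)).lTensor R' y) a = a.1 • y := by
      intro y
      induction y using TensorProduct.induction_on with
      | zero => simp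
      | tmul r m => simp [TensorProduct.tmul_smul]
      | add u v hu hv => simp only [map_add, Pi.add_apply, smul_add, hu, hv]
    rw [key]
    exact hn a.1 (hS ▸ Submodule.subset_span a.2)
  obtain ⟨y, rfl⟩ := (h2 x).1 h0
  have hKT : K ≤ DRing.torsionSub I M := fun m hm => ⟨n, fun a ha => by
    rw [← hS] at ha
    induction ha using Submodule.span_induction with
    | mem z hz => exact congrFun (LinearMap.mem_ker.1 hm) ⟨z, hz⟩
    | zero => exact zero_smul _ _
    | add u v _ _ hu hv => rw [add_smul, hu, hv, add_zero]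
    | smul r u _ hu => rw [smul_eq_mul, mul_smul, hu, smul_zero]⟩
  refine ⟨(Submodule.inclusion hKT).lTensor R' y, ?_⟩
  rw [← LinearMap.lTensor_comp_apply]
  rfl

theorem gammaSurj_tensor [IsNoetherianRing R] (fs : List R) (h : GammaSurj fs M) :
    GammaSurj (fs.map (algebraMap R R')) (R' ⊗[R] M) := by
  intro l hl f hf e he k
  obtain ⟨l₀, hl₀, rfl⟩ := exists_list_eq_map l hl
  obtain ⟨f₀, hf₀, rfl⟩ := List.mem_map.1 hf
  rw [span_list_map] at he ⊢
  rw [mem_torsionSub_map, ← range_lTensor_torsion M _ (IsNoetherian.noetherian _)] at he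
  suffices H : ∀ t : R' ⊗[R] DRing.torsionSub (Ideal.span {x | x ∈ l₀}) M,
      ∃ t' : R' ⊗[R] DRing.torsionSub (Ideal.span {x | x ∈ l₀}) M, ∃ N : ℕ,
        f₀ ^ N • t = f₀ ^ (N + k) • t' by
    obtain ⟨t, rfl⟩ := he
    obtain ⟨t', N, hN⟩ := H t
    refine ⟨_, (mem_torsionSub_map _ _).2 (range_lTensor_torsion_le M _ ⟨t', rfl⟩), N, ?_⟩
    rw [← map_pow, ← map_pow, algebraMap_smul, algebraMap_smul, ← map_smul, ← map_smul, hN]
  intro t
  induction t using TensorProduct.induction_on with
  | zero => exact ⟨0, 0, by simp⟩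
  | tmul r m =>
    obtain ⟨m', hm', N, hN⟩ := h l₀ hl₀ f₀ hf₀ m.1 m.2 k
    exact ⟨r ⊗ₜ ⟨m', hm'⟩, N, by
      rw [← TensorProduct.tmul_smul, ← TensorProduct.tmul_smul]
      exact congrArg _ (Subtype.ext hN)⟩
  | add a b ha hb =>
    obtain ⟨a', Na, hNa⟩ := ha
    obtain ⟨b', Nb, hNb⟩ := hb
    refine ⟨a' + b', Na + Nb, ?_⟩
    rw [smul_add, smul_add]
    congr 1
    · rw [show Na + Nb + k = Nb + (Na + k) by ring, pow_add f₀ Nb, mul_smul, ← hNa, smul_smul, ← pow_add,
        add_comm]
    · rw [show Na + Nb + k = Na + (Nb + k) by ring, pow_add f₀ Na (Nb + k), mul_smul, ← hNb, smul_smul,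
        ← pow_add]

end Change

variable [IsNoetherianRing R] {R' : Type u} [CommRing R'] [IsNoetherianRing R'] [Algebra R R']

theorem subsingleton_H_restrict (I : Ideal R) (E' : Type u) [AddCommGroup E'] [Module R' E'] [Module R E']
    [IsScalarTower R R' E'] (hE : Module.Baer R' E') (i : ℕ) (hi : 0 < i) :
    Subsingleton (LocCoh.H I i E') := by
  obtain ⟨fs, hfs⟩ := exists_list_span I
  exact subsingleton_H_of_gammaSurj fs I hfs E' (gammaSurj_restrict fs (gammaSurj_of_baer _ hE)) i hi

theorem subsingleton_H_tensor [Module.Flat R R'] (I : Ideal R) (E : Type u) [AddCommGroup E] [Module R E]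
    (hE : Module.Baer R E) (i : ℕ) (hi : 0 < i) :
    Subsingleton (LocCoh.H (I.map (algebraMap R R')) i (R' ⊗[R] E)) := by
  obtain ⟨fs, hfs⟩ := exists_list_span I
  exact subsingleton_H_of_gammaSurj (fs.map (algebraMap R R')) _ (by rw [span_list_map, hfs]) _
    (gammaSurj_tensor E fs (gammaSurj_of_baer fs hE)) i hi

end LocCohLib
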