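import Groth.Agent.LocCohLib.Cech
import Groth.Agent.LocCohLib.LocalCohomology
import Groth.Prelude.Def_Wider

/-! Local cohomology as Čech cohomology. -/

set_option autoImplicit false
set_option maxHeartbeats 400000
universe u

noncomputable section

open CategoryTheory Limits

namespace LocCohLib

variable {R : Type u} [CommRing R]

theorem range_toM (fs : List R) (I : Ideal R) (h : Ideal.span {x | x ∈ fs} = I) (M : ModuleCat.{u} R) :
    LinearMap.range (toM fs M).hom = DRing.torsionSub I M := by
  subst h
  exact (toM_spec M fs).2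

/-- Degree zero of Čech cohomology is `Γ_I`. -/
def cechZeroIso (fs : List R) (I : Ideal R) (h : Ideal.span {x | x ∈ fs} = I) :
    (cechDelta fs).F 0 ≅ DRing.gammaI I :=
  NatIso.ofComponents
    (fun M => ((LinearEquiv.ofInjective (toM fs M).hom (toM_spec M fs).1).trans
      (LinearEquiv.ofEq _ _ (range_toM fs I h M))).toModuleIso (X₁ := ((cechDelta fs).F 0).obj M))
    (fun {M N} g => by
      ext x
      exact Subtype.ext (ConcreteCategory.congr_hom (toM_naturality fs g) x))

variable [IsNoetherianRing R]

/-- Local cohomology is Čech cohomology, naturally in the module. -/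
def cechIso (fs : List R) (I : Ideal R) (h : Ideal.span {x | x ∈ fs} = I) (i : ℕ) :
    localCohomology I i ≅ cechFun fs ⋙ HomologicalComplex.homologyFunctor _ _ (i : ℤ) :=
  DeltaFun.isoOfZero (T := lcDelta I) (T' := cechDelta fs) (lcDelta_effaceable I) (effaceable_cech fs)
    (lcZeroIso I ≪≫ (cechZeroIso fs I h).symm) i

theorem exists_list_span (I : Ideal R) : ∃ fs : List R, Ideal.span {x | x ∈ fs} = I := by
  obtain ⟨S, hS⟩ := IsNoetherian.noetherian I
  exact ⟨S.toList, by simpa [Finset.mem_toList] using hS⟩

/-- `H^i_I(M)` is Čech cohomology. -/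
def cechEquiv (fs : List R) (I : Ideal R) (h : Ideal.span {x | x ∈ fs} = I) (i : ℕ) (M : Type u)
    [AddCommGroup M] [Module R M] :
    LocCoh.H I i M ≃ₗ[R] DerCA.extCechH fs (ModuleCat.of R M) (i : ℤ) :=
  ((cechIso fs I h i).app (ModuleCat.of R M)).toLinearEquiv

end LocCohLib
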