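import Mathlib.Algebra.Homology.HomotopyCategory.MappingCocone
import Mathlib.Algebra.Homology.HomotopyCategory.HomologicalFunctor
import Mathlib.Algebra.Homology.HomotopyCategory.ShiftSequence

/-! Homology of a mapping cocone; functoriality. -/

set_option autoImplicit false
set_option maxHeartbeats 400000

noncomputable section

open CategoryTheory Limits Pretriangulated HomologicalComplex CochainComplex

namespace LocCohLib

variable {C : Type*} [Category C] [Abelian C] {K L : CochainComplex C ℤ} (φ : K ⟶ L)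

theorem comp_zero_of_dist (T : Triangle (CochainComplex C ℤ))
    (hT : (HomotopyCategory.quotient C (ComplexShape.up ℤ)).mapTriangle.obj T ∈ distTriang _) (n : ℤ) :
    homologyMap T.mor₁ n ≫ homologyMap T.mor₂ n = 0 := by
  let G := HomotopyCategory.quotient C (ComplexShape.up ℤ) ⋙
    HomotopyCategory.homologyFunctor C (ComplexShape.up ℤ) n
  let e : G ≅ homologyFunctor C (ComplexShape.up ℤ) n :=
    HomotopyCategory.homologyFunctorFactors C (ComplexShape.up ℤ) n
  have h0 : G.map T.mor₁ ≫ G.map T.mor₂ = 0 := by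
    refine ((HomotopyCategory.homologyFunctor C (ComplexShape.up ℤ) n).map_comp
      ((HomotopyCategory.quotient C (ComplexShape.up ℤ)).map T.mor₁)
      ((HomotopyCategory.quotient C (ComplexShape.up ℤ)).map T.mor₂)).symm.trans ?_
    exact (congrArg _ (comp_distTriang_mor_zero₁₂ _ hT)).trans (Functor.map_zero _ _ _)
  show (homologyFunctor C (ComplexShape.up ℤ) n).map T.mor₁ ≫
    (homologyFunctor C (ComplexShape.up ℤ) n).map T.mor₂ = 0
  rw [← cancel_epi (e.hom.app T.obj₁), comp_zero, ← e.hom.naturality_assoc, ← e.hom.naturality,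
    reassoc_of% h0, zero_comp]

theorem exact_of_dist (T : Triangle (CochainComplex C ℤ))
    (hT : (HomotopyCategory.quotient C (ComplexShape.up ℤ)).mapTriangle.obj T ∈ distTriang _) (n : ℤ) :
    (ShortComplex.mk (homologyMap T.mor₁ n) (homologyMap T.mor₂ n) (comp_zero_of_dist T hT n)).Exact := by
  have hex := (HomotopyCategory.homologyFunctor C (ComplexShape.up ℤ) n).map_distinguished_exact _ hT
  exact (ShortComplex.exact_iff_of_iso
    (ShortComplex.isoMk ((HomotopyCategory.homologyFunctorFactors C (ComplexShape.up ℤ) n).app T.obj₁)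
      ((HomotopyCategory.homologyFunctorFactors C (ComplexShape.up ℤ) n).app T.obj₂)
      ((HomotopyCategory.homologyFunctorFactors C (ComplexShape.up ℤ) n).app T.obj₃)
      ((HomotopyCategory.homologyFunctorFactors C (ComplexShape.up ℤ) n).hom.naturality T.mor₁).symm
      ((HomotopyCategory.homologyFunctorFactors C (ComplexShape.up ℤ) n).hom.naturality T.mor₂).symm)).1 hex

theorem rotate_dist (T : Triangle (CochainComplex C ℤ))
    (hT : (HomotopyCategory.quotient C (ComplexShape.up ℤ)).mapTriangle.obj T ∈ distTriang _) :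
    (HomotopyCategory.quotient C (ComplexShape.up ℤ)).mapTriangle.obj T.rotate ∈ distTriang _ :=
  isomorphic_distinguished _ (rot_of_distTriang _ hT) _
    (((HomotopyCategory.quotient C (ComplexShape.up ℤ)).mapTriangleRotateIso.app T).symm)

theorem cone_dist : (HomotopyCategory.quotient C (ComplexShape.up ℤ)).mapTriangle.obj
    (mappingCone.triangle φ) ∈ distTriang _ :=
  HomotopyCategory.mappingCone_triangleh_distinguished φ

theorem homologyMap_comp_inr (n : ℤ) :
    homologyMap φ n ≫ homologyMap (mappingCone.inr φ) n = 0 :=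
  comp_zero_of_dist (mappingCone.triangle φ) (cone_dist φ) n

theorem exact_inr (n : ℤ) : (ShortComplex.mk _ _ (homologyMap_comp_inr φ n)).Exact :=
  exact_of_dist (mappingCone.triangle φ) (cone_dist φ) n

/-- The connecting map `cone ⟶ K⟦1⟧`. -/
def coneδ : mappingCone φ ⟶ K⟦(1 : ℤ)⟧ := (mappingCone.triangle φ).mor₃

theorem homologyMap_inr_comp_δ (n : ℤ) :
    homologyMap (mappingCone.inr φ) n ≫ homologyMap (coneδ φ) n = 0 :=
  comp_zero_of_dist (mappingCone.triangle φ).rotate (rotate_dist _ (cone_dist φ)) n

/-- `Hⁿ L → Hⁿ(cone) → Hⁿ(K⟦1⟧)` is exact. -/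
theorem exact_δ (n : ℤ) : (ShortComplex.mk _ _ (homologyMap_inr_comp_δ φ n)).Exact :=
  exact_of_dist (mappingCone.triangle φ).rotate (rotate_dist _ (cone_dist φ)) n

theorem cocone_dist : (HomotopyCategory.quotient C (ComplexShape.up ℤ)).mapTriangle.obj
    (mappingCocone.triangle φ) ∈ distTriang _ := by
  rw [rotate_distinguished_triangle]
  exact isomorphic_distinguished _ (cone_dist φ) _
    ((HomotopyCategory.quotient C (ComplexShape.up ℤ)).mapTriangleRotateIso.app
        (mappingCocone.triangle φ) ≪≫
      (HomotopyCategory.quotient C (ComplexShape.up ℤ)).mapTriangle.mapIso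
        (mappingCocone.rotateTriangleIso φ))

theorem homologyMap_fst_comp (n : ℤ) :
    homologyMap (mappingCocone.fst φ) n ≫ homologyMap φ n = 0 :=
  comp_zero_of_dist (mappingCocone.triangle φ) (cocone_dist φ) n

/-- `Hⁿ(cocone) → Hⁿ K → Hⁿ L` is exact. -/
theorem exact_fst (n : ℤ) : (ShortComplex.mk _ _ (homologyMap_fst_comp φ n)).Exact :=
  exact_of_dist (mappingCocone.triangle φ) (cocone_dist φ) n

/-- `Hⁿ` of `X⟦a⟧`. -/
def shiftHomologyIso (X : CochainComplex C ℤ) (a n m : ℤ) (h : a + n = m) :
    (X⟦a⟧).homology n ≅ X.homology m :=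
  (CochainComplex.ShiftSequence.shiftIso C a n m h).app X

theorem shiftHomologyIso_naturality {X Y : CochainComplex C ℤ} (f : X ⟶ Y) (a n m : ℤ) (h : a + n = m) :
    homologyMap (f⟦a⟧') n ≫ (shiftHomologyIso Y a n m h).hom =
      (shiftHomologyIso X a n m h).hom ≫ homologyMap f m :=
  (CochainComplex.ShiftSequence.shiftIso C a n m h).hom.naturality f

/-- The homology of the cocone is the shifted homology of the cone. -/
def coconeHomologyIso (n m : ℤ) (h : -1 + n = m) :
    (mappingCocone φ).homology n ≅ (mappingCone φ).homology m :=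
  shiftHomologyIso (mappingCone φ) (-1) n m h

/-- A cocone has no homology in degree `n + 1` when `K` has none there and `Hⁿφ` is onto. -/
theorem isZero_cocone (n : ℤ) (hK : IsZero (K.homology (n + 1))) [Epi (homologyMap φ n)] :
    IsZero ((mappingCocone φ).homology (n + 1)) := by
  refine IsZero.of_iso ?_ (coconeHomologyIso φ (n + 1) n (by omega))
  refine (exact_δ φ n).isZero_of_both_zeros ?_ ?_
  · show homologyMap (mappingCone.inr φ) n = 0
    rw [← cancel_epi (homologyMap φ n), comp_zero]
    exact homologyMap_comp_inr φ n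
  · exact (IsZero.of_iso hK (shiftHomologyIso K 1 n (n + 1) (by omega))).eq_of_tgt _ _

/-- A cocone has no homology in degree `n + 1` when `K` has none there and `L` none in degree `n`. -/
theorem isZero_cocone' (n : ℤ) (hK : IsZero (K.homology (n + 1))) (hL : IsZero (L.homology n)) :
    IsZero ((mappingCocone φ).homology (n + 1)) :=
  haveI : Epi (homologyMap φ n) := ⟨fun f g _ => hL.eq_of_src f g⟩
  isZero_cocone φ n hK

/-- `Hⁿ(cocone) → Hⁿ K` is injective when `Hⁿ⁻¹L` vanishes. -/
theorem mono_fst (n m : ℤ) (h : -1 + n = m) (hL : IsZero (L.homology m)) :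
    Mono (homologyMap (mappingCocone.fst φ) n) := by
  have hex := exact_of_dist (mappingCocone.triangle φ).rotate.rotate
    (rotate_dist _ (rotate_dist _ (cocone_dist φ))) m
  have h1 : Mono (homologyMap (-((mappingCocone.fst φ)⟦(1 : ℤ)⟧')) m) :=
    hex.mono_g (hL.eq_of_src _ _)
  have h2 := shiftHomologyIso_naturality (-(mappingCocone.fst φ)) 1 m n (by omega)
  rw [Functor.map_neg] at h2
  have h3 : Mono (homologyMap (-(mappingCocone.fst φ)) n) := by
    rw [← (Iso.inv_comp_eq _).2 h2]
    infer_instance
  rw [homologyMap_neg] at h3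
  exact ⟨fun f g hfg => h3.right_cancellation f g (by rw [Preadditive.comp_neg, Preadditive.comp_neg, hfg])⟩

section Map

variable {K' L' : CochainComplex C ℤ} {φ' : K' ⟶ L'} (a : K ⟶ K') (b : L ⟶ L') (comm : φ ≫ b = a ≫ φ')

/-- Functoriality of the cocone. -/
def coconeMap : mappingCocone φ ⟶ mappingCocone φ' := (mappingCone.map φ φ' a b comm)⟦(-1 : ℤ)⟧'

theorem coconeMap_fst : coconeMap φ a b comm ≫ mappingCocone.fst φ' = mappingCocone.fst φ ≫ a := by
  ext p
  show (mappingCone.map φ φ' a b comm).f (p + -1) ≫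
      (-(((mappingCone.fst φ').1.leftShift (-1) 0 (add_neg_cancel 1)).v p p (add_zero p))) =
    (-(((mappingCone.fst φ).1.leftShift (-1) 0 (add_neg_cancel 1)).v p p (add_zero p))) ≫ a.f p
  rw [HomComplex.Cochain.leftShift_v (n := 1) (mappingCone.fst φ).1 (-1) 0 (add_neg_cancel 1) p p
      (add_zero p) (p + -1) (by omega),
    HomComplex.Cochain.leftShift_v (n := 1) (mappingCone.fst φ').1 (-1) 0 (add_neg_cancel 1) p p
      (add_zero p) (p + -1) (by omega)]
  have key : (mappingCone.map φ φ' a b comm).f (p + -1) ≫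
      (mappingCone.fst φ').1.v (p + -1) p (by omega) =
        (mappingCone.fst φ).1.v (p + -1) p (by omega) ≫ a.f p := by
    simp [mappingCone.ext_from_iff _ p (p + -1) (by omega), mappingCone.map]
  simp [shiftFunctorObjXIso]
  erw [neg_neg, neg_neg, Category.id_comp, Category.id_comp]
  exact key

end Map

end LocCohLib
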