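import Groth.Agent.LocCohLib.CohDelta

/-! Degree zero, injectives, and existence of resolution systems. -/

set_option autoImplicit false
set_option maxHeartbeats 400000
universe v u

noncomputable section

open CategoryTheory Limits Opposite

namespace LocCohLib

variable {R : Type u} [CommRing R]

section Res

variable (X : ℕᵒᵖ ⥤ ModuleCat.{u} R)

/-- Resolutions in each degree. -/
def seqRes (n : ℕ) : ProjectiveResolution (X.obj (op n)) := projectiveResolution _

/-- The lifted system. -/
def seqP : ℕᵒᵖ ⥤ ChainComplex (ModuleCat.{u} R) ℕ :=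
  Functor.ofOpSequence (X := fun n => (seqRes X n).complex) (fun n => ProjectiveResolution.lift (X.map (homOfLE n.le_succ).op)
    (seqRes X (n + 1)) (seqRes X n))

/-- The augmentation. -/
def seqπ : seqP X ⟶ X ⋙ ChainComplex.single₀ (ModuleCat.{u} R) :=
  NatTrans.ofOpSequence (fun n => (seqRes X n).π) (fun n => by
    simp only [seqP, Functor.ofOpSequence_map_homOfLE_succ, Functor.comp_map]
    exact ProjectiveResolution.lift_commutes _ _ _)

/-- A resolution system of an `ℕᵒᵖ`-indexed system. -/
def seqSystem : ResSystem X where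
  res n := seqRes X n.unop
  map f := (seqP X).map f
  map_id d := (seqP X).map_id d
  map_comp f g := (seqP X).map_comp f g
  comm {d d'} f := by
    have h := HomologicalComplex.congr_hom ((seqπ X).naturality f) 0
    rw [HomologicalComplex.comp_f, HomologicalComplex.comp_f] at h
    refine h.trans ?_
    show (seqRes X d.unop).π.f 0 ≫ ((ChainComplex.single₀ _).map (X.map f)).f 0 = _
    rw [ChainComplex.single₀_map_f_zero]
    rfl

end Res

namespace ResSystem

variable {D : Type v} [SmallCategory D] {X : D ⥤ ModuleCat.{u} R} (S : ResSystem X)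

/-- The augmentation of the system of resolutions in degree zero. -/
def π₀ : S.P ⋙ HomologicalComplex.eval _ _ 0 ⟶ X where
  app d := (S.res d).π.f 0
  naturality _ _ f := S.comm f

/-- `Hom(X, M) ⟶ Hom(P₀, M)`. -/
def η (M : ModuleCat.{u} R) : X.op ⋙ (linearYoneda R _).obj M ⟶ (S.homCx M).X 0 :=
  Functor.whiskerRight (NatTrans.op S.π₀) ((linearYoneda R _).obj M)

theorem π₀_d (M : ModuleCat.{u} R) : S.η M ≫ (S.homCx M).d 0 1 = 0 := by
  apply NatTrans.ext; funext d
  ext (x : X.obj d.unop ⟶ M)
  show (S.res d.unop).complex.d 1 0 ≫ (S.res d.unop).π.f 0 ≫ x = 0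
  exact ((Category.assoc ((S.res d.unop).complex.d 1 0) ((S.res d.unop).π.f 0) x).symm.trans
    (congrArg (· ≫ x) (S.res d.unop).complex_d_comp_π_f_zero)).trans zero_comp

/-- `Hom(X, M)` to the zeroth homology. -/
def toH₀ (M : ModuleCat.{u} R) :
    X.op ⋙ (linearYoneda R _).obj M ⟶ (S.homCx M).homology 0 :=
  (S.homCx M).liftCycles (S.η M) 1 (by simp) (S.π₀_d M) ≫ (S.homCx M).homologyπ 0

theorem isIso_toH₀ (M : ModuleCat.{u} R) : IsIso (S.toH₀ M) := by
  let η := S.η M
  have hex : (ShortComplex.mk η ((S.homCx M).d 0 1) (S.π₀_d M)).Exact :=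
    exact_of_eval fun d => (ShortComplex.moduleCat_exact_iff _).2 fun (x : (S.res d.unop).complex.X 0 ⟶ M) hx =>
      ⟨((S.res d.unop).exact₀).desc x hx, ((S.res d.unop).exact₀).g_desc x hx⟩
  have hmono : ∀ d, Mono (η.app d) := fun d =>
    (ModuleCat.mono_iff_injective _).2 fun (x y : X.obj d.unop ⟶ M) hxy =>
      (cancel_epi ((S.res d.unop).π.f 0)).1 hxy
  have : Mono η := NatTrans.mono_of_mono_app _
  let l := (S.homCx M).liftCycles η 1 (by simp) (S.π₀_d M)
  have hl : l ≫ (S.homCx M).iCycles 0 = η := HomologicalComplex.liftCycles_i _ _ _ _ _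
  have : IsIso l := by
    refine ⟨hex.lift ((S.homCx M).iCycles 0) (HomologicalComplex.iCycles_d _ 0 1), ?_, ?_⟩
    · rw [← cancel_mono η, Category.assoc]
      refine (congrArg (l ≫ ·) (hex.lift_f _ _)).trans ?_
      exact hl.trans (Category.id_comp η).symm
    · rw [← cancel_mono ((S.homCx M).iCycles 0), Category.assoc, hl, Category.id_comp]
      exact hex.lift_f _ _
  have : IsIso ((S.homCx M).homologyπ 0) := CochainComplex.isIso_homologyπ₀ _
  exact inferInstanceAs (IsIso (l ≫ (S.homCx M).homologyπ 0))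

/-- Degree zero: the system of `Hom`. -/
def h₀Iso : (X.op ⋙ linearCoyoneda R _).flip ≅
    S.homCxFunctor ⋙ HomologicalComplex.homologyFunctor _ _ 0 :=
  NatIso.ofComponents (fun M => @asIso _ _ _ _ (S.toH₀ M) (S.isIso_toH₀ M)) (fun {M N} g => by
    show Functor.whiskerLeft X.op ((linearYoneda R _).map g) ≫ S.toH₀ N =
      S.toH₀ M ≫ HomologicalComplex.homologyMap (S.homCxMap g) 0
    simp only [toH₀, Category.assoc, HomologicalComplex.homologyπ_naturality]
    rw [← Category.assoc, ← Category.assoc]
    congr 1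
    rw [← cancel_mono ((S.homCx N).iCycles 0)]
    simp only [Category.assoc, HomologicalComplex.cyclesMap_i,
      HomologicalComplex.liftCycles_i, HomologicalComplex.liftCycles_i_assoc]
    apply NatTrans.ext; funext d
    ext (x : _ ⟶ M)
    exact (Category.assoc ((S.res d.unop).π.f 0) x g).symm)

variable [HasColimitsOfShape Dᵒᵖ (ModuleCat.{u} R)]

/-- `coh 0` is the colimit of `Hom`. -/
def cohZeroIso : (X.op ⋙ linearCoyoneda R _).flip ⋙ colim ≅ S.coh 0 :=
  Functor.isoWhiskerRight S.h₀Iso colim

variable [HasExactColimitsOfShape Dᵒᵖ (ModuleCat.{u} R)]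

theorem effaceable : S.deltaFun.Effaceable := by
  intro E hE i
  refine Functor.map_isZero colim ?_
  refine (HomologicalComplex.exactAt_iff_isZero_homology _ _).1 ?_
  rw [HomologicalComplex.exactAt_iff' _ i (i + 1) (i + 2) (by simp) (by simp)]
  refine exact_of_eval fun d => (ShortComplex.moduleCat_exact_iff _).2
    fun (x : (S.res d.unop).complex.X (i + 1) ⟶ E) hx => ?_
  exact ⟨((S.res d.unop).exact_succ i).descToInjective x hx,
    ((S.res d.unop).exact_succ i).comp_descToInjective x hx⟩

end ResSystem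

end LocCohLib
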