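import Groth.Agent.LocCohLib.Model
import Groth.Agent.LocCohLib.Delta
import Mathlib.Algebra.Homology.HomologySequenceLemmas
import Mathlib.Algebra.Homology.ShortComplex.ModuleCat
import Mathlib.Algebra.Category.ModuleCat.EnoughInjectives

/-! The delta functor structure on a colimit of `Ext`. -/

set_option autoImplicit false
set_option maxHeartbeats 400000
universe v u

noncomputable section

open CategoryTheory Limits Opposite

namespace LocCohLib

section FunctorCat

variable {J : Type*} [Category J] {E : Type*} [Category E] [Abelian E]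

theorem exact_of_eval {S : ShortComplex (J ⥤ E)}
    (h : ∀ j, (S.map ((evaluation J E).obj j)).Exact) : S.Exact := by
  rw [ShortComplex.exact_iff_isZero_homology, Functor.isZero_iff]
  intro j
  exact IsZero.of_iso ((ShortComplex.exact_iff_isZero_homology _).1 (h j))
    (S.mapHomologyIso ((evaluation J E).obj j)).symm

theorem shortExact_of_eval {S : ShortComplex (J ⥤ E)}
    (h : ∀ j, (S.map ((evaluation J E).obj j)).ShortExact) : S.ShortExact where
  exact := exact_of_eval fun j => (h j).exact
  mono_f := haveI : ∀ j, Mono (S.f.app j) := fun j => (h j).mono_f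
    NatTrans.mono_of_mono_app _
  epi_g := haveI : ∀ j, Epi (S.g.app j) := fun j => (h j).epi_g
    NatTrans.epi_of_epi_app _

end FunctorCat

/-- `Hom(P, -)` of a short exact sequence, for projective `P`. -/
theorem shortExact_hom {R : Type u} [CommRing R] (P : ModuleCat.{u} R) [Projective P]
    {T : ShortComplex (ModuleCat.{u} R)} (hT : T.ShortExact)
    (w : ((linearYoneda R _).map T.f).app (op P) ≫ ((linearYoneda R _).map T.g).app (op P) = 0) :
    (ShortComplex.mk (((linearYoneda R _).map T.f).app (op P))
      (((linearYoneda R _).map T.g).app (op P)) w).ShortExact := by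
  have := hT.mono_f
  have := hT.epi_g
  exact
    { exact := (ShortComplex.moduleCat_exact_iff _).2 fun (x : P ⟶ T.X₂) hx =>
        ⟨hT.exact.lift x hx, hT.exact.lift_f x hx⟩
      mono_f := (ModuleCat.mono_iff_injective _).2 fun (x y : P ⟶ T.X₁) hxy => (cancel_mono T.f).1 hxy
      epi_g := (ModuleCat.epi_iff_surjective _).2 fun (x : P ⟶ T.X₃) =>
        ⟨Projective.factorThru x T.g, Projective.factorThru_comp x T.g⟩ }

theorem mono_homologyMap_zero {V : Type*} [Category V] [Abelian V] {K L : CochainComplex V ℕ}
    (φ : K ⟶ L) [Mono (φ.f 0)] : Mono (HomologicalComplex.homologyMap φ 0) := by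
  have h := CochainComplex.isoHomologyπ₀_inv_naturality φ
  have : Mono (HomologicalComplex.cyclesMap φ 0) := by
    have : Mono (HomologicalComplex.cyclesMap φ 0 ≫ L.iCycles 0) := by
      rw [HomologicalComplex.cyclesMap_i]; infer_instance
    exact mono_of_mono _ (L.iCycles 0)
  have : Mono (HomologicalComplex.homologyMap φ 0 ≫ L.isoHomologyπ₀.inv) := by
    rw [h]; infer_instance
  exact mono_of_mono _ L.isoHomologyπ₀.inv

variable {R : Type u} [CommRing R] {D : Type v} [SmallCategory D] {X : D ⥤ ModuleCat.{u} R}
  (S : ResSystem X)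

theorem upRel (i : ℕ) : (ComplexShape.up ℕ).Rel i (i + 1) := rfl

namespace ResSystem

instance : S.homCxFunctor.PreservesZeroMorphisms where
  map_zero M N := by
    ext j : 1
    apply NatTrans.ext; funext d
    ext (x : _ ⟶ M)
    exact (comp_zero (f := x) (Z := N))

theorem shortExact_homCx {T : ShortComplex (ModuleCat.{u} R)} (hT : T.ShortExact) :
    (T.map S.homCxFunctor).ShortExact := by
  refine HomologicalComplex.shortExact_of_degreewise_shortExact (T.map S.homCxFunctor) fun j => ?_
  refine shortExact_of_eval fun d => ?_
  exact shortExact_hom ((S.res d.unop).complex.X j) hT _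

variable [HasColimitsOfShape Dᵒᵖ (ModuleCat.{u} R)] [HasExactColimitsOfShape Dᵒᵖ (ModuleCat.{u} R)]

/-- The delta functor `i ↦ coh i`. -/
def deltaFun : DeltaFun (ModuleCat.{u} R) (ModuleCat.{u} R) where
  F i := S.coh i
  preservesZero i := by unfold coh; infer_instance
  δ hT i := colim.map ((S.shortExact_homCx hT).δ i (i + 1) (upRel i))
  δ_natural hT hT' φ i := by
    refine ((colim.map_comp _ _).symm.trans (congrArg colim.map ?_)).trans (colim.map_comp _ _)
    exact (HomologicalComplex.HomologySequence.δ_naturality
      (S.homCxFunctor.mapShortComplex.map φ) (S.shortExact_homCx hT) (S.shortExact_homCx hT') i (i + 1) (upRel i))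
  map_comp_δ hT i := by
    refine ((colim.map_comp _ _).symm.trans (congrArg colim.map ?_)).trans (colim.map_zero _ _)
    exact ((S.shortExact_homCx hT).comp_δ i (i + 1) (upRel i))
  δ_comp_map hT i := by
    refine ((colim.map_comp _ _).symm.trans (congrArg colim.map ?_)).trans (colim.map_zero _ _)
    exact ((S.shortExact_homCx hT).δ_comp i (i + 1) (upRel i))
  exact₁ hT i := ((S.shortExact_homCx hT).homology_exact₁ i (i + 1) (upRel i)).map colim
  exact₂ hT i := ((S.shortExact_homCx hT).homology_exact₂ i).map colim
  exact₃ hT i := ((S.shortExact_homCx hT).homology_exact₃ i (i + 1) (upRel i)).map colim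
  mono₀ {T} hT := by
    have := hT.mono_f
    have h := S.shortExact_homCx hT
    have := h.mono_f
    have : Mono (HomologicalComplex.homologyMap (T.map S.homCxFunctor).f 0) := mono_homologyMap_zero _
    exact inferInstanceAs (Mono (colim.map (HomologicalComplex.homologyMap (T.map S.homCxFunctor).f 0)))

end ResSystem

end LocCohLib
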