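import Groth.Agent.LocCohLib.ChangeSupport
import Groth.Agent.LocCohLib.BaseChange

/-! Derivations act on local cohomology. -/

set_option autoImplicit false
set_option linter.style.haveILetI false
set_option maxHeartbeats 800000
universe u

noncomputable section

open CategoryTheory Limits

namespace LocCohLib.DerivAct

variable {A : Type u} [CommRing A] (θ : Derivation ℤ A A)

/-- first jets of a module along a derivation -/
def Jet (_θ : Derivation ℤ A A) (M : Type u) : Type u := M × M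

instance (M : Type u) [AddCommGroup M] : AddCommGroup (Jet θ M) := inferInstanceAs (AddCommGroup (M × M))

variable {θ}

def Jet.mk {M : Type u} (x y : M) : Jet θ M := (x, y)

def Jet.x {M : Type u} (z : Jet θ M) : M := Prod.fst z

def Jet.y {M : Type u} (z : Jet θ M) : M := Prod.snd z

theorem Jet.ext' {M : Type u} {z w : Jet θ M} (h1 : z.x = w.x) (h2 : z.y = w.y) : z = w := Prod.ext h1 h2

@[simp] theorem Jet.add_x {M : Type u} [AddCommGroup M] (z w : Jet θ M) : (z + w).x = z.x + w.x := rfl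
@[simp] theorem Jet.add_y {M : Type u} [AddCommGroup M] (z w : Jet θ M) : (z + w).y = z.y + w.y := rfl
@[simp] theorem Jet.zero_x {M : Type u} [AddCommGroup M] : (0 : Jet θ M).x = 0 := rfl
@[simp] theorem Jet.zero_y {M : Type u} [AddCommGroup M] : (0 : Jet θ M).y = 0 := rfl
@[simp] theorem Jet.mk_x {M : Type u} (x y : M) : (Jet.mk (θ := θ) x y).x = x := rfl
@[simp] theorem Jet.mk_y {M : Type u} (x y : M) : (Jet.mk (θ := θ) x y).y = y := rfl

instance (M : Type u) [AddCommGroup M] [Module A M] : SMul A (Jet θ M) :=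
  ⟨fun a z => Jet.mk (a • z.x) (a • z.y + θ a • z.x)⟩

@[simp] theorem Jet.smul_x {M : Type u} [AddCommGroup M] [Module A M] (a : A) (z : Jet θ M) :
    (a • z).x = a • z.x := rfl

@[simp] theorem Jet.smul_y {M : Type u} [AddCommGroup M] [Module A M] (a : A) (z : Jet θ M) :
    (a • z).y = a • z.y + θ a • z.x := rfl

instance (M : Type u) [AddCommGroup M] [Module A M] : Module A (Jet θ M) where
  one_smul z := Jet.ext' (by simp) (by simp)
  mul_smul a b z := Jet.ext' (by simp [mul_smul]) (by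
    simp only [Jet.smul_y, Jet.smul_x, Derivation.leibniz, smul_eq_mul, add_smul, smul_add, smul_smul]
    rw [mul_comm b (θ a)]
    abel)
  smul_zero a := Jet.ext' (by simp) (by simp)
  smul_add a z w := Jet.ext' (by simp [smul_add]) (by simp [smul_add]; abel)
  add_smul a b z := Jet.ext' (by simp [add_smul]) (by simp [add_smul]; abel)
  zero_smul z := Jet.ext' (by simp) (by simp)

variable (θ)

/-- the jet functor -/
def jetF : ModuleCat.{u} A ⥤ ModuleCat.{u} A where
  obj M := ModuleCat.of A (Jet θ M)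
  map {M N} f := ModuleCat.ofHom (X := Jet θ M) (Y := Jet θ N)
    { toFun := fun z => Jet.mk (f.hom z.x) (f.hom z.y)
      map_add' := fun z w => Jet.ext' (by simp) (by simp)
      map_smul' := fun a z => Jet.ext' (by simp) (by simp) }
  map_id M := by ext z; exact Jet.ext' (θ := θ) rfl rfl
  map_comp f g := by ext z; exact Jet.ext' (θ := θ) rfl rfl

instance : (jetF θ).Additive where
  map_add {M N f g} := by ext z; exact Jet.ext' (θ := θ) rfl rfl

theorem map_exact_jetF (S : ShortComplex (ModuleCat.{u} A)) (hS : S.Exact) : (S.map (jetF θ)).Exact := by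
  have h := (ShortComplex.ShortExact.moduleCat_exact_iff_function_exact _).1 hS
  refine (ShortComplex.ShortExact.moduleCat_exact_iff_function_exact _).2 fun z => ⟨fun hz => ?_, ?_⟩
  · obtain ⟨a, ha⟩ := (h (Jet.x (θ := θ) z)).1 (congrArg (Jet.x (θ := θ)) hz)
    obtain ⟨b, hb⟩ := (h (Jet.y (θ := θ) z)).1 (congrArg (Jet.y (θ := θ)) hz)
    exact ⟨Jet.mk (θ := θ) a b, Jet.ext' (θ := θ) ha hb⟩
  · rintro ⟨w, rfl⟩
    exact Jet.ext' (θ := θ) ((h _).2 ⟨_, rfl⟩) ((h _).2 ⟨_, rfl⟩)

instance : PreservesFiniteLimits (jetF θ) := by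
  have h := ((Functor.exact_tfae (jetF θ)).out 1 3).mp (map_exact_jetF θ)
  exact h.1

instance : PreservesFiniteColimits (jetF θ) := by
  have h := ((Functor.exact_tfae (jetF θ)).out 1 3).mp (map_exact_jetF θ)
  exact h.2

/-- first projection -/
def pr : jetF θ ⟶ 𝟭 (ModuleCat.{u} A) where
  app M := ModuleCat.ofHom (X := Jet θ M) (Y := (M : Type u))
    { toFun := Jet.x, map_add' := fun _ _ => rfl, map_smul' := fun _ _ => rfl }
  naturality M N f := by ext z; rfl

/-- the second inclusion -/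
def incl (M : ModuleCat.{u} A) : M ⟶ (jetF θ).obj M :=
  ModuleCat.ofHom (X := (M : Type u)) (Y := Jet θ M)
    { toFun := fun m => Jet.mk 0 m
      map_add' := fun _ _ => Jet.ext' (by simp) (by simp)
      map_smul' := fun a m => Jet.ext' (by simp) (by simp) }

theorem incl_pr (M : ModuleCat.{u} A) : incl θ M ≫ (pr θ).app M = 0 := rfl

theorem shortExact_incl_pr (M : ModuleCat.{u} A) : (ShortComplex.mk _ _ (incl_pr θ M)).ShortExact where
  exact := (ShortComplex.ShortExact.moduleCat_exact_iff_function_exact _).2 fun z =>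
    ⟨fun hz => ⟨Jet.y (θ := θ) z, Jet.ext' (θ := θ) hz.symm rfl⟩, by rintro ⟨m, rfl⟩; rfl⟩
  mono_f := (ModuleCat.mono_iff_injective _).2 fun m n h => congrArg (Jet.y (θ := θ)) h
  epi_g := (ModuleCat.epi_iff_surjective _).2 fun m => ⟨Jet.mk (θ := θ) m 0, rfl⟩

variable [IsNoetherianRing A] (I : Ideal A)

/-- local cohomology of jets -/
def lcJet : DeltaFun (ModuleCat.{u} A) (ModuleCat.{u} A) :=
  (lcDelta I).precomp (jetF θ) fun hS => hS.map_of_exact _

theorem lcJet_effaceable : (lcJet θ I).Effaceable := by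
  intro E hE i
  haveI := (lcDelta I).preservesZero (i + 1)
  exact ((lcDelta I).exact₂ (shortExact_incl_pr θ E) (i + 1)).isZero_of_both_zeros
    ((lcDelta_effaceable I E hE i).eq_of_src _ _) ((lcDelta_effaceable I E hE i).eq_of_tgt _ _)

/-- jets of local cohomology -/
def jetLc : DeltaFun (ModuleCat.{u} A) (ModuleCat.{u} A) := (lcDelta I).postcomp (jetF θ)

theorem derivation_mem_pow {n : ℕ} {a : A} (ha : a ∈ I ^ (n + 1)) : θ a ∈ I ^ n := by
  induction n generalizing a with
  | zero => simp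
  | succ n ih =>
    rw [pow_succ] at ha
    refine Submodule.mul_induction_on ha (fun b hb c hc => ?_) (fun b c hb hc => by rw [map_add]; exact add_mem hb hc)
    rw [Derivation.leibniz, smul_eq_mul, smul_eq_mul]
    refine add_mem (Ideal.mul_mem_right _ _ hb) ?_
    rw [pow_succ, mul_comm (I ^ n)]
    exact Ideal.mul_mem_mul hc (ih hb)

/-- torsion commutes with jets -/
def gammaJet (M : ModuleCat.{u} A) :
    Jet θ (DRing.torsionSub I M) ≃ₗ[A] DRing.torsionSub I (Jet θ M) where
  toFun z := ⟨Jet.mk z.x.1 z.y.1, by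
    obtain ⟨n, hn⟩ := z.x.2
    obtain ⟨m, hm⟩ := z.y.2
    refine ⟨n + m + 1, fun a ha => Jet.ext' ?_ ?_⟩
    · exact hn a (Ideal.pow_le_pow_right (by omega) ha)
    · show a • z.y.1 + θ a • z.x.1 = 0
      rw [hm a (Ideal.pow_le_pow_right (by omega) ha),
        hn _ (Ideal.pow_le_pow_right (by omega) (derivation_mem_pow θ I ha)), add_zero]⟩
  invFun z := Jet.mk ⟨z.1.x, by
      obtain ⟨n, hn⟩ := z.2
      exact ⟨n, fun a ha => congrArg (Jet.x (θ := θ)) (hn a ha)⟩⟩ ⟨z.1.y, by
      obtain ⟨n, hn⟩ := z.2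
      refine ⟨n + n, fun a ha => ?_⟩
      rw [pow_add] at ha
      refine Submodule.mul_induction_on ha (fun b hb c hc => ?_)
        (fun b c hb hc => by rw [add_smul, hb, hc, add_zero])
      have h1 : c • z.1.y + θ c • z.1.x = 0 := congrArg (Jet.y (θ := θ)) (hn c hc)
      have h2 : b • z.1.x = 0 := congrArg (Jet.x (θ := θ)) (hn b hb)
      rw [mul_smul, eq_neg_of_add_eq_zero_left h1, smul_neg, smul_comm, h2, smul_zero, neg_zero]⟩
  map_add' z w := Subtype.ext (Jet.ext' (θ := θ) rfl rfl)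
  map_smul' a z := Subtype.ext (Jet.ext' (θ := θ) rfl rfl)
  left_inv z := Jet.ext' (θ := θ) rfl rfl
  right_inv z := rfl

/-- natural version -/
def gammaJetIso : DRing.gammaI I ⋙ jetF θ ≅ jetF θ ⋙ DRing.gammaI I :=
  NatIso.ofComponents (fun M => (gammaJet θ I M).toModuleIso) (fun f => by ext z; rfl)

/-- the comparison in degree zero -/
def iso₀ : (jetLc θ I).F 0 ≅ (lcJet θ I).F 0 :=
  Functor.isoWhiskerRight (lcZeroIso I) _ ≪≫ gammaJetIso θ I ≪≫
    (Functor.isoWhiskerLeft (jetF θ) (lcZeroIso I)).symm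

/-- the comparison -/
def iso (i : ℕ) : (jetLc θ I).F i ≅ (lcJet θ I).F i :=
  DeltaFun.isoOfZero ((lcDelta_effaceable I).postcomp _) (lcJet_effaceable θ I) (iso₀ θ I) i

theorem zero_pr (M : ModuleCat.{u} A) :
    (((jetF θ).map ((lcZeroIso I).hom.app M) ≫ (gammaJetIso θ I).hom.app M) ≫
      (lcZeroIso I).inv.app ((jetF θ).obj M)) ≫ (localCohomology I 0).map ((pr θ).app M) =
    (pr θ).app ((localCohomology I 0).obj M) := by
  have h1 : (gammaJetIso θ I).hom.app M ≫ (DRing.gammaI I).map ((pr θ).app M) =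
      (pr θ).app ((DRing.gammaI I).obj M) := by ext z; rfl
  have h2 : (lcZeroIso I).inv.app ((jetF θ).obj M) ≫ (localCohomology I 0).map ((pr θ).app M) =
      (DRing.gammaI I).map ((pr θ).app M) ≫ (lcZeroIso I).inv.app M :=
    ((lcZeroIso I).inv.naturality ((pr θ).app M)).symm
  have h3 : (jetF θ).map ((lcZeroIso I).hom.app M) ≫ (pr θ).app ((DRing.gammaI I).obj M) =
      (pr θ).app ((localCohomology I 0).obj M) ≫ (lcZeroIso I).hom.app M :=
    (pr θ).naturality _
  rw [Category.assoc, h2, Category.assoc, reassoc_of% h1, reassoc_of% h3, Iso.hom_inv_id_app]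
  exact Category.comp_id _

theorem iso_hom_pr (i : ℕ) (M : ModuleCat.{u} A) :
    (iso θ I i).hom.app M ≫ ((lcDelta I).F i).map ((pr θ).app M) = (pr θ).app (((lcDelta I).F i).obj M) := by
  have hP : (jetLc θ I).Effaceable := (lcDelta_effaceable I).postcomp _
  let α : ∀ i, (jetLc θ I).F i ⟶ (lcDelta I).F i := fun i => Functor.whiskerLeft ((lcDelta I).F i) (pr θ)
  let γ : ∀ i, (lcJet θ I).F i ⟶ (lcDelta I).F i := fun i => Functor.whiskerRight (pr θ) ((lcDelta I).F i)
  have hα : DeltaFun.UnderCompat α := fun M i => (pr θ).naturality ((lcDelta I).δ (DeltaFun.under_shortExact M) i)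
  have hγ : DeltaFun.UnderCompat γ := fun M i => by
    let S := DeltaFun.under (ModuleCat.{u} A) M
    let φ : S.map (jetF θ) ⟶ S :=
      { τ₁ := (pr θ).app _
        τ₂ := (pr θ).app _
        τ₃ := (pr θ).app _
        comm₁₂ := ((pr θ).naturality S.f).symm
        comm₂₃ := ((pr θ).naturality S.g).symm }
    exact (lcDelta I).δ_natural ((DeltaFun.under_shortExact M).map_of_exact _) (DeltaFun.under_shortExact M) φ i
  have hβ : DeltaFun.UnderCompat (fun i => (iso θ I i).hom ≫ γ i) :=
    (DeltaFun.underCompat_isoOfZero _ _ (iso₀ θ I)).comp hγ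
  have h0 : (iso θ I 0).hom ≫ γ 0 = α 0 := by
    ext M : 2
    exact Eq.trans (congrArg (· ≫ (localCohomology I 0).map ((pr θ).app M)) (Category.assoc _ _ _).symm) (zero_pr θ I M)
  have := congrArg (fun t => NatTrans.app t M) (DeltaFun.UnderCompat.ext hP hβ hα h0 i)
  exact this

/-- the jet of an element -/
def jetOne : ModuleCat.of A A ⟶ (jetF θ).obj (ModuleCat.of A A) :=
  ModuleCat.ofHom (X := A) (Y := Jet θ A)
    { toFun := fun a => Jet.mk a (θ a)
      map_add' := fun a b => Jet.ext' (by simp) (by simp)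
      map_smul' := fun a b => Jet.ext' (by simp) (by
        simp [Derivation.leibniz, smul_eq_mul, mul_comm]) }

theorem exists_operator (i : ℕ) :
    ∃ D : ((lcDelta I).F i).obj (ModuleCat.of A A) →+ ((lcDelta I).F i).obj (ModuleCat.of A A),
      ∀ (a : A) (ξ : ((lcDelta I).F i).obj (ModuleCat.of A A)), D (a • ξ) = θ a • ξ + a • D ξ := by
  let H := ((lcDelta I).F i).obj (ModuleCat.of A A)
  let Φ : H ⟶ (jetF θ).obj H := ((lcDelta I).F i).map (jetOne θ) ≫ (iso θ I i).inv.app (ModuleCat.of A A)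
  have hfst : Φ ≫ (pr θ).app H = 𝟙 H := by
    have h1 : (iso θ I i).inv.app (ModuleCat.of A A) ≫ (pr θ).app H =
        ((lcDelta I).F i).map ((pr θ).app (ModuleCat.of A A)) :=
      (congrArg ((iso θ I i).inv.app (ModuleCat.of A A) ≫ ·) (iso_hom_pr θ I i (ModuleCat.of A A)).symm).trans
        ((iso θ I i).inv_hom_id_app_assoc _ _)
    have h2 : jetOne θ ≫ (pr θ).app (ModuleCat.of A A) = 𝟙 _ := by ext; rfl
    exact (Category.assoc _ _ _).trans ((congrArg (((lcDelta I).F i).map (jetOne θ) ≫ ·) h1).trans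
      ((((lcDelta I).F i).map_comp _ _).symm.trans ((congrArg ((lcDelta I).F i).map h2).trans (((lcDelta I).F i).map_id _))))
  let f : H →ₗ[A] Jet θ H := Φ.hom
  have hx : ∀ ξ, (f ξ).x = ξ := fun ξ => congrArg (fun g => g.hom ξ) hfst
  refine ⟨{ toFun := fun ξ => (f ξ).y, map_zero' := by simp, map_add' := fun ξ η => by simp }, fun a ξ => ?_⟩
  show (f (a • ξ)).y = θ a • ξ + a • (f ξ).y
  rw [map_smul, Jet.smul_y, hx, add_comm]

end LocCohLib.DerivAct
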