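import Mathlib.CategoryTheory.Abelian.Ext
import Mathlib.Algebra.Homology.Opposite
import Mathlib.Algebra.Category.ModuleCat.Projective

/-! Naturality of `ProjectiveResolution.isoExt`. -/

set_option autoImplicit false
set_option maxHeartbeats 400000
universe w v u

noncomputable section

open CategoryTheory Limits Opposite

namespace LocCohLib

section Unop

variable {V : Type u} [Category.{v} V] [Preadditive V] {ι : Type*} {c : ComplexShape ι}
  [CategoryWithHomology V] [CategoryWithHomology Vᵒᵖ]

theorem homologyUnop_naturality {K L : HomologicalComplex Vᵒᵖ c} (α : K ⟶ L) (i : ι) :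
    HomologicalComplex.homologyMap ((HomologicalComplex.unopFunctor V c).map α.op) i ≫
      (K.homologyUnop i).hom =
    (L.homologyUnop i).hom ≫ (HomologicalComplex.homologyMap α i).unop := by
  have h := HomologicalComplex.homologyOp_hom_naturality
    ((HomologicalComplex.unopFunctor V c).map α.op) i
  exact (congrArg Quiver.Hom.unop h).symm

theorem square_aux {E : Type*} [Category E] {A A' B B' C C' : E} (L : A ⟶ A') (a : A ≅ B)
    (a' : A' ≅ B') (u : C ≅ B) (u' : C' ≅ B') (m : C ⟶ C') (b : B ⟶ B')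
    (hL : L ≫ a'.hom = a.hom ≫ b) (hU : m ≫ u'.hom = u.hom ≫ b) :
    L ≫ (a' ≪≫ u'.symm).hom = (a ≪≫ u.symm).hom ≫ m := by
  have hm : m = u.hom ≫ b ≫ u'.inv := by rw [← Category.assoc, ← hU]; simp
  simp [hm, reassoc_of% hL]

end Unop

variable (R : Type w) [CommRing R] {C : Type u} [Category.{v} C] [Abelian C] [Linear R C]
  [EnoughProjectives C]

/-- `Hom(P, g)`. -/
def yonedaObjMapY (P : ChainComplex C ℕ) {Y Y' : C} (g : Y ⟶ Y') :
    P.linearYonedaObj R Y ⟶ P.linearYonedaObj R Y' :=
  (HomologicalComplex.unopFunctor (ModuleCat.{v} R) (ComplexShape.down ℕ)).map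
    ((NatTrans.mapHomologicalComplex (((linearYoneda R C).map g).rightOp) _).app P).op

/-- `Hom(φ, Y)`. -/
def yonedaObjMapX {P Q : ChainComplex C ℕ} (φ : P ⟶ Q) (Y : C) :
    Q.linearYonedaObj R Y ⟶ P.linearYonedaObj R Y :=
  (HomologicalComplex.unopFunctor (ModuleCat.{v} R) (ComplexShape.down ℕ)).map
    ((((linearYoneda R C).obj Y).rightOp.mapHomologicalComplex _).map φ).op

variable {R}

theorem isoExt_naturality_right {X : C} (P : ProjectiveResolution X) (n : ℕ) {Y Y' : C} (g : Y ⟶ Y') :
    ((Ext R C n).obj (op X)).map g ≫ (P.isoExt n Y').hom =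
      (P.isoExt (R := R) n Y).hom ≫
        HomologicalComplex.homologyMap (yonedaObjMapY R P.complex g) n := by
  refine square_aux _ _ _ _ _ _ _ ?_ (homologyUnop_naturality
    ((NatTrans.mapHomologicalComplex (((linearYoneda R C).map g).rightOp) _).app P.complex) n)
  apply Quiver.Hom.op_inj
  show (P.isoLeftDerivedObj _ n).inv ≫ (NatTrans.leftDerived (((linearYoneda R C).map g).rightOp) n).app X =
    HomologicalComplex.homologyMap _ n ≫ (P.isoLeftDerivedObj _ n).inv
  rw [ProjectiveResolution.leftDerived_app_eq _ P]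
  simp
  rfl

theorem isoExt_naturality_left {X X' : C} (f : X ⟶ X') (P : ProjectiveResolution X)
    (Q : ProjectiveResolution X') (φ : P.complex ⟶ Q.complex)
    (comm : φ.f 0 ≫ Q.π.f 0 = P.π.f 0 ≫ f) (n : ℕ) (Y : C) :
    ((Ext R C n).map f.op).app Y ≫ (P.isoExt n Y).hom =
      (Q.isoExt (R := R) n Y).hom ≫
        HomologicalComplex.homologyMap (yonedaObjMapX R φ Y) n := by
  refine square_aux _ _ _ _ _ _ _ ?_ (homologyUnop_naturality
    ((((linearYoneda R C).obj Y).rightOp.mapHomologicalComplex _).map φ) n)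
  apply Quiver.Hom.op_inj
  exact ProjectiveResolution.isoLeftDerivedObj_inv_naturality f P Q φ comm
    ((linearYoneda R C).obj Y).rightOp n

end LocCohLib
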