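import Groth.Agent.LocCohLib.CohDim
import Groth.Prelude.Def_DualLC

/-! Change of support. -/

set_option autoImplicit false
set_option maxHeartbeats 1000000
universe u

noncomputable section

open CategoryTheory Limits Opposite

namespace LocCohLib

variable {R : Type u} [CommRing R] {I I' : Ideal R} (h : I ≤ I')

/-- The map of resolutions. -/
def supP : (lcSystem I).P ⟶ (lcSystem I').P := funSystemMap (Dual2.quotMapOfLE h)

/-- The map of the `Hom` complexes. -/
def cxNat : (lcSystem I').homCxFunctor ⟶ (lcSystem I).homCxFunctor where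
  app M :=
    { f := fun j => Functor.whiskerRight
        (NatTrans.op (Functor.whiskerRight (supP h) (HomologicalComplex.eval _ _ j))) ((linearYoneda R _).obj M)
      comm' := fun i j _ => by
        apply NatTrans.ext; funext d
        exact (yonedaObjMapX R ((supP h).app d.unop) M).comm i j }
  naturality M N g := by
    ext j : 1
    apply NatTrans.ext; funext d
    ext (x : _ ⟶ M)
    exact (Category.assoc (((supP h).app d.unop).f j) x g).symm

theorem square_transport {C : Type*} [Category C] {A A' B B' P Q P' Q' : C} (a : A ⟶ A') {δ₁ : A' ⟶ B'}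
    (b : B ≅ B') {m : B' ⟶ Q'} (c : Q ≅ Q') {n : A' ⟶ P'} (d : P ≅ P') {δ₂ : P' ⟶ Q'}
    (e : δ₁ ≫ m = n ≫ δ₂) :
    (a ≫ δ₁ ≫ b.inv) ≫ b.hom ≫ m ≫ c.inv = (a ≫ n ≫ d.inv) ≫ d.hom ≫ δ₂ ≫ c.inv := by
  simp [reassoc_of% e]

theorem ext_square (i : ℕ) :
    (flipFunctor _ _ _).map (Functor.whiskerRight (NatTrans.op (Dual2.quotMapOfLE h)) (Ext R (ModuleCat.{u} R) i)) ≫
        ((lcSystem I).extIso i).hom =
      ((lcSystem I').extIso i).hom ≫
        Functor.whiskerRight (cxNat h) (HomologicalComplex.homologyFunctor _ _ i) := by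
  apply NatTrans.ext; funext M
  apply NatTrans.ext; funext d
  exact square_trans
    (isoExt_naturality_left (R := R) ((Dual2.quotMapOfLE h).app d.unop) ((lcSystem I).res d.unop)
      ((lcSystem I').res d.unop) ((supP h).app d.unop)
      (funSystemMap_comm (Dual2.quotMapOfLE h) d.unop) i M)
    (ShortComplex.mapHomologyIso_hom_naturality
      ((HomologicalComplex.shortComplexFunctor _ _ i).map ((cxNat h).app M))
      ((evaluation ℕᵒᵖᵒᵖ (ModuleCat.{u} R)).obj d))

theorem HmapOfLE_lcIso (i : ℕ) :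
    Dual2.HmapOfLE h i ≫ (lcIso I i).hom =
      (lcIso I' i).hom ≫
        Functor.whiskerRight (Functor.whiskerRight (cxNat h) (HomologicalComplex.homologyFunctor _ _ i)) colim := by
  have h1 : colimMap (Functor.whiskerRight (NatTrans.op (Dual2.quotMapOfLE h)) (Ext R (ModuleCat.{u} R) i)) ≫
      (colimitIsoFlipCompColim ((quotSystem I).op ⋙ Ext R (ModuleCat.{u} R) i)).hom =
      (colimitIsoFlipCompColim ((quotSystem I').op ⋙ Ext R (ModuleCat.{u} R) i)).hom ≫
        Functor.whiskerRight ((flipFunctor _ _ _).map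
          (Functor.whiskerRight (NatTrans.op (Dual2.quotMapOfLE h)) (Ext R (ModuleCat.{u} R) i))) colim :=
    colimIsoFlipCompWhiskerColim.hom.naturality _
  show _ ≫ (_ ≫ Functor.whiskerRight ((lcSystem I).extIso i).hom colim) =
    (_ ≫ Functor.whiskerRight ((lcSystem I').extIso i).hom colim) ≫ _
  rw [← Category.assoc]
  refine (congrArg (· ≫ _) h1).trans ?_
  rw [Category.assoc, Category.assoc, ← Functor.whiskerRight_comp, ← Functor.whiskerRight_comp]
  exact congrArg (fun τ => _ ≫ Functor.whiskerRight τ colim) (ext_square h i)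

theorem HmapOfLE_app (i : ℕ) (M : ModuleCat.{u} R) :
    (Dual2.HmapOfLE h i).app M = (lcIso I' i).hom.app M ≫
      colim.map (HomologicalComplex.homologyMap ((cxNat h).app M) i) ≫ (lcIso I i).inv.app M := by
  rw [← Category.assoc, ← Iso.app_inv, Iso.eq_comp_inv]
  exact NatTrans.congr_app (HmapOfLE_lcIso h i) M

/-- `HmapOfLE` commutes with the connecting maps. -/
theorem δ_HmapOfLE {S : ShortComplex (ModuleCat.{u} R)} (hS : S.ShortExact) (i : ℕ) :
    (lcDelta I').δ hS i ≫ (Dual2.HmapOfLE h (i + 1)).app S.X₁ =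
      (Dual2.HmapOfLE h i).app S.X₃ ≫ (lcDelta I).δ hS i := by
  have key := HomologicalComplex.HomologySequence.δ_naturality (S.mapNatTrans (cxNat h))
    ((lcSystem I').shortExact_homCx hS) ((lcSystem I).shortExact_homCx hS) i (i + 1) (upRel i)
  have key' := congrArg colim.map key
  rw [Functor.map_comp, Functor.map_comp] at key'
  rw [HmapOfLE_app, HmapOfLE_app]
  show ((lcIso I' i).hom.app _ ≫ (lcSystem I').deltaFun.δ hS i ≫ (lcIso I' (i + 1)).inv.app _) ≫ _ =
    _ ≫ ((lcIso I i).hom.app _ ≫ (lcSystem I).deltaFun.δ hS i ≫ (lcIso I (i + 1)).inv.app _)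
  exact square_transport _ ((lcIso I' (i + 1)).app _) ((lcIso I (i + 1)).app _) ((lcIso I i).app _) key'

theorem toH₀_cxNat (M : ModuleCat.{u} R) :
    (lcSystem I').toH₀ M ≫ HomologicalComplex.homologyMap ((cxNat h).app M) 0 =
      Functor.whiskerRight (NatTrans.op (Dual2.quotMapOfLE h)) ((linearYoneda R _).obj M) ≫ (lcSystem I).toH₀ M := by
  let φ : (lcSystem I').homCx M ⟶ (lcSystem I).homCx M := (cxNat h).app M
  show ((((lcSystem I').homCx M).liftCycles ((lcSystem I').η M) 1 (by simp) ((lcSystem I').π₀_d M)) ≫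
      ((lcSystem I').homCx M).homologyπ 0) ≫ HomologicalComplex.homologyMap φ 0 =
    _ ≫ (((lcSystem I).homCx M).liftCycles ((lcSystem I).η M) 1 (by simp) ((lcSystem I).π₀_d M)) ≫
      ((lcSystem I).homCx M).homologyπ 0
  rw [Category.assoc, HomologicalComplex.homologyπ_naturality, ← Category.assoc, ← Category.assoc]
  congr 1
  rw [← cancel_mono (((lcSystem I).homCx M).iCycles 0)]
  simp only [Category.assoc, HomologicalComplex.cyclesMap_i, HomologicalComplex.liftCycles_i,
    HomologicalComplex.liftCycles_i_assoc]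
  apply NatTrans.ext; funext d
  ext (x : (quotSystem I').obj d.unop ⟶ M)
  show ((supP h).app d.unop).f 0 ≫ ((lcSystem I').res d.unop).π.f 0 ≫ x =
    ((lcSystem I).res d.unop).π.f 0 ≫ (Dual2.quotMapOfLE h).app d.unop ≫ x
  rw [← Category.assoc, ← Category.assoc]
  exact congrArg (· ≫ x) (funSystemMap_comm (Dual2.quotMapOfLE h) d.unop)

/-- Degree zero: the inclusion of torsion submodules. -/
theorem lcZeroIso_HmapOfLE (M : ModuleCat.{u} R) (y : (localCohomology I' 0).obj M) :
    ((lcZeroIso I).hom.app M ((Dual2.HmapOfLE h 0).app M y)).1 = ((lcZeroIso I').hom.app M y).1 := by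
  let α : (quotSystem I').op ⋙ (linearYoneda R _).obj M ⟶ (quotSystem I).op ⋙ (linearYoneda R _).obj M :=
    Functor.whiskerRight (NatTrans.op (Dual2.quotMapOfLE h)) ((linearYoneda R _).obj M)
  have h0 : colim.map α ≫ (lcSystem I).cohZeroIso.hom.app M =
      (lcSystem I').cohZeroIso.hom.app M ≫ colim.map (HomologicalComplex.homologyMap ((cxNat h).app M) 0) := by
    show colim.map α ≫ colim.map ((lcSystem I).toH₀ M) = colim.map ((lcSystem I').toH₀ M) ≫ _
    exact ((colim.map_comp _ _).symm.trans (congrArg colim.map (toH₀_cxNat h M).symm)).trans (colim.map_comp _ _)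
  have h1 : colim.map (HomologicalComplex.homologyMap ((cxNat h).app M) 0) ≫
      (lcSystem I).cohZeroIso.inv.app M = (lcSystem I').cohZeroIso.inv.app M ≫ colim.map α :=
    (Iso.eq_inv_comp ((lcSystem I').cohZeroIso.app M)).2 ((Category.assoc _ _ _).symm.trans
      ((Iso.comp_inv_eq ((lcSystem I).cohZeroIso.app M)).2 h0.symm))
  obtain ⟨w, hw⟩ : ∃ w, w = ((lcSystem I').cohZeroIso.inv.app M) ((lcIso I' 0).hom.app M y) := ⟨_, rfl⟩
  have hL : (lcZeroIso I).hom.app M ((Dual2.HmapOfLE h 0).app M y) = (toGamma I).app M (colim.map α w) := by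
    rw [HmapOfLE_app, hw]
    show (toGamma I).app M (((lcSystem I).cohZeroIso.inv.app M) ((lcIso I 0).hom.app M ((lcIso I 0).inv.app M
      (colim.map (HomologicalComplex.homologyMap ((cxNat h).app M) 0) ((lcIso I' 0).hom.app M y))))) = _
    rw [Iso.inv_hom_id_app_apply]
    exact congrArg _ (ConcreteCategory.congr_hom h1 _)
  have hR : (lcZeroIso I').hom.app M y = (toGamma I').app M w := by rw [hw]; rfl
  rw [hL, hR]
  obtain ⟨n, x, rfl⟩ := Concrete.colimit_exists_rep
    (((quotSystem I').op ⋙ linearCoyoneda R _).flip.obj M) w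
  have e1 : colim.map α (colimit.ι ((quotSystem I').op ⋙ (linearYoneda R _).obj M) n x) =
      colimit.ι ((quotSystem I).op ⋙ (linearYoneda R _).obj M) n (α.app n x) :=
    ConcreteCategory.congr_hom (ι_colimMap α n) x
  refine (congrArg (fun z => ((toGamma I).app M z).1) e1).trans ?_
  refine (congrArg Subtype.val (ConcreteCategory.congr_hom (toGamma_ι I M n) (α.app n x))).trans ?_
  exact (congrArg Subtype.val (ConcreteCategory.congr_hom (toGamma_ι I' M n) x)).symm

end LocCohLib
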