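import Groth.Agent.LocCohLib.ExtModel
import Mathlib.Algebra.Homology.LocalCohomology
import Mathlib.CategoryTheory.Functor.OfSequence
import Mathlib.CategoryTheory.Abelian.FunctorCategory
import Mathlib.Algebra.Homology.ShortComplex.PreservesHomology
import Mathlib.CategoryTheory.Abelian.GrothendieckAxioms.FunctorCategory
import Mathlib.Algebra.Category.ModuleCat.AB
import Mathlib.Algebra.Homology.HomologicalComplexAbelian

/-! A complex computing a direct limit of `Ext` groups, exact in the module. -/

set_option autoImplicit false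
set_option maxHeartbeats 400000
universe v u

noncomputable section

open CategoryTheory Limits Opposite

namespace LocCohLib

theorem square_trans {E : Type*} [Category E] {A A' B B' C C' : E} {L : A ⟶ A'} {a : A ≅ B}
    {a' : A' ≅ B'} {b : B ≅ C} {b' : B' ≅ C'} {m : B ⟶ B'} {n : C ⟶ C'}
    (h1 : L ≫ a'.hom = a.hom ≫ m) (h2 : m ≫ b'.hom = b.hom ≫ n) :
    L ≫ (a' ≪≫ b').hom = (a ≪≫ b).hom ≫ n := by
  simp [reassoc_of% h1, h2]

variable {R : Type u} [CommRing R] {D : Type v} [SmallCategory D]

/-- A functorial choice of projective resolutions of a system of modules. -/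
structure ResSystem (X : D ⥤ ModuleCat.{u} R) where
  /-- the resolutions -/
  res : ∀ d, ProjectiveResolution (X.obj d)
  /-- the system -/
  map : ∀ {d d' : D} (_ : d ⟶ d'), (res d).complex ⟶ (res d').complex
  map_id : ∀ d, map (𝟙 d) = 𝟙 _
  map_comp : ∀ {d d' d'' : D} (f : d ⟶ d') (g : d' ⟶ d''), map (f ≫ g) = map f ≫ map g
  comm : ∀ {d d' : D} (f : d ⟶ d'), (map f).f 0 ≫ (res d').π.f 0 = (res d).π.f 0 ≫ X.map f

namespace ResSystem

variable {X : D ⥤ ModuleCat.{u} R} (S : ResSystem X)

/-- The resolutions as a functor. -/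
@[simps]
def P : D ⥤ ChainComplex (ModuleCat.{u} R) ℕ where
  obj d := (S.res d).complex
  map f := S.map f
  map_id d := S.map_id d
  map_comp f g := S.map_comp f g

/-- The complex of systems `Hom(P, M)`. -/
def homCx (M : ModuleCat.{u} R) : CochainComplex (Dᵒᵖ ⥤ ModuleCat.{u} R) ℕ where
  X j := (S.P ⋙ HomologicalComplex.eval _ _ j).op ⋙ (linearYoneda R _).obj M
  d i j := Functor.whiskerRight (NatTrans.op (Functor.whiskerLeft S.P
    (HomologicalComplex.dNatTrans _ (ComplexShape.down ℕ) j i))) ((linearYoneda R _).obj M)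
  shape i j hij := by
    apply NatTrans.ext; funext d
    exact ((S.res d.unop).complex.linearYonedaObj R M).shape i j hij
  d_comp_d' i j k hij hjk := by
    apply NatTrans.ext; funext d
    exact ((S.res d.unop).complex.linearYonedaObj R M).d_comp_d i j k

/-- `Hom(P, g)`. -/
def homCxMap {M N : ModuleCat.{u} R} (g : M ⟶ N) : S.homCx M ⟶ S.homCx N where
  f j := Functor.whiskerLeft (S.P ⋙ HomologicalComplex.eval _ _ j).op ((linearYoneda R _).map g)
  comm' i j _ := by
    apply NatTrans.ext; funext d
    exact (yonedaObjMapY R (S.res d.unop).complex g).comm i j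

/-- The complex as a functor of the module. -/
@[simps]
def homCxFunctor : ModuleCat.{u} R ⥤ CochainComplex (Dᵒᵖ ⥤ ModuleCat.{u} R) ℕ where
  obj := S.homCx
  map := S.homCxMap
  map_id M := by
    ext j : 1
    apply NatTrans.ext; funext d
    ext (x : _ ⟶ M)
    exact Category.comp_id x
  map_comp f g := by
    ext j : 1
    apply NatTrans.ext; funext d
    ext (x : _ ⟶ _)
    exact (Category.assoc x f g).symm

variable [HasColimitsOfShape Dᵒᵖ (ModuleCat.{u} R)]

/-- The cohomology of `colim Hom(P, M)`, as a functor of `M`. -/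
def coh (i : ℕ) : ModuleCat.{u} R ⥤ ModuleCat.{u} R :=
  S.homCxFunctor ⋙ HomologicalComplex.homologyFunctor _ _ i ⋙ colim

omit [HasColimitsOfShape Dᵒᵖ (ModuleCat.{u} R)] in
/-- Evaluating the homology of the complex of systems. -/
def evalIso (i : ℕ) (M : ModuleCat.{u} R) (d : Dᵒᵖ) :
    ((S.res d.unop).complex.linearYonedaObj R M).homology i ≅ ((S.homCx M).homology i).obj d :=
  ((S.homCx M).sc i).mapHomologyIso ((evaluation Dᵒᵖ (ModuleCat.{u} R)).obj d)

omit [HasColimitsOfShape Dᵒᵖ (ModuleCat.{u} R)] in
theorem evalIso_naturality_right (i : ℕ) {M N : ModuleCat.{u} R} (g : M ⟶ N) (d : Dᵒᵖ) :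
    HomologicalComplex.homologyMap (yonedaObjMapY R (S.res d.unop).complex g) i ≫ (S.evalIso i N d).hom =
      (S.evalIso i M d).hom ≫ (HomologicalComplex.homologyMap (S.homCxMap g) i).app d :=
  ShortComplex.mapHomologyIso_hom_naturality
    ((HomologicalComplex.shortComplexFunctor _ _ i).map (S.homCxMap g))
    ((evaluation Dᵒᵖ (ModuleCat.{u} R)).obj d)

omit [HasColimitsOfShape Dᵒᵖ (ModuleCat.{u} R)] in
theorem evalIso_naturality_left (i : ℕ) (M : ModuleCat.{u} R) {d d' : Dᵒᵖ} (f : d ⟶ d') :
    HomologicalComplex.homologyMap (yonedaObjMapX R (S.map f.unop) M) i ≫ (S.evalIso i M d').hom =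
      (S.evalIso i M d).hom ≫ ((S.homCx M).homology i).map f := by
  have h := ShortComplex.homologyMap_mapNatTrans ((S.homCx M).sc i)
    ((evaluation Dᵒᵖ (ModuleCat.{u} R)).map f)
  refine (Iso.eq_comp_inv (S.evalIso i M d')).1 ?_
  rw [Category.assoc]
  exact h

/-- The `Ext` system and the homology system agree. -/
def extIso (i : ℕ) :
    (X.op ⋙ Ext R (ModuleCat.{u} R) i).flip ≅
      S.homCxFunctor ⋙ HomologicalComplex.homologyFunctor _ _ i :=
  NatIso.ofComponents (fun M => NatIso.ofComponents
      (fun d => (S.res d.unop).isoExt i M ≪≫ S.evalIso i M d)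
      (fun {d d'} f => square_trans
        (isoExt_naturality_left (R := R) (X.map f.unop) (S.res d'.unop) (S.res d.unop)
          (S.map f.unop) (S.comm f.unop) i M) (S.evalIso_naturality_left i M f)))
    (fun {M N} g => by
      apply NatTrans.ext; funext d
      exact square_trans (isoExt_naturality_right (R := R) (S.res d.unop) i g)
        (S.evalIso_naturality_right i g d))

/-- The colimit of `Ext` is the cohomology of the colimit complex. -/
def colimExtIso (i : ℕ) : colimit (X.op ⋙ Ext R (ModuleCat.{u} R) i) ≅ S.coh i :=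
  colimitIsoFlipCompColim _ ≪≫ Functor.isoWhiskerRight (S.extIso i) colim

end ResSystem

end LocCohLib
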