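import Groth.Agent.LocCohLib.ChangeSupport
import Mathlib.RingTheory.Localization.AtPrime.Basic

/-! Change of support and local conditions. -/

set_option autoImplicit false
set_option maxHeartbeats 1000000
universe u

noncomputable section

open CategoryTheory Limits Opposite

namespace LocCohLib

variable {A : Type u} [CommRing A] [IsNoetherianRing A]

theorem HmapOfLE_comp {I J K : Ideal A} (h : I ≤ J) (h' : J ≤ K) (i : ℕ) :
    Dual2.HmapOfLE h' i ≫ Dual2.HmapOfLE h i = Dual2.HmapOfLE (h.trans h') i := by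
  refine DeltaFun.UnderCompat.ext (T := lcDelta K) (T' := lcDelta I) (lcDelta_effaceable K)
    (DeltaFun.UnderCompat.comp (T := lcDelta K) (T' := lcDelta J) (T'' := lcDelta I)
      (fun M j => δ_HmapOfLE h' (DeltaFun.under_shortExact M) j)
      (fun M j => δ_HmapOfLE h (DeltaFun.under_shortExact M) j))
    (fun M j => δ_HmapOfLE (h.trans h') (DeltaFun.under_shortExact M) j) ?_ i
  apply NatTrans.ext; funext M
  ext (y : (localCohomology K 0).obj M)
  refine (ConcreteCategory.bijective_of_isIso ((lcZeroIso I).hom.app M)).1 (Subtype.ext ?_)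
  exact ((lcZeroIso_HmapOfLE h M ((Dual2.HmapOfLE h' 0).app M y)).trans (lcZeroIso_HmapOfLE h' M y)).trans
    (lcZeroIso_HmapOfLE (h.trans h') M y).symm

variable {M : Type u} [AddCommGroup M] [Module A M]

/-- The vanishing at a prime, without naming the maximal ideal. -/
theorem subsingleton_loc_H_iff (p : Ideal A) [p.IsPrime] (i : ℕ) :
    Subsingleton (LocalizedModule p.primeCompl (LocCoh.H p i M)) ↔
      Subsingleton (LocCoh.H (IsLocalRing.maximalIdeal (Localization.AtPrime p)) i
        (LocalizedModule p.primeCompl M)) := by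
  rw [(locLcEquiv p.primeCompl M i).toEquiv.subsingleton_congr]
  rw [← Localization.AtPrime.map_eq_maximalIdeal]

/-- Local vanishing gives global vanishing, away from `b`. -/
theorem exists_pow_smul_eq_zero_of_local (b : A) (i : ℕ) : ∀ (I : Ideal A),
    (∀ p : PrimeSpectrum A, I ≤ p.asIdeal → b ∉ p.asIdeal →
      Subsingleton (LocalizedModule p.asIdeal.primeCompl (LocCoh.H p.asIdeal i M))) →
    ∀ y : LocCoh.H I i M, ∃ n : ℕ, b ^ n • y = 0 := by
  intro I
  haveI : WellFoundedGT (Ideal A) := inferInstance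
  induction I using WellFoundedGT.induction with
  | ind I ih =>
    intro h y
    by_cases htop : I = ⊤
    · obtain ⟨n, hn⟩ := isPowerTorsion_H I i M y
      exact ⟨n, hn _ (by rw [htop, ← Ideal.one_eq_top, one_pow, Ideal.one_eq_top]; trivial)⟩
    have step : ∀ c ∉ I, ∀ x : LocCoh.H I i M, (∃ k : ℕ, c ^ k • x = 0) → ∃ n : ℕ, b ^ n • x = 0 := by
      intro c hc x hx
      have hle : I ≤ I ⊔ Ideal.span {c} := le_sup_left
      obtain ⟨z, rfl⟩ := (mem_range_HmapOfLE rfl hle i M x).2 hx
      obtain ⟨n, hn⟩ := ih (I ⊔ Ideal.span {c})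
        (lt_of_le_of_ne hle fun e => hc (e ▸ Ideal.mem_sup_right (Ideal.mem_span_singleton_self c)))
        (fun p hp hb => h p (hle.trans hp) hb) z
      exact ⟨n, (map_smul ((Dual2.HmapOfLE hle i).app (ModuleCat.of A M)).hom (b ^ n) z).symm.trans
        ((congrArg _ hn).trans (map_zero _))⟩
    by_cases hprime : I.IsPrime
    · by_cases hb : b ∈ I
      · obtain ⟨n, hn⟩ := isPowerTorsion_H I i M y
        exact ⟨n, hn _ (Ideal.pow_mem_pow hb n)⟩
      · haveI := h ⟨I, hprime⟩ le_rfl hb
        obtain ⟨s, hs, hs0⟩ := LocalizedModule.subsingleton_iff.1 this y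
        exact step s hs y ⟨1, by rw [pow_one]; exact hs0⟩
    obtain ⟨a, ha, c, hc, hac⟩ : ∃ a ∉ I, ∃ c ∉ I, a * c ∈ I := by
      by_contra hcon
      push_neg at hcon
      exact hprime ⟨htop, fun {x y} hxy => or_iff_not_imp_left.2 fun hx => by
        by_contra hy
        exact hcon x hx y hy hxy⟩
    let S := Submonoid.powers c
    have hle : I ≤ I ⊔ Ideal.span {a} := le_sup_left
    have hmap : (I ⊔ Ideal.span {a}).map (algebraMap A (Localization S)) = I.map (algebraMap A (Localization S)) := by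
      refine le_antisymm ?_ (Ideal.map_mono hle)
      rw [Ideal.map_sup, sup_le_iff, Ideal.map_span, Set.image_singleton, Ideal.span_le, Set.singleton_subset_iff]
      refine ⟨le_rfl, ?_⟩
      obtain ⟨u, hu⟩ := IsLocalization.map_units (Localization S) (⟨c, Submonoid.mem_powers c⟩ : S)
      rw [SetLike.mem_coe, ← Units.mul_inv_cancel_right (algebraMap A (Localization S) a) u]
      refine Ideal.mul_mem_right _ _ ?_
      rw [hu, ← map_mul]
      exact Ideal.mem_map_of_mem _ hac
    let e : LocalizedModule S (LocCoh.H I i M) ≃ₗ[Localization S] LocalizedModule S (LocCoh.H (I ⊔ Ideal.span {a}) i M) :=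
      (locLcEquiv S M i).trans (((eqToIso (congrArg
        (fun K : Ideal (Localization S) => (localCohomology K i).obj (ModuleCat.of _ (LocalizedModule S M)))
        hmap.symm)).toLinearEquiv).trans (locLcEquiv S M i).symm)
    obtain ⟨⟨z, s⟩, hz⟩ := IsLocalizedModule.mk'_surjective S (LocalizedModule.mkLinearMap S _)
      (e (LocalizedModule.mkLinearMap S _ y))
    obtain ⟨n, hn⟩ := ih (I ⊔ Ideal.span {a})
      (lt_of_le_of_ne hle fun e => ha (e ▸ Ideal.mem_sup_right (Ideal.mem_span_singleton_self a)))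
      (fun p hp hb => h p (hle.trans hp) hb) z
    have h0 : LocalizedModule.mkLinearMap S _ (b ^ n • y) = 0 := by
      apply e.injective
      rw [map_smul, map_zero]
      refine (e.toLinearMap.map_smul_of_tower (b ^ n) _).trans ?_
      rw [LinearEquiv.coe_coe, ← hz, Function.uncurry_apply_pair,
        ← IsLocalizedModule.mk'_smul, hn, IsLocalizedModule.mk'_zero]
    obtain ⟨⟨_, k, rfl⟩, hk⟩ := (IsLocalizedModule.eq_zero_iff S _).1 h0
    obtain ⟨m, hm⟩ := step c hc (b ^ n • y) ⟨k, hk⟩
    exact ⟨m + n, by rw [pow_add, mul_smul]; exact hm⟩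

theorem HmapOfLE_surjective_injective {I I' : Ideal A} (h : I ≤ I') (i : ℕ) :
    ((∀ p : PrimeSpectrum A, I ≤ p.asIdeal → ¬ I' ≤ p.asIdeal →
        Subsingleton (LocalizedModule p.asIdeal.primeCompl (LocCoh.H p.asIdeal i M))) →
      Function.Surjective ((Dual2.HmapOfLE h i).app (ModuleCat.of A M)).hom) ∧
    ((∀ p : PrimeSpectrum A, I ≤ p.asIdeal → ¬ I' ≤ p.asIdeal → ∀ j : ℕ, j + 1 = i →
        Subsingleton (LocalizedModule p.asIdeal.primeCompl (LocCoh.H p.asIdeal j M))) →
      Function.Injective ((Dual2.HmapOfLE h i).app (ModuleCat.of A M)).hom) := by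
  obtain ⟨fs, hfs⟩ := exists_list_span I'
  have hI' : ∀ x ∈ fs, x ∈ I' := fun x hx => hfs ▸ Ideal.subset_span hx
  suffices key : ∀ (l : List A), (∀ x ∈ l, x ∈ I') → ∀ (J : Ideal A), J = I ⊔ Ideal.span {x | x ∈ l} →
      ∀ (hJ : I ≤ J),
      ((∀ p : PrimeSpectrum A, I ≤ p.asIdeal → ¬ I' ≤ p.asIdeal →
          Subsingleton (LocalizedModule p.asIdeal.primeCompl (LocCoh.H p.asIdeal i M))) →
        Function.Surjective ((Dual2.HmapOfLE hJ i).app (ModuleCat.of A M)).hom) ∧
      ((∀ p : PrimeSpectrum A, I ≤ p.asIdeal → ¬ I' ≤ p.asIdeal → ∀ j : ℕ, j + 1 = i →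
          Subsingleton (LocalizedModule p.asIdeal.primeCompl (LocCoh.H p.asIdeal j M))) →
        Function.Injective ((Dual2.HmapOfLE hJ i).app (ModuleCat.of A M)).hom) by
    exact key fs hI' I' (by rw [hfs, sup_eq_right.2 h]) h
  intro l
  induction l with
  | nil =>
    intro _ J hJe hJ
    have : J = I := by simpa using hJe
    subst this
    have hid : ∀ y, ((Dual2.HmapOfLE hJ i).app (ModuleCat.of A M)).hom y = y := by
      have hu : Dual2.HmapOfLE hJ i = 𝟙 _ := DeltaFun.UnderCompat.ext (T := lcDelta J) (T' := lcDelta J)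
        (lcDelta_effaceable J) (fun M j => δ_HmapOfLE hJ (DeltaFun.under_shortExact M) j)
        (β := fun j => 𝟙 _) (fun M j => (Category.comp_id _).trans (Category.id_comp _).symm) (by
          apply NatTrans.ext; funext N
          ext (y : (localCohomology J 0).obj N)
          exact (ConcreteCategory.bijective_of_isIso ((lcZeroIso J).hom.app N)).1
            (Subtype.ext (lcZeroIso_HmapOfLE hJ N y))) i
      exact fun y => ConcreteCategory.congr_hom (NatTrans.congr_app hu (ModuleCat.of A M)) y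
    exact ⟨fun _ y => ⟨y, hid y⟩, fun _ x y hxy => (hid x).symm.trans (hxy.trans (hid y))⟩
  | cons b l ih =>
    intro hl J hJe hJ
    let K := I ⊔ Ideal.span {x | x ∈ l}
    have hK : I ≤ K := le_sup_left
    have hJK : J = K ⊔ Ideal.span {b} := by
      rw [hJe, show {x | x ∈ b :: l} = insert b {x | x ∈ l} by ext; simp, Ideal.span_insert,
        sup_comm (Ideal.span {b}), sup_assoc]
    have hKJ : K ≤ J := hJK ▸ le_sup_left
    obtain ⟨ihs, ihi⟩ := ih (fun x hx => hl x (List.mem_cons_of_mem _ hx)) K rfl hK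
    have hcond : ∀ p : PrimeSpectrum A, K ≤ p.asIdeal → b ∉ p.asIdeal → I ≤ p.asIdeal ∧ ¬ I' ≤ p.asIdeal :=
      fun p hp hb => ⟨hK.trans hp, fun hle => hb (hle (hl b (List.mem_cons_self ..)))⟩
    have hfun : ∀ y, ((Dual2.HmapOfLE hJ i).app (ModuleCat.of A M)).hom y =
        ((Dual2.HmapOfLE hK i).app (ModuleCat.of A M)).hom (((Dual2.HmapOfLE hKJ i).app (ModuleCat.of A M)).hom y) :=
      fun y => (ConcreteCategory.congr_hom (NatTrans.congr_app (HmapOfLE_comp hK hKJ i) (ModuleCat.of A M)) y).symm
    constructor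
    · intro hc z
      obtain ⟨w, rfl⟩ := ihs hc z
      obtain ⟨v, rfl⟩ := (mem_range_HmapOfLE hJK hKJ i M w).2
        (exists_pow_smul_eq_zero_of_local b i K (fun p hp hb => hc p (hcond p hp hb).1 (hcond p hp hb).2) w)
      exact ⟨v, hfun v⟩
    · intro hc
      have hinj : Function.Injective ((Dual2.HmapOfLE hKJ i).app (ModuleCat.of A M)).hom := by
        rcases i with _ | j
        · exact HmapOfLE_app_injective hKJ _
        · obtain ⟨q⟩ := nonempty_kerHmap_equiv hJK hKJ j M (LinearEquiv.refl A (LocCoh.H K j M))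
            (LocalizedModule.mkLinearMap (Submonoid.powers b) (LocCoh.H K j M))
          haveI := subsingleton_loc_of_torsion b (LocCoh.H K j M) (exists_pow_smul_eq_zero_of_local b j K
            fun p hp hb => hc p (hcond p hp hb).1 (hcond p hp hb).2 j rfl)
          haveI := q.symm.injective.subsingleton
          rw [← LinearMap.ker_eq_bot, ← Submodule.subsingleton_iff_eq_bot]
          infer_instance
      intro x y hxy
      exact hinj (ihi hc ((hfun x).symm.trans (hxy.trans (hfun y))))

end LocCohLib
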